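import Cfsg.Agent.MaxNorm91.Defs
import Cfsg.Agent.Lib.Dickson.Tori

/-!
# `FieldStmt`: only `q = 5, 11, 13` are left

A unipotent element and an inverted cyclic subgroup give subgroups with two primes whose
normalizers would not be maximal.
-/

set_option autoImplicit false
set_option linter.unusedSectionVars false
set_option linter.style.haveILetI false

namespace Cfsg.Agent.MaxNorm91

open Subgroup MulAction OnePoint
open Cfsg.Agent.Dickson

attribute [local instance] Cfsg.Agent.PLocalB.lineAction pslLine pslBar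

universe u

namespace FieldAux

variable {Q : Type u} [Group Q] [Finite Q] {F : Type} [Field F] [Fintype F] {T : Subgroup Q}
  (e : ↥T ≃* PSL2 F)

/-- `PSL(2, F)` inside `Q`. -/
noncomputable def emb : PSL2 F →* Q := T.subtype.comp e.symm.toMonoidHom

theorem emb_injective : Function.Injective (emb e) :=
  T.subtype_injective.comp e.symm.injective

theorem emb_mem (x : PSL2 F) : emb e x ∈ T := (e.symm x).2

theorem exists_emb {z : Q} (hz : z ∈ T) : ∃ x : PSL2 F, emb e x = z :=
  ⟨e ⟨z, hz⟩, congrArg Subtype.val (e.symm_apply_apply ⟨z, hz⟩)⟩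

/-- When `H` has two primes and its normalizer normalises `X`, the two normalizers agree. -/
theorem key (hT : Ctx T) {H X : Subgroup (PSL2 F)} (hH : H ≠ ⊥)
    (h2 : TwoPrimes (H.map (emb e))) (hX0 : X ≠ ⊥) (hX1 : X ≠ ⊤)
    (hle : ∀ q ∈ normalizer ((H.map (emb e) : Subgroup Q) : Set Q), ∀ x ∈ X,
      q * emb e x * q⁻¹ ∈ X.map (emb e))
    {g : PSL2 F} (hg : g ∈ normalizer (X : Set (PSL2 F))) {h : PSL2 F} (hh : h ∈ H) :
    g * h * g⁻¹ ∈ H := by
  have hsimp : IsSimpleGroup ↥T := hT.simple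
  set Hm := H.map (emb e) with hHm
  set Xm := X.map (emb e) with hXm
  have hHb : Hm ≠ ⊥ := fun h0 => hH ((map_eq_bot_iff_of_injective H (emb_injective e)).1 h0)
  have hsub : normalizer (Hm : Set Q) ≤ normalizer (Xm : Set Q) := by
    intro q hq
    have hfwd : ∀ r ∈ normalizer (Hm : Set Q), ∀ z ∈ Xm, r * z * r⁻¹ ∈ Xm := by
      rintro r hr _ ⟨x, hx, rfl⟩
      exact hle r hr x hx
    rw [mem_normalizer_iff]
    intro z
    refine ⟨hfwd q hq z, fun hz => ?_⟩
    have h1 := hfwd q⁻¹ (inv_mem hq) _ hz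
    rwa [show q⁻¹ * (q * z * q⁻¹) * q⁻¹⁻¹ = z by group] at h1
  have hne : normalizer (Xm : Set Q) ≠ ⊤ := by
    intro htop
    haveI hXn : (X.comap e.toMonoidHom).Normal := by
      refine ⟨fun x hx g => ?_⟩
      have hgn : emb e (e g) ∈ normalizer (Xm : Set Q) := htop ▸ mem_top _
      have h1 := (mem_normalizer_iff.1 hgn _).1 (mem_map_of_mem (emb e) hx)
      rw [← map_inv, ← map_mul, ← map_mul] at h1
      obtain ⟨y, hy, hye⟩ := h1
      show e (g * x * g⁻¹) ∈ X
      rw [map_mul, map_mul, map_inv]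
      exact emb_injective e hye ▸ hy
    rcases hsimp.eq_bot_or_eq_top_of_normal _ hXn with h0 | h0
    · exact hX0 ((eq_bot_iff_forall X).2 fun x hx => by
        have h1 : e.symm x ∈ X.comap e.toMonoidHom := by
          show e (e.symm x) ∈ X
          rw [e.apply_symm_apply]; exact hx
        rw [h0, mem_bot] at h1
        exact e.symm.injective (h1.trans (map_one e.symm).symm))
    · exact hX1 ((eq_top_iff' X).2 fun x => by
        have h1 : e.symm x ∈ X.comap e.toMonoidHom := h0 ▸ mem_top _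
        rwa [mem_comap, MulEquiv.coe_toMonoidHom, e.apply_symm_apply] at h1)
  have heq : normalizer (Xm : Set Q) = normalizer (Hm : Set Q) :=
    ((hT.max Hm hHb h2).le_iff.1 hsub).resolve_left hne
  have hgX : emb e g ∈ normalizer (Xm : Set Q) := by
    rw [mem_normalizer_iff]
    intro z
    constructor
    · rintro ⟨x, hx, rfl⟩
      rw [← map_inv, ← map_mul, ← map_mul]
      exact mem_map_of_mem _ ((mem_normalizer_iff.1 hg x).1 hx)
    · rintro ⟨x, hx, hxz⟩
      refine ⟨g⁻¹ * x * g, ?_, ?_⟩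
      · exact (mem_normalizer_iff.1 hg _).2 (by simpa [mul_assoc] using hx)
      · rw [map_mul, map_mul, map_inv, hxz]; group
  rw [heq] at hgX
  have h1 := (mem_normalizer_iff.1 hgX _).1 (mem_map_of_mem (emb e) hh)
  rw [← map_inv, ← map_mul, ← map_mul] at h1
  obtain ⟨y, hy, hye⟩ := h1
  exact emb_injective e hye ▸ hy

include e in
/-- The squares lie in the prime field. -/
theorem sq_mem_prime (hT : Ctx T) (p : ℕ) [Fact p.Prime] [CharP F p] (a : F) (ha : a ≠ 0) :
    ∃ i : ℤ, a ^ 2 = (i : F) := by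
  classical
  have hp : p.Prime := Fact.out
  set u : PSL2 F := uppHom F (Multiplicative.ofAdd 1) with hu
  have hu1 : u ≠ 1 := fun h0 =>
    one_ne_zero (α := F) (congrArg Multiplicative.toAdd
      (uppHom_injective (h0.trans (map_one _).symm)))
  have hup : u ^ p = 1 := by
    rw [hu, ← map_pow, ← ofAdd_nsmul, nsmul_one, CharP.cast_eq_zero, ofAdd_zero, map_one]
  have hcard : Nat.card (zpowers u) = p ^ 1 := by
    rw [Nat.card_zpowers, orderOf_eq_prime hup hu1, pow_one]
  set U : Subgroup (PSL2 F) := (uppHom F).range with hU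
  have hcomm : ∀ x ∈ U, ∀ y ∈ U, x * y = y * x := by
    rintro _ ⟨x, rfl⟩ _ ⟨y, rfl⟩
    rw [← map_mul, ← map_mul, mul_comm]
  have huU : u ∈ U := ⟨_, rfl⟩
  have hfix : ∀ v : OnePoint F, u • v = v ↔ v = ∞ :=
    (isUni_infty_iff_upp.2 ⟨1, rfl⟩).resolve_left hu1
  -- the centraliser of `u` is `U`
  have hcent : ∀ g : PSL2 F, g * u = u * g → g ∈ U := by
    intro g hg
    have h1 : g • (∞ : OnePoint F) = ∞ := by
      apply (hfix _).1
      rw [← mul_smul, ← hg, mul_smul, (hfix ∞).2 rfl]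
    obtain ⟨A, rfl, h10⟩ := exists_upper_rep h1
    have h00 : A 0 0 ^ 2 = 1 := by
      have hd := upper_diag h10
      have h0 : A 0 0 ≠ 0 := left_ne_zero_of_mul_eq_one hd
      have hmk : (QuotientGroup.mk (A * PLocalB.upper 1) : PSL2 F) =
          QuotientGroup.mk (PLocalB.upper 1 * A) := hg
      rcases mk_eq_mk_iff.mp hmk with h2 | h2
      · have := congrArg (fun B : Matrix.SpecialLinearGroup (Fin 2) F => B 0 1) h2
        simp only [Matrix.SpecialLinearGroup.coe_mul, Matrix.mul_apply, Fin.sum_univ_two, PLocalB.coe_upper] at this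
        simp at this
        have h3 : A 0 0 = A 1 1 := by linear_combination this
        rw [pow_two]; nth_rewrite 2 [h3]; exact hd
      · have e0 := congrArg (fun B : Matrix.SpecialLinearGroup (Fin 2) F => B 0 0) h2
        have e1 := congrArg (fun B : Matrix.SpecialLinearGroup (Fin 2) F => B 0 1) h2
        simp only [Matrix.SpecialLinearGroup.coe_mul, Matrix.SpecialLinearGroup.coe_neg, Matrix.neg_apply, Matrix.mul_apply, Fin.sum_univ_two, PLocalB.coe_upper] at e0 e1
        simp [h10] at e0 e1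
        have h3 : (2 : F) * A 0 0 = 0 := by linear_combination e0
        rcases mul_eq_zero.1 h3 with h4 | h4
        · have h5 : A 0 0 = A 1 1 := by linear_combination e1 - A 1 1 * h4 - A 0 1 * h4
          rw [pow_two]; nth_rewrite 2 [h5]; exact hd
        · exact absurd h4 h0
    obtain ⟨b, hb⟩ := isUni_infty_iff_upp.1 ((isUni_infty_iff h10).2 h00)
    exact ⟨_, hb.symm⟩
  have hUne : U ≠ ⊤ := fun h0 => by
    have h1 := stabilizer_point_ne_top (∞ : OnePoint F)
    refine h1 (top_le_iff.1 (h0 ▸ fun x hx => ?_))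
    obtain ⟨b, rfl⟩ := hx
    exact mem_stabilizer_iff.2 (isUni_infty_iff_upp.2 ⟨b.toAdd, rfl⟩).smul_eq
  -- the diagonal element
  let d : Matrix.SpecialLinearGroup (Fin 2) F := ⟨!![a, 0; 0, a⁻¹], by simp [Matrix.det_fin_two_of, ha]⟩
  have hd : (QuotientGroup.mk d : PSL2 F) * u * (QuotientGroup.mk d)⁻¹ =
      uppHom F (Multiplicative.ofAdd (a ^ 2)) := by
    rw [mul_inv_eq_iff_eq_mul]
    have hu' : u = QuotientGroup.mk (PLocalB.upper (1 : F)) := rfl
    have hu2 : uppHom F (Multiplicative.ofAdd (a ^ 2)) =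
        QuotientGroup.mk (PLocalB.upper (a ^ 2)) := rfl
    rw [hu', hu2, ← QuotientGroup.mk_mul, ← QuotientGroup.mk_mul]
    refine congrArg (fun B : Matrix.SpecialLinearGroup (Fin 2) F => (QuotientGroup.mk B : PSL2 F))
      (Subtype.ext ?_)
    rw [Matrix.SpecialLinearGroup.coe_mul, Matrix.SpecialLinearGroup.coe_mul, PLocalB.coe_upper,
      PLocalB.coe_upper, show (d : Matrix (Fin 2) (Fin 2) F) = !![a, 0; 0, a⁻¹] from rfl,
      Matrix.mul_fin_two, Matrix.mul_fin_two]
    simp [pow_two, ha]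
  have hdN : (QuotientGroup.mk d : PSL2 F) ∈ normalizer (U : Set (PSL2 F)) :=
    le_normalizer_upp (by
      rw [Dickson.mk_smul]
      exact (PLocalB.smul_infty_iff d).2 (by simp [d]))
  have h2 : TwoPrimes ((zpowers u).map (emb e)) :=
    TwoPrimes.of_isPGroup ((IsPGroup.of_card hcard).map (emb e))
  have hH0 : zpowers u ≠ ⊥ := fun h0 => hu1 (zpowers_eq_bot.1 h0)
  have hU0 : U ≠ ⊥ := fun h0 => hu1 ((eq_bot_iff_forall U).1 h0 u huU)
  have := key e hT hH0 h2 hU0 hUne (fun q hq x hx => ?_) hdN (mem_zpowers u)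
  · rw [hd] at this
    obtain ⟨i, hi⟩ := mem_zpowers_iff.1 this
    refine ⟨i, ?_⟩
    rw [hu, ← map_zpow, ← ofAdd_zsmul] at hi
    have h3 := Multiplicative.ofAdd.injective (uppHom_injective hi)
    rw [zsmul_one] at h3
    exact h3.symm
  · haveI := hT.normal
    obtain ⟨z, hz⟩ := exists_emb e (hT.normal.conj_mem _ (emb_mem e x) q)
    rw [← hz]
    refine mem_map_of_mem _ (hcent z ?_)
    apply emb_injective e
    rw [map_mul, map_mul, hz]
    have hq' : q⁻¹ * emb e u * q⁻¹⁻¹ ∈ (zpowers u).map (emb e) :=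
      (mem_normalizer_iff.1 (inv_mem hq) _).1 (mem_map_of_mem _ (mem_zpowers u))
    obtain ⟨w, hw, hwe⟩ := hq'
    have hwU : w ∈ U := zpowers_le.2 huU hw
    have hc : emb e x * emb e w = emb e w * emb e x := by
      rw [← map_mul, ← map_mul, hcomm x hx w hwU]
    rw [hwe, inv_inv] at hc
    calc q * emb e x * q⁻¹ * emb e u
        = q * (emb e x * (q⁻¹ * emb e u * q)) * q⁻¹ := by group
      _ = q * (q⁻¹ * emb e u * q * emb e x) * q⁻¹ := by rw [hc]
      _ = emb e u * (q * emb e x * q⁻¹) := by group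

include e in
/-- The field is a prime field. -/
theorem card_eq_char (hT : Ctx T) (p : ℕ) [Fact p.Prime] [CharP F p]
    (hF : 4 ≤ Fintype.card F) : Fintype.card F = p := by
  classical
  have hp : p.Prime := Fact.out
  set s : Finset F := Finset.univ.erase 0 with hs
  set t : Finset F := (Finset.univ.erase (0 : ZMod p)).image (ZMod.castHom dvd_rfl F) with ht
  have himg : s.image (fun a => a ^ 2) ⊆ t := by
    intro b hb
    obtain ⟨a, ha, rfl⟩ := Finset.mem_image.1 hb
    have ha0 : a ≠ 0 := (Finset.mem_erase.1 ha).1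
    obtain ⟨i, hi⟩ := sq_mem_prime e hT p a ha0
    refine Finset.mem_image.2 ⟨(i : ZMod p), Finset.mem_erase.2 ⟨fun h0 => ?_, Finset.mem_univ _⟩, ?_⟩
    · have := congrArg (ZMod.castHom dvd_rfl F) h0
      rw [map_intCast, map_zero, ← hi] at this
      exact pow_ne_zero 2 ha0 this
    · rw [map_intCast, hi]
  have h1 : s.card ≤ 2 * (s.image (fun a => a ^ 2)).card := by
    refine Finset.card_le_mul_card_image s 2 fun b hb => ?_
    obtain ⟨a, -, rfl⟩ := Finset.mem_image.1 hb
    refine (Finset.card_le_card (t := ({a, -a} : Finset F)) fun c hc => ?_).trans Finset.card_le_two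
    rcases sq_eq_sq_iff_eq_or_eq_neg.1 (Finset.mem_filter.1 hc).2 with h | h <;> simp [h]
  have h2 : t.card ≤ p - 1 := Finset.card_image_le.trans (by simp [Finset.card_erase_of_mem])
  have h3 := Finset.card_le_card himg
  have h4 : s.card = Fintype.card F - 1 := by
    rw [hs, Finset.card_erase_of_mem (Finset.mem_univ _), Finset.card_univ]
  obtain ⟨n, -, hn⟩ := FiniteField.card F p
  by_contra hne
  have hn2 : 2 ≤ (n : ℕ) := by
    rcases Nat.lt_or_ge (n : ℕ) 2 with h | h
    · exact absurd (by rw [hn, show (n : ℕ) = 1 by have := n.pos; omega, pow_one]) hne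
    · exact h
  have h5 : p * p ≤ Fintype.card F := by
    rw [hn, ← pow_two]; exact Nat.pow_le_pow_right hp.pos hn2
  have := hp.two_le
  have h6 : 2 * p ≤ p * p := Nat.mul_le_mul_right p hp.two_le
  omega

include e in
/-- An inverted cyclic subgroup of order `m` has `m ∣ 2r` for its odd primes `r`. -/
theorem dvd_two_mul (hT : Ctx T) {y v : PSL2 F} (hv : orderOf v = 2) (hinv : v * y * v⁻¹ = y⁻¹)
    {r : ℕ} (hr : r.Prime) (hr2 : r ≠ 2) (hrm : r ∣ orderOf y) : orderOf y ∣ 2 * r := by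
  haveI := Fact.mk hr
  set x := y ^ (orderOf y / r) with hx
  have hxo : orderOf x = r := orderOf_pow_orderOf_div (orderOf_pos y).ne' hrm
  have hv2 : v * v = 1 := by
    have h0 := pow_orderOf_eq_one v
    rwa [hv, pow_two] at h0
  have hvi : v⁻¹ = v := inv_eq_of_mul_eq_one_right hv2
  have hxi : v * x * v⁻¹ = x⁻¹ := by rw [hx, ← conj_pow, hinv, inv_pow]
  set X := zpowers x with hX
  have hflip : ∀ z ∈ X, v * z = z⁻¹ * v := by
    intro z hz
    obtain ⟨i, rfl⟩ := mem_zpowers_iff.1 hz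
    rw [← mul_inv_eq_iff_eq_mul, ← conj_zpow, hxi, inv_zpow]
  have hor : ∀ z ∈ X, z * v * (z * v) = 1 := by
    intro z hz
    rw [mul_assoc, ← mul_assoc v z v, hflip z hz, mul_assoc, hv2, mul_one, mul_inv_cancel]
  let H : Subgroup (PSL2 F) :=
    { carrier := {h | h ∈ X ∨ h * v ∈ X}
      one_mem' := Or.inl (one_mem X)
      mul_mem' := by
        rintro a b (ha | ha) (hb | hb)
        · exact Or.inl (mul_mem ha hb)
        · exact Or.inr (by rw [mul_assoc]; exact mul_mem ha hb)
        · refine Or.inr ?_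
          rw [mul_assoc, show b * v = v * b⁻¹ by
            rw [hflip _ (inv_mem hb), inv_inv], ← mul_assoc]
          exact mul_mem ha (inv_mem hb)
        · refine Or.inl ?_
          have : a * b = a * v * (b * v)⁻¹ := by
            rw [show a * b = a * v * (v * (b * v) * v) by
              simp only [mul_assoc, hv2, mul_one, ← mul_assoc v v, one_mul]]
            rw [hflip _ hb, mul_assoc (b * v)⁻¹, hv2, mul_one]
          rw [this]
          exact mul_mem ha (inv_mem hb)
      inv_mem' := by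
        rintro a (ha | ha)
        · exact Or.inl (inv_mem ha)
        · refine Or.inr ?_
          have : a⁻¹ * v = a * v := by
            rw [show a⁻¹ = v * (a * v)⁻¹ by rw [mul_inv_rev, ← mul_assoc, hvi, hv2, one_mul],
              hflip _ (inv_mem ha), inv_inv, mul_assoc, hv2, mul_one]
          rwa [this] }
  have hinvol : ∀ h : PSL2 F, h * v ∈ X → h * h = 1 := by
    intro h hh
    have := hor _ hh
    rwa [show h * v * v = h by rw [mul_assoc, hv2, mul_one]] at this
  have hord : ∀ z ∈ X, orderOf z ∣ r := fun z hz => by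
    exact (Subgroup.orderOf_dvd_natCard X hz).trans (by rw [hX, Nat.card_zpowers, hxo])
  have hx1 : x ≠ 1 := fun h0 => hr.ne_one (by rw [← hxo, h0, orderOf_one])
  have hxH : x ∈ H := Or.inl (mem_zpowers x)
  have h2 : TwoPrimes (H.map (emb e)) := by
    refine ⟨2, r, Nat.prime_two, hr, fun s hs hd => ?_⟩
    haveI := Fact.mk hs
    rw [Subgroup.card_map_of_injective (emb_injective e)] at hd
    obtain ⟨⟨h, hh⟩, ho⟩ := exists_prime_orderOf_dvd_card' s hd
    rw [Subgroup.orderOf_mk] at ho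
    rcases hh with hh | hh
    · exact Or.inr ((Nat.prime_dvd_prime_iff_eq hs hr).1 (ho ▸ hord h hh))
    · exact Or.inl ((Nat.prime_dvd_prime_iff_eq hs Nat.prime_two).1
        (ho ▸ orderOf_dvd_of_pow_eq_one (by rw [pow_two, hinvol h hh])))
  have hX0 : X ≠ ⊥ := fun h0 => hx1 (zpowers_eq_bot.1 h0)
  have hv1 : v ∉ zpowers y := by
    intro hvy
    obtain ⟨i, hi⟩ := mem_zpowers_iff.1 hvy
    have hc : v * y = y * v := by rw [← hi]; exact ((Commute.refl y).zpow_left i).eq
    rw [hc, mul_inv_cancel_right] at hinv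
    have hy2 : orderOf y ∣ 2 := orderOf_dvd_of_pow_eq_one (by rw [pow_two]; exact mul_eq_one_iff_eq_inv.2 hinv)
    exact hr2 ((Nat.prime_dvd_prime_iff_eq hr Nat.prime_two).1 (hrm.trans hy2))
  have hXy : X ≤ zpowers y := zpowers_le.2 (pow_mem (mem_zpowers y) _)
  have hX1 : X ≠ ⊤ := fun h0 => hv1 (hXy (h0 ▸ mem_top v))
  have hyX : y ∈ normalizer (X : Set (PSL2 F)) := by
    rw [mem_normalizer_iff]
    intro z
    have hcz : ∀ w ∈ X, y * w * y⁻¹ = w := fun w hw => by
      obtain ⟨i, rfl⟩ := mem_zpowers_iff.1 (hXy hw)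
      rw [((Commute.refl y).zpow_right i).eq, mul_inv_cancel_right]
    refine ⟨fun hz => (hcz z hz).symm ▸ hz, fun hz => ?_⟩
    have h1 := hcz _ hz
    rw [mul_left_inj, mul_right_inj] at h1
    exact h1 ▸ hz
  have hk := key e hT (fun h0 => hx1 ((eq_bot_iff_forall H).1 h0 x hxH)) h2 hX0 hX1
    (fun q hq z hz => ?_) hyX (h := v) (Or.inr (by rw [hv2]; exact one_mem X))
  · -- `y v y⁻¹ = y² v`
    have he : y * v * y⁻¹ = y ^ 2 * v := by
      have h1 : v * y⁻¹ = y * v := by
        rw [← hinv, ← mul_assoc, ← mul_assoc, hv2, one_mul, hvi]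
      rw [mul_assoc, h1, ← mul_assoc, pow_two]
    rw [he] at hk
    rcases hk with hk | hk
    · exact absurd ((mul_mem_cancel_left (pow_mem (mem_zpowers y) 2)).1 (hXy hk)) hv1
    · rw [mul_assoc, hv2, mul_one] at hk
      refine orderOf_dvd_of_pow_eq_one ?_
      rw [pow_mul, ← orderOf_dvd_iff_pow_eq_one]
      exact hord _ hk
  · obtain ⟨w, hw, hwe⟩ := (mem_normalizer_iff.1 hq _).1 (mem_map_of_mem _ (Or.inl hz : z ∈ H))
    rw [← hwe]
    refine mem_map_of_mem _ ?_
    rcases hw with hw | hw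
    · exact hw
    · have h1 : orderOf w ∣ 2 := orderOf_dvd_of_pow_eq_one (by rw [pow_two, hinvol w hw])
      have h3 : orderOf (q * emb e z * q⁻¹) = orderOf (emb e z) :=
        MulEquiv.orderOf_eq (MulAut.conj q) _
      rw [← hwe, orderOf_injective _ (emb_injective e), orderOf_injective _ (emb_injective e)] at h3
      have h4 : orderOf w ∣ Nat.gcd 2 r := Nat.dvd_gcd h1 (h3 ▸ hord z hz)
      rw [(Nat.coprime_primes Nat.prime_two hr).2 hr2.symm, Nat.dvd_one, orderOf_eq_one_iff] at h4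
      exact h4 ▸ one_mem X

/-- A cyclic subgroup of order `n` inverted by an involution, from a dihedral subgroup. -/
theorem exists_inverted {N : Subgroup (PSL2 F)} {n : ℕ} (h : IsTorusNorm N n) :
    ∃ y v : PSL2 F, orderOf y = n ∧ orderOf v = 2 ∧ v * y * v⁻¹ = y⁻¹ := by
  obtain ⟨hn, ⟨f⟩, -, -⟩ := h
  refine ⟨(f.symm (DihedralGroup.r 1) : PSL2 F), (f.symm (DihedralGroup.sr 0) : PSL2 F), ?_, ?_, ?_⟩
  · rw [Subgroup.orderOf_coe, MulEquiv.orderOf_eq, DihedralGroup.orderOf_r_one]
  · rw [Subgroup.orderOf_coe, MulEquiv.orderOf_eq, DihedralGroup.orderOf_sr]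
  · rw [← Subgroup.coe_inv, ← Subgroup.coe_mul, ← Subgroup.coe_mul, ← map_inv, ← map_mul,
      ← map_mul, ← Subgroup.coe_inv, ← map_inv]
    simp

end FieldAux

open FieldAux in
/-- Only `q = 5, 11, 13` are left. -/
theorem fieldStmt : FieldStmt.{u} := by
  intro Q _ _ T hT F _ _ hF ⟨e⟩
  obtain ⟨p, hp⟩ := CharP.exists F
  obtain ⟨f, hpp, hcard⟩ := FiniteField.card F p
  haveI := Fact.mk hpp
  have h4 : 4 ≤ Fintype.card F := by
    rcases hF with ⟨-, h⟩ | ⟨n, hn, h⟩
    · omega
    · rw [h]; exact (Nat.pow_le_pow_right two_pos hn : 2 ^ 2 ≤ 2 ^ n)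
  have hq : Fintype.card F = p := card_eq_char e hT p h4
  have h8 : (p % 8 = 3 ∨ p % 8 = 5) ∧ 5 ≤ p := by
    rcases hF with h | ⟨n, hn, h⟩
    · rwa [hq] at h
    · exfalso
      rw [hq] at h h4
      have h2 : p = 2 := (Nat.prime_dvd_prime_iff_eq hpp Nat.prime_two).1
        (hpp.dvd_of_dvd_pow (dvd_of_eq h))
      omega
  have hd : Nat.gcd 2 (Fintype.card F - 1) = 2 := Nat.gcd_eq_left (by omega)
  have hm : ∀ m : ℕ, (∃ y v : PSL2 F, orderOf y = m ∧ orderOf v = 2 ∧ v * y * v⁻¹ = y⁻¹) →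
      3 ∣ m → m = 3 ∨ m = 6 := by
    rintro m ⟨y, v, rfl, hv, hinv⟩ h3
    have h6 := dvd_two_mul e hT hv hinv Nat.prime_three (by norm_num) h3
    have hpos : 0 < orderOf y := orderOf_pos y
    have := Nat.le_of_dvd (by norm_num) h6
    omega
  obtain ⟨N, hN⟩ := exists_torus_plus (F := F)
  obtain ⟨N', hN'⟩ := exists_torus_minus (F := F) (by rw [hd, hq]; omega)
  have hplus := hm _ (exists_inverted hN)
  have hminus := hm _ (exists_inverted hN')
  rw [hd, hq] at hplus hminus
  rw [hq]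
  have h3 : p % 3 ≠ 0 := fun h0 => by
    have := (Nat.prime_dvd_prime_iff_eq Nat.prime_three hpp).1 (Nat.dvd_of_mod_eq_zero h0)
    omega
  have h6 : 3 ∣ (p + 1) / 2 ∨ 3 ∣ (p - 1) / 2 := by
    obtain ⟨k, hk⟩ : ∃ k, p = 6 * k + 1 ∨ p = 6 * k + 5 := ⟨p / 6, by omega⟩
    rcases hk with hk | hk
    · exact Or.inr ⟨k, by omega⟩
    · exact Or.inl ⟨k + 1, by omega⟩
  rcases h6 with h | h
  · rcases hplus h with h' | h' <;> omega
  · rcases hminus h with h' | h' <;> omega

end Cfsg.Agent.MaxNorm91
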