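import Cfsg.Agent.MaxNorm91.Defs
import Cfsg.Agent.S2117
import Cfsg.Agent.S4211
import Cfsg.Agent.Lib.LinearGroup.Simple
import Cfsg.Agent.Lib.LinearGroup.Card
import Cfsg.Agent.Lib.Schur.Perfect

/-!
# S4233: the extension of `PSL(2, 13)` by the solvable radical
-/

set_option autoImplicit false
set_option linter.style.haveILetI false
set_option linter.unusedSectionVars false

namespace Cfsg.Agent.MaxNorm91

open Subgroup

universe u

abbrev SL13 := Matrix.SpecialLinearGroup (Fin 2) (ZMod 13)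

abbrev PSL13 := Matrix.ProjectiveSpecialLinearGroup (Fin 2) (ZMod 13)

/-- An element of `SL(2, 13)` from its entries. -/
def mk13 (a b c d : ZMod 13) (h : a * d - b * c = 1) : SL13 :=
  ⟨!![a, b; c, d], by rw [Matrix.det_fin_two_of, h]⟩

instance fact13 : Fact (Nat.Prime 13) := ⟨by norm_num⟩

theorem exists_sq13 : ∃ a : ZMod 13, a ≠ 0 ∧ a ^ 2 ≠ 1 := ⟨2, by decide, by decide⟩

theorem simple13 : IsSimpleGroup PSL13 :=
  LinearGroup.isSimpleGroup_PSL' fun _ => exists_sq13

theorem card_psl13 : Nat.card PSL13 = 1092 := by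
  have h := LinearGroup.gcd_mul_card_PSL_two (F := ZMod 13)
  rw [Nat.card_zmod] at h
  rw [show Nat.gcd 2 (13 - 1) = 2 by norm_num, show (13 : ℕ) * (13 ^ 2 - 1) = 2 * 1092 by norm_num] at h
  exact Nat.eq_of_mul_eq_mul_left two_pos h

theorem card_sl13 : Nat.card SL13 = 2184 := by
  rw [LinearGroup.card_SL_two, Nat.card_zmod]
  norm_num

theorem card_center13 : Nat.card (center SL13) = 2 := by
  rw [LinearGroup.card_center_SL, Nat.card_zmod, Fintype.card_fin]
  norm_num

/-- A subgroup with two prime divisors is not everything. -/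
theorem not_two_primes_psl13 {p q : ℕ}
    (h : ∀ r : ℕ, r.Prime → r ∣ 1092 → r = p ∨ r = q) : False := by
  have h2 := h 2 (by norm_num) (by norm_num)
  have h3 := h 3 (by norm_num) (by norm_num)
  have h7 := h 7 (by norm_num) (by norm_num)
  omega

variable {G : Type u} [Group G] [Finite G]

/-- The derived data of a counterexample-free lift: `K` centralises `R` and covers the quotient. -/
structure LiftData (R K : Subgroup G) (q : G →* PSL13) : Prop where
  hyp : Hyp G
  surj : Function.Surjective q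
  ker : q.ker = R
  normal : K.Normal
  sup : K ⊔ R = ⊤
  perfect : Group.IsPerfect K
  comm : ∀ k ∈ K, ∀ r ∈ R, k * r = r * k

/-- Normalizers of two-prime subgroups outside `R` are read off in the quotient. -/
theorem conj_mem_of_image (hyp : Hyp G) {q : G →* PSL13} (hq : Function.Surjective q)
    {H : Subgroup G} (hH : ¬ H ≤ q.ker) (h2 : TwoPrimes H) {g : G}
    (hg : ∀ h ∈ H, q (g * h * g⁻¹) ∈ H.map q) : ∀ h ∈ H, g * h * g⁻¹ ∈ H := by
  have hne : H.map q ≠ ⊥ := fun h => hH (Subgroup.map_eq_bot_iff H |>.1 h)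
  have htop : H.map q ≠ ⊤ := fun h => by
    obtain ⟨p, r, -, -, hpr⟩ := h2
    refine not_two_primes_psl13 fun s hs hd => hpr s hs (hd.trans ?_)
    rw [← card_psl13, ← Subgroup.card_top (G := PSL13), ← h]
    exact Subgroup.card_map_dvd H q
  have hsn : ¬ H.IsSubnormal := fun h =>
    (Subgroup.IsSubnormal.eq_bot_or_top_of_isSimpleGroup simple13 (h.map hq)).elim hne htop
  set N := normalizer ((H.map q : Subgroup PSL13) : Set PSL13) with hN
  have hNtop : N.comap q ≠ ⊤ := fun h => by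
    have hN' : N = ⊤ := by
      rw [← map_comap_eq_self_of_surjective hq N, h, map_top_of_surjective q hq]
    have hn : (H.map q).Normal := normalizer_eq_top_iff.1 hN'
    exact (simple13.eq_bot_or_eq_top_of_normal _ hn).elim hne htop
  have hle : normalizer (H : Set G) ≤ N.comap q :=
    map_le_iff_le_comap.1 (le_normalizer_map q)
  have heq : normalizer (H : Set G) = N.comap q :=
    (((hyp H hsn h2).le_iff.1 hle).resolve_left hNtop).symm
  have hgN : g ∈ N.comap q := by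
    show q g ∈ N
    have hmap : (H.map q).map (MulAut.conj (q g)).toMonoidHom = H.map q := by
      refine Subgroup.eq_of_le_of_card_ge ?_ ?_
      · rintro _ ⟨_, ⟨h, hh, rfl⟩, rfl⟩
        simpa using hg h hh
      · rw [Subgroup.card_map_of_injective (f := (MulAut.conj (q g)).toMonoidHom)
          (MulAut.conj (q g)).injective]
    refine Subgroup.mem_normalizer_iff.2 fun x => ⟨fun hx => ?_, fun hx => ?_⟩
    · rw [← hmap]
      exact ⟨x, hx, rfl⟩
    · rw [← hmap] at hx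
      obtain ⟨y, hy, he⟩ := hx
      rwa [← (MulAut.conj (q g)).injective he]
  rw [← heq] at hgN
  exact fun h hh => (Subgroup.mem_normalizer_iff.1 hgN h).1 hh

/-- The last term of the derived series centralises the radical. -/
theorem exists_liftData (hyp : Hyp G) (R : Subgroup G) [hRn : R.Normal] (q : G →* PSL13)
    (hq : Function.Surjective q) (hker : q.ker = R) : ∃ K : Subgroup G, LiftData R K q := by
  classical
  haveI := simple13
  have hperfQ : commutator PSL13 = ⊤ := LinearGroup.commutator_PSL_eq_top fun _ => exists_sq13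
  have hsup : ∀ C : Subgroup G, C.map q = ⊤ → C ⊔ R = ⊤ := fun C hC => by
    rw [← hker, ← comap_map_eq, hC, comap_top]
  have hmap : ∀ C : Subgroup G, C ⊔ R = ⊤ → C.map q = ⊤ := fun C hC => by
    have h := congrArg (Subgroup.map q) hC
    rwa [Subgroup.map_sup, (Subgroup.map_eq_bot_iff R).2 hker.ge, sup_bot_eq,
      map_top_of_surjective q hq] at h
  obtain ⟨K, ⟨hKn, hKq⟩, hmin⟩ := Set.exists_min_image
    {C : Subgroup G | C.Normal ∧ C.map q = ⊤} (fun C => Nat.card C) (Set.toFinite _)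
    ⟨⊤, inferInstance, map_top_of_surjective q hq⟩
  have hKle : ∀ C : Subgroup G, C.Normal → C.map q = ⊤ → ⁅K, C⁆ = K := fun C hC hCq => by
    have hle : ⁅K, C⁆ ≤ K := commutator_le_left K C
    refine Subgroup.eq_of_le_of_card_ge hle (hmin _ ⟨inferInstance, ?_⟩)
    rw [map_commutator, hKq, hCq]
    exact hperfQ
  have hKC : ∀ C : Subgroup G, C.Normal → C.map q = ⊤ → K ≤ C := fun C hC hCq => by
    rw [← hKle C hC hCq]
    exact commutator_le_right K C
  have hperf : Group.IsPerfect K := by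
    refine ⟨map_injective K.subtype_injective ?_⟩
    rw [map_subtype_commutator, hKle K hKn hKq, ← MonoidHom.range_eq_map, range_subtype]
  -- commutators with `K` lie in every Sylow subgroup of `R`
  have key : ∀ p : ℕ, p.Prime → p ∣ 1092 →
      ∃ Rp : Subgroup G, IsPGroup p Rp ∧ ∀ k ∈ K, ∀ r ∈ R, k * r * k⁻¹ * r⁻¹ ∈ Rp := by
    intro p hp hpd
    haveI := Fact.mk hp
    obtain ⟨P⟩ := (Sylow.nonempty : Nonempty (Sylow p G))
    have hPR : ¬ (P : Subgroup G) ≤ q.ker := fun h => by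
      refine P.not_dvd_index (dvd_trans ?_ (Subgroup.index_dvd_of_le h))
      rw [Subgroup.index_ker, MonoidHom.range_eq_top.2 hq, Subgroup.card_top, card_psl13]
      exact hpd
    have hnorm : ∀ r ∈ R, ∀ x ∈ (P : Subgroup G), r * x * r⁻¹ ∈ (P : Subgroup G) := fun r hr =>
      conj_mem_of_image hyp hq hPR (TwoPrimes.of_isPGroup P.2) fun x hx => by
        have hr1 : q r = 1 := by rwa [← MonoidHom.mem_ker, hker]
        rw [map_mul, map_mul, hr1, map_inv, hr1, inv_one, one_mul, mul_one]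
        exact mem_map_of_mem q hx
    set Rp := (P : Subgroup G).subgroupOf R with hRp
    have hRpp : IsPGroup p Rp := P.2.comap_subtype
    haveI hRpn : Rp.Normal := ⟨fun x hx r => by
      rw [hRp, mem_subgroupOf] at hx ⊢
      exact hnorm r r.2 x hx⟩
    -- `Rp` is normal in the whole group
    obtain ⟨T, hT⟩ := hRpp.exists_le_sylow
    have hTP : (T : Subgroup R) = Rp := by
      refine le_antisymm (fun x hx => ?_) hT
      obtain ⟨T', hT'⟩ := (T.2.map R.subtype).exists_le_sylow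
      have h1 : IsPGroup p ↥((P : Subgroup G) ⊔ (T : Subgroup R).map R.subtype) :=
        IsPGroup.to_sup_of_normal_left' P.2 (T.2.map R.subtype) (by
          rintro _ ⟨t, -, rfl⟩
          refine Subgroup.mem_normalizer_iff.2 fun y => ⟨hnorm t t.2 y, fun hy => ?_⟩
          have := hnorm (t : G)⁻¹ (R.inv_mem t.2) _ hy
          simpa [mul_assoc] using this)
      have h2 := P.3 h1 le_sup_left
      rw [hRp, mem_subgroupOf]
      exact h2 ▸ mem_sup_right (mem_map_of_mem _ hx)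
    haveI hTn : (T : Subgroup R).Normal := hTP ▸ hRpn
    haveI : (T : Subgroup R).Characteristic := Sylow.characteristic_of_normal T hTn
    set M := (T : Subgroup R).map R.subtype with hM
    haveI hMn : M.Normal := inferInstance
    refine ⟨M, T.2.map R.subtype, fun k hk r hr => ?_⟩
    set π := QuotientGroup.mk' M with hπ
    have hRπ : (R.map π).Normal := Subgroup.Normal.map hRn π (QuotientGroup.mk'_surjective M)
    set C := (centralizer ((R.map π : Subgroup (G ⧸ M)) : Set (G ⧸ M))).comap π with hC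
    have hCn : C.Normal := Subgroup.Normal.comap inferInstance π
    have hCq : C.map q = ⊤ := by
      refine (simple13.eq_bot_or_eq_top_of_normal _ (hCn.map q hq)).resolve_left fun h => hPR ?_
      refine le_trans (fun x hx => ?_) ((Subgroup.map_eq_bot_iff C).1 h)
      show π x ∈ centralizer _
      rw [Subgroup.mem_centralizer_iff]
      rintro _ ⟨s, hs, rfl⟩
      rw [← map_mul, ← map_mul, hπ, QuotientGroup.mk'_eq_mk']
      refine ⟨(s * x)⁻¹ * (x * s), ?_, mul_inv_cancel_left _ _⟩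
      have hP : (s * x)⁻¹ * (x * s) ∈ (P : Subgroup G) := by
        rw [show (s * x)⁻¹ * (x * s) = x⁻¹ * (s⁻¹ * x * s⁻¹⁻¹) by group]
        exact mul_mem (inv_mem hx) (hnorm _ (R.inv_mem hs) x hx)
      have hR : (s * x)⁻¹ * (x * s) ∈ R := by
        rw [show (s * x)⁻¹ * (x * s) = (x⁻¹ * s⁻¹ * x⁻¹⁻¹) * s by group]
        exact mul_mem (hRn.conj_mem _ (R.inv_mem hs) _) hs
      exact ⟨⟨_, hR⟩, hTP.ge (by rw [hRp, mem_subgroupOf]; exact hP), rfl⟩
    have hkC : π k ∈ centralizer ((R.map π : Subgroup (G ⧸ M)) : Set (G ⧸ M)) :=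
      hKC C hCn hCq hk
    rw [Subgroup.mem_centralizer_iff] at hkC
    have := hkC (π r) (mem_map_of_mem _ hr)
    rw [← QuotientGroup.eq_one_iff, ← QuotientGroup.mk'_apply, map_mul, map_mul, map_mul, map_inv,
      map_inv, ← hπ, ← this, mul_inv_cancel_right, mul_inv_cancel]
  obtain ⟨R2, hR2, h2⟩ := key 2 Nat.prime_two (by norm_num)
  obtain ⟨R3, hR3, h3⟩ := key 3 Nat.prime_three (by norm_num)
  haveI := Fact.mk Nat.prime_two
  haveI := Fact.mk Nat.prime_three
  refine ⟨K, hyp, hq, hker, hKn, hsup K hKq, hperf, fun k hk r hr => ?_⟩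
  have h := disjoint_iff.1 (IsPGroup.disjoint_of_ne 2 3 (by norm_num) R2 R3 hR2 hR3)
  have h1 : k * r * k⁻¹ * r⁻¹ ∈ (⊥ : Subgroup G) :=
    h ▸ Subgroup.mem_inf.2 ⟨h2 k hk r hr, h3 k hk r hr⟩
  rwa [Subgroup.mem_bot, mul_inv_eq_one, mul_inv_eq_iff_eq_mul] at h1

variable {R K : Subgroup G} {q : G →* PSL13}

/-- The lift of `SL(2, 13)`. -/
theorem LiftData.exists_cover (D : LiftData R K q) :
    ∃ η : SL13 →* K, Function.Surjective η ∧
      ∀ s, q (η s : G) = QuotientGroup.mk' (center SL13) s := by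
  haveI := D.normal
  let σ : K →* PSL13 := q.comp K.subtype
  have hσ : Function.Surjective σ := fun y => by
    obtain ⟨g, rfl⟩ := D.surj y
    obtain ⟨k, hk, r, hr, rfl⟩ := Subgroup.mem_sup_of_normal_left.1 (D.sup ▸ Subgroup.mem_top g)
    refine ⟨⟨k, hk⟩, ?_⟩
    have hr1 : q r = 1 := by rwa [← MonoidHom.mem_ker, D.ker]
    show q k = _
    rw [map_mul, hr1, mul_one]
  have hσc : σ.ker ≤ center K := fun x hx => Subgroup.mem_center_iff.2 fun y =>
    Subtype.ext (D.comm y y.2 x (D.ker ▸ hx))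
  obtain ⟨η, hη⟩ := Schur.exists_lift_of_trivial
    (⟨LinearGroup.commutator_SL_eq_top' fun _ => exists_sq13⟩ : Group.IsPerfect SL13)
    (S2117.result (F := ZMod 13) (by rw [ZMod.card]; norm_num) (by rw [ZMod.card]; norm_num))
    (QuotientGroup.mk' (center SL13)) σ hσ hσc
  refine ⟨η, MonoidHom.range_eq_top.1 (eq_top_iff.2 ?_), fun s => DFunLike.congr_fun hη s⟩
  have hx : ∀ x : K, ∃ s : SL13, ∃ z ∈ center K, x = η s * z := fun x => by
    obtain ⟨s, hs⟩ := QuotientGroup.mk'_surjective (center SL13) (σ x)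
    refine ⟨s, (η s)⁻¹ * x, hσc ?_, (mul_inv_cancel_left _ _).symm⟩
    rw [MonoidHom.mem_ker, map_mul, map_inv, show σ (η s) = σ x from
      (DFunLike.congr_fun hη s).trans hs, inv_mul_cancel]
  rw [← D.perfect.commutator_eq_top, commutator_def, Subgroup.commutator_le]
  intro a _ b _
  obtain ⟨s, z, hz, rfl⟩ := hx a
  obtain ⟨t, w, hw, rfl⟩ := hx b
  refine ⟨s * t * s⁻¹ * t⁻¹, ?_⟩
  rw [commutatorElement_def, map_mul, map_mul, map_mul, map_inv, map_inv]
  have ez : ∀ c, z * c = c * z := fun c => (Subgroup.mem_center_iff.1 hz c).symm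
  have ew : ∀ c, w * c = c * w := fun c => (Subgroup.mem_center_iff.1 hw c).symm
  rw [show η s * z * (η t * w) * (η s * z)⁻¹ * (η t * w)⁻¹
      = η s * (z * (η t * w) * z⁻¹) * (η s)⁻¹ * (η t * w)⁻¹ by group, ez (η t * w),
    mul_inv_cancel_right,
    show η s * (η t * w) * (η s)⁻¹ * (η t * w)⁻¹
      = η s * η t * (w * (η s)⁻¹ * w⁻¹) * (η t)⁻¹ by group, ew (η s)⁻¹, mul_inv_cancel_right]

theorem two_pow_mem_iff {A : Subgroup G} {a : G} {k : ℕ} (ha : a ^ 2 ^ k = 1) (m : ℤ)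
    (h : a ^ (1 - 2 * m) ∈ A) : a ∈ A := by
  obtain ⟨u, v, huv⟩ : ∃ u v : ℤ, u * (1 - 2 * m) + v * (2 ^ k : ℕ) = 1 := by
    have : IsCoprime (1 - 2 * m) ((2 ^ k : ℕ) : ℤ) := by
      rw [Nat.cast_pow, Nat.cast_ofNat]
      exact IsCoprime.pow_right ⟨1, m, by ring⟩
    obtain ⟨u, v, h⟩ := this
    exact ⟨u, v, h⟩
  have e : a = (a ^ (1 - 2 * m)) ^ u * (a ^ ((2 ^ k : ℕ) : ℤ)) ^ v := by
    rw [← zpow_mul, ← zpow_mul, ← zpow_add, mul_comm, mul_comm ((2 ^ k : ℕ) : ℤ) v, huv, zpow_one]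
  rw [e, zpow_natCast, ha, one_zpow, mul_one]
  exact A.zpow_mem h u

/-- Every subgroup of the radical is normal in it. -/
theorem LiftData.conj_mem_zpowers (D : LiftData R K q) {x : G} (hx : x ∈ K) (hxR : x ∉ R)
    {p r : ℕ} (hp : p.Prime) (hr : r.Prime) (hpr : p ≠ r) (hxp : orderOf x = p) {a : G}
    (ha : a ∈ R) {k : ℕ} (hak : orderOf a = r ^ k) {b : G} (hb : b ∈ R) :
    b * a * b⁻¹ ∈ zpowers a := by
  haveI := Fact.mk hp
  haveI := Fact.mk hr
  have hxa : Commute x a := D.comm x hx a ha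
  have hzz : zpowers x ≤ normalizer (zpowers a : Set G) := by
    refine le_trans (zpowers_le.2 ?_) (centralizer_le_normalizer _)
    rw [Subgroup.mem_centralizer_iff]
    intro y hy
    obtain ⟨i, rfl⟩ := Subgroup.mem_zpowers_iff.1 hy
    exact ((hxa.zpow_right i).eq).symm
  have h2 : TwoPrimes (zpowers x ⊔ zpowers a) := TwoPrimes.of_sup
    (p := p) (q := r)
    (IsPGroup.of_card (n := 1) (by rw [Nat.card_zpowers, hxp, pow_one]))
    (IsPGroup.of_card (n := k) (by rw [Nat.card_zpowers, hak])) hzz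
  have hH : ¬ zpowers x ⊔ zpowers a ≤ q.ker := fun h =>
    hxR (D.ker ▸ h (mem_sup_left (mem_zpowers x)))
  have hconj : b * a * b⁻¹ ∈ zpowers x ⊔ zpowers a :=
    conj_mem_of_image D.hyp D.surj hH h2 (fun h hh => by
      have hb1 : q b = 1 := by rwa [← MonoidHom.mem_ker, D.ker]
      rw [map_mul, map_mul, map_inv, hb1, inv_one, one_mul, mul_one]
      exact mem_map_of_mem q hh) a (mem_sup_right (mem_zpowers a))
  rw [← SetLike.mem_coe, Subgroup.coe_mul_of_left_le_normalizer_right _ _ hzz] at hconj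
  obtain ⟨_, ⟨i, rfl⟩, y, hy, he⟩ := hconj
  have hyR : y ∈ R := zpowers_le.2 ha hy
  have hxi : x ^ i ∈ R := by
    rw [show x ^ i = b * a * b⁻¹ * y⁻¹ by rw [← he, mul_inv_cancel_right]]
    exact R.mul_mem (R.mul_mem (R.mul_mem hb ha) (R.inv_mem hb)) (R.inv_mem hyR)
  have hd : (p : ℤ) ∣ i := by
    by_contra hd
    obtain ⟨u, v, huv⟩ := ((Nat.prime_iff_prime_int.1 hp).coprime_iff_not_dvd.2 hd)
    refine hxR ?_
    have e : x = (x ^ (p : ℤ)) ^ u * (x ^ i) ^ v := by
      rw [← zpow_mul, ← zpow_mul, ← zpow_add, mul_comm _ u, mul_comm i v, huv, zpow_one]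
    rw [e, zpow_natCast, ← hxp, pow_orderOf_eq_one, one_zpow, one_mul]
    exact R.zpow_mem hxi v
  obtain ⟨j, rfl⟩ := hd
  simp only [zpow_mul, zpow_natCast, ← hxp, pow_orderOf_eq_one, one_zpow, one_mul] at he
  exact he ▸ hy

/-- A prime of `PSL(2, 13)` with an inverted element does not divide the order of `R`. -/
theorem LiftData.eq_one_of_inverted (D : LiftData R K q) {x g : G} (hx : x ∈ K) (hg : g ∈ K)
    {p : ℕ} (hp : p.Prime) (hp2 : p ≠ 2) (hxp : orderOf x = p) (hxR : x ∉ R)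
    (hinv : g * x * g⁻¹ = x⁻¹) {a : G} (ha : a ∈ R) (hap : orderOf a = p) : False := by
  haveI := Fact.mk hp
  have hxa : Commute x a := D.comm x hx a ha
  set H := zpowers (x * a) with hHdef
  have hxap : (x * a) ^ p = 1 := by
    rw [hxa.mul_pow]
    nth_rewrite 1 [← hxp]
    rw [← hap, pow_orderOf_eq_one, pow_orderOf_eq_one, one_mul]
  have hne : x * a ∉ R := fun h => hxR (by simpa using R.mul_mem h (R.inv_mem ha))
  have hordxa : orderOf (x * a) = p := orderOf_eq_prime hxap fun h => hne (h ▸ R.one_mem)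
  have hqa : q a = 1 := by rwa [← MonoidHom.mem_ker, D.ker]
  have h2 : TwoPrimes H := TwoPrimes.of_isPGroup (p := p)
    (IsPGroup.of_card (n := 1) (by rw [hHdef, Nat.card_zpowers, hordxa, pow_one]))
  have hH : ¬ H ≤ q.ker := fun h => hne (D.ker ▸ h (mem_zpowers _))
  have hm : g * (x * a) * g⁻¹ ∈ H := conj_mem_of_image D.hyp D.surj hH h2 (fun h hh => by
    obtain ⟨i, rfl⟩ := Subgroup.mem_zpowers_iff.1 hh
    rw [← conj_zpow, map_zpow]
    refine Subgroup.zpow_mem _ ?_ i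
    rw [show g * (x * a) * g⁻¹ = (g * x * g⁻¹) * (g * a * g⁻¹) by group, hinv,
      D.comm g hg a ha, mul_inv_cancel_right, map_mul, map_inv, hqa, mul_one,
      show (q x)⁻¹ = q ((x * a)⁻¹) by rw [map_inv, map_mul, hqa, mul_one]]
    exact mem_map_of_mem q (H.inv_mem (mem_zpowers _))) _ (mem_zpowers _)
  rw [show g * (x * a) * g⁻¹ = (g * x * g⁻¹) * (g * a * g⁻¹) by group, hinv,
    D.comm g hg a ha, mul_inv_cancel_right] at hm
  have hx2 : x ^ 2 ∈ H := by
    have := H.mul_mem (mem_zpowers (x * a)) (H.inv_mem hm)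
    rwa [show x * a * (x⁻¹ * a)⁻¹ = x * (a * a⁻¹) * x by group, mul_inv_cancel, mul_one, ← pow_two]
      at this
  have hxH : x ∈ H := by
    obtain ⟨m, hm⟩ := exists_pow_eq_self_of_coprime (n := 2) (x := x) (by
      rw [hxp]; exact (Nat.coprime_primes Nat.prime_two hp).2 (Ne.symm hp2))
    rw [← hm]
    exact H.pow_mem hx2 m
  have haH : a ∈ H := by
    have := H.mul_mem (H.inv_mem hxH) (mem_zpowers (x * a))
    rwa [inv_mul_cancel_left] at this
  have e1 : zpowers x = H := Subgroup.eq_of_le_of_card_ge (zpowers_le.2 hxH)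
    (by rw [hHdef, Nat.card_zpowers, Nat.card_zpowers, hordxa, hxp])
  have e2 : zpowers a = H := Subgroup.eq_of_le_of_card_ge (zpowers_le.2 haH)
    (by rw [hHdef, Nat.card_zpowers, Nat.card_zpowers, hordxa, hap])
  exact hxR (zpowers_le.2 ha (e2.symm ▸ e1 ▸ mem_zpowers x))

/-- The 2-elements of `R` lie in `K`. -/
theorem LiftData.mem_of_two_pow (D : LiftData R K q) {x y w : G} (hx : x ∈ K) (hy : y ∈ K)
    (hw : w ∈ K) (hxx : x * x ∈ R) (hyy : y * y ∈ R) (hxy : x⁻¹ * y⁻¹ * x * y ∈ R)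
    (hx1 : x ∉ R) (hy1 : y ∉ R) (hxy1 : x * y ∉ R) (hwx : w * x * w⁻¹ = y)
    (hwy : w * y * w⁻¹ = y * x)
    {a : G} (ha : a ∈ R) {k : ℕ} (hak : orderOf a = 2 ^ k)
    (hKR : IsPGroup 2 ↥(K ⊓ R)) : a ∈ K := by
  haveI := Fact.mk Nat.prime_two
  set u := x * a with hu
  set M := (K ⊓ R) ⊔ zpowers (a ^ 2) with hM
  have hMc : ∀ m ∈ M, ∀ g : G, g = x ∨ g = y ∨ g = a → Commute m g := by
    intro m hm g hg
    have : M ≤ centralizer ({g} : Set G) := by
      refine sup_le (fun z hz => ?_) (zpowers_le.2 ?_) <;> rw [Subgroup.mem_centralizer_singleton_iff]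
      · rcases hg with rfl | rfl | rfl
        · exact (D.comm _ hx z hz.2).symm
        · exact (D.comm _ hy z hz.2).symm
        · exact D.comm z hz.1 _ ha
      · rcases hg with rfl | rfl | rfl
        · exact (D.comm _ hx _ (R.pow_mem ha 2)).symm
        · exact (D.comm _ hy _ (R.pow_mem ha 2)).symm
        · exact ((Commute.refl g).pow_left 2).eq
    exact (Subgroup.mem_centralizer_singleton_iff).1 (this hm)
  have hMu : ∀ m ∈ M, Commute m u := fun m hm =>
    (hMc m hm x (Or.inl rfl)).mul_right (hMc m hm a (Or.inr (Or.inr rfl)))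
  have hMy : ∀ m ∈ M, Commute m y := fun m hm => hMc m hm y (Or.inr (Or.inl rfl))
  have hKM : ∀ z, z ∈ K → z ∈ R → z ∈ M := fun z h1 h2 => mem_sup_left ⟨h1, h2⟩
  have hu2 : u * u ∈ M := by
    rw [hu, show x * a * (x * a) = x * (a * x) * a by group, ← D.comm x hx a ha,
      show x * (x * a) * a = (x * x) * (a ^ 2) by rw [pow_two]; group]
    exact M.mul_mem (hKM _ (K.mul_mem hx hx) hxx) (mem_sup_right (mem_zpowers _))
  have hyu : ∃ m ∈ M, y * u = u * y * m := by
    refine ⟨(x * y)⁻¹ * (y * x), hKM _ (K.mul_mem (K.inv_mem (K.mul_mem hx hy)) (K.mul_mem hy hx))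
      ?_, ?_⟩
    · have h := R.inv_mem hxy
      have h' := (D.ker ▸ inferInstance : R.Normal).conj_mem _ h (y⁻¹ * x⁻¹ * y * x)
      have e : (x * y)⁻¹ * (y * x) = y⁻¹ * x⁻¹ * y * x := by group
      rw [e]
      have h1 : q (x⁻¹ * y⁻¹ * x * y) = 1 := by rwa [← MonoidHom.mem_ker, D.ker]
      rw [← D.ker, MonoidHom.mem_ker, show y⁻¹ * x⁻¹ * y * x = (x⁻¹ * y⁻¹ * x * y)⁻¹ by group,
        map_inv, h1, inv_one]
    · have ha1 := D.comm y hy a ha
      have ha2 := D.comm _ (K.mul_mem (K.inv_mem (K.mul_mem hx hy)) (K.mul_mem hy hx)) a ha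
      calc y * u = (x * y) * ((x * y)⁻¹ * (y * x) * a) := by rw [hu]; group
        _ = (x * y) * (a * ((x * y)⁻¹ * (y * x))) := by rw [ha2]
        _ = x * (y * a) * ((x * y)⁻¹ * (y * x)) := by group
        _ = x * (a * y) * ((x * y)⁻¹ * (y * x)) := by rw [ha1]
        _ = u * y * ((x * y)⁻¹ * (y * x)) := by rw [hu]; group
  obtain ⟨m0, hm0, hyu⟩ := hyu
  -- the set of normal forms
  let S : Set G := {g | ∃ i j : ℕ, ∃ m ∈ M, g = u ^ i * y ^ j * m}
  have hyui : ∀ i : ℕ, ∃ m ∈ M, y * u ^ i = u ^ i * y * m := by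
    intro i
    induction i with
    | zero => exact ⟨1, M.one_mem, by simp⟩
    | succ i ih =>
      obtain ⟨m, hm, e⟩ := ih
      refine ⟨m0 * m, M.mul_mem hm0 hm, ?_⟩
      rw [pow_succ, ← mul_assoc, e, mul_assoc _ m u, (hMu m hm).eq, ← mul_assoc _ u m,
        mul_assoc _ y u, hyu]
      group
  set H := closure {u, y} ⊔ (K ⊓ R) with hH
  have hHS : ∀ g ∈ H, g ∈ S := by
    have hHle : H ≤ closure ({u, y} ∪ (M : Set G)) :=
      sup_le (closure_mono Set.subset_union_left)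
        fun z hz => subset_closure (Or.inr (hKM z hz.1 hz.2))
    intro g hg
    have hg' := hHle hg
    clear hg
    rw [← mem_toSubmonoid, closure_toSubmonoid_of_finite] at hg'
    induction hg' using Submonoid.closure_induction_left with
    | one => exact ⟨0, 0, 1, M.one_mem, by simp⟩
    | mul_left s hs g _ ih =>
      obtain ⟨i, j, m, hm, rfl⟩ := ih
      rcases hs with (hs | hs) | hs
      · exact ⟨i + 1, j, m, hm, by rw [hs, pow_succ']; simp only [mul_assoc]⟩
      · obtain ⟨m', hm', e⟩ := hyui i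
        refine ⟨i, j + 1, m' * m, M.mul_mem hm' hm, ?_⟩
        rw [hs, ← mul_assoc, ← mul_assoc, e, mul_assoc _ m' (y ^ j), ((hMy m' hm').pow_right j).eq,
          pow_succ']
        simp only [mul_assoc]
      · refine ⟨i, j, s * m, M.mul_mem hs hm, ?_⟩
        rw [← mul_assoc, ((hMu s hs).pow_right i).mul_right ((hMy s hs).pow_right j) |>.eq,
          mul_assoc]
  have hqR : ∀ g, q g = 1 ↔ g ∈ R := fun g => by rw [← D.ker, MonoidHom.mem_ker]
  have hqa : q a = 1 := (hqR a).2 ha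
  have hqu : q u = q x := by rw [hu, map_mul, hqa, mul_one]
  have hHnot : ¬ H ≤ q.ker := fun h => hy1 (D.ker ▸ h (mem_sup_left (subset_closure (by simp))))
  have hMR : M ≤ R := sup_le inf_le_right (zpowers_le.2 (R.pow_mem ha 2))
  have hsq : ∀ g : G, g * g ∈ R → ∀ n : ℕ, q g ^ n = q g ^ (n % 2) := fun g hg n => by
    conv_lhs => rw [← Nat.div_add_mod n 2, pow_add, pow_mul, pow_two, ← map_mul, (hqR _).2 hg,
      one_pow, one_mul]
  have hqxy : Commute (q x) (q y) := by
    have h := (hqR _).2 hxy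
    rw [map_mul, map_mul, map_mul, map_inv, map_inv] at h
    show q x * q y = q y * q x
    calc q x * q y = q y * q x * ((q x)⁻¹ * (q y)⁻¹ * q x * q y) := by group
      _ = q y * q x := by rw [h, mul_one]
  -- elements of `H` in `R` lie in `M`
  have hHR : ∀ g ∈ H, g ∈ R → g ∈ M := by
    intro g hg hgR
    obtain ⟨i, j, m, hm, rfl⟩ := hHS g hg
    have hq0 : q x ^ i * q y ^ j = 1 := by
      have := (hqR _).2 hgR
      rwa [map_mul, map_mul, map_pow, map_pow, hqu, (hqR m).2 (hMR hm), mul_one] at this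
    rw [hsq x hxx, hsq y hyy] at hq0
    have hev : i % 2 = 0 ∧ j % 2 = 0 := by
      rcases Nat.mod_two_eq_zero_or_one i with hi | hi <;>
        rcases Nat.mod_two_eq_zero_or_one j with hj | hj <;> rw [hi, hj] at hq0
      · exact ⟨hi, hj⟩
      · exact absurd ((hqR y).1 (by simpa using hq0)) hy1
      · exact absurd ((hqR x).1 (by simpa using hq0)) hx1
      · exact absurd ((hqR (x * y)).1 (by simpa using hq0)) hxy1
    rw [← Nat.div_add_mod i 2, ← Nat.div_add_mod j 2, hev.1, hev.2, add_zero, add_zero,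
      pow_mul, pow_mul, pow_two, pow_two]
    exact M.mul_mem (M.mul_mem (M.pow_mem hu2 _) (M.pow_mem (hKM _ (K.mul_mem hy hy) hyy) _)) hm
  have hca : zpowers (a ^ 2) ≤ centralizer ((K ⊓ R : Subgroup G) : Set G) := by
    rw [zpowers_le, Subgroup.mem_centralizer_iff]
    exact fun z hz => D.comm z hz.1 _ (R.pow_mem ha 2)
  have hMp : IsPGroup 2 M := IsPGroup.to_sup_of_normal_left' hKR
    ((IsPGroup.of_card (n := k) (by rw [Nat.card_zpowers, hak])).to_le
      (zpowers_le.2 (Subgroup.pow_mem _ (mem_zpowers a) 2)))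
    (hca.trans (centralizer_le_normalizer _))
  have hHp : IsPGroup 2 H := fun ⟨g, hg⟩ => by
    have hgg : g * g ∈ R := by
      obtain ⟨i, j, m, hm, rfl⟩ := hHS g hg
      refine (hqR _).1 ?_
      have hx2 : q x * q x = 1 := by rw [← map_mul]; exact (hqR _).2 hxx
      have hy2 : q y * q y = 1 := by rw [← map_mul]; exact (hqR _).2 hyy
      rw [map_mul, map_mul, map_mul, map_pow, map_pow, hqu, (hqR m).2 (hMR hm), mul_one,
        (hqxy.pow_pow i j).symm.mul_mul_mul_comm, ← (Commute.refl (q x)).mul_pow,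
        ← (Commute.refl (q y)).mul_pow, hx2, hy2, one_pow, one_pow, mul_one]
    obtain ⟨e, he⟩ := hMp ⟨g * g, hHR _ (H.mul_mem hg hg) hgg⟩
    refine ⟨e + 1, Subtype.ext ?_⟩
    have he' : (g * g) ^ 2 ^ e = 1 := congrArg Subtype.val he
    simpa [pow_succ', pow_mul, pow_two] using he'
  have hconj : w * u * w⁻¹ ∈ H := by
    refine conj_mem_of_image D.hyp D.surj hHnot (TwoPrimes.of_isPGroup hHp) (fun h hh => ?_) u
      (mem_sup_left (subset_closure (by simp)))
    obtain ⟨i, j, m, hm, rfl⟩ := hHS h hh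
    have hqm : q m = 1 := (hqR m).2 (hMR hm)
    have hu' : q u ∈ H.map q := mem_map_of_mem q (mem_sup_left (subset_closure (by simp)))
    have hy' : q y ∈ H.map q := mem_map_of_mem q (mem_sup_left (subset_closure (by simp)))
    have e1 : q w * q x * (q w)⁻¹ = q y := by rw [← map_inv, ← map_mul, ← map_mul, hwx]
    have e2 : q w * q y * (q w)⁻¹ = q y * q x := by
      rw [← map_inv, ← map_mul, ← map_mul, hwy, map_mul]
    rw [map_mul, map_mul, map_mul, map_mul, map_inv, map_pow, map_pow, hqm, mul_one, hqu,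
      show q w * (q x ^ i * q y ^ j) * (q w)⁻¹ =
        (q w * q x ^ i * (q w)⁻¹) * (q w * q y ^ j * (q w)⁻¹) by group,
      ← conj_pow, ← conj_pow, e1, e2, ← hqu]
    exact mul_mem (pow_mem hy' i) (pow_mem (mul_mem hy' hu') j)
  rw [hu, show w * (x * a) * w⁻¹ = (w * x * w⁻¹) * (w * a * w⁻¹) by group, hwx, D.comm w hw a ha,
    mul_inv_cancel_right] at hconj
  have haH : a ∈ H := by
    have := H.mul_mem (H.inv_mem (mem_sup_left (subset_closure (by simp : y ∈ ({u, y} : Set G)))))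
      hconj
    rwa [inv_mul_cancel_left] at this
  have haM : a ∈ M := hHR a haH ha
  rw [hM, ← SetLike.mem_coe,
    Subgroup.coe_mul_of_right_le_normalizer_left _ _ (hca.trans (centralizer_le_normalizer _))] at haM
  obtain ⟨z, hz, _, ⟨m, rfl⟩, he⟩ := haM
  refine two_pow_mem_iff (k := k) (by rw [← hak, pow_orderOf_eq_one]) m ?_
  have he' : z = a * ((a ^ 2) ^ m)⁻¹ := eq_mul_inv_of_mul_eq he
  rw [zpow_sub, zpow_one, zpow_mul, zpow_ofNat, ← he']
  exact hz.1

theorem order13_facts :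
    let x3 : SL13 := mk13 3 0 0 9 (by decide)
    let x7 : SL13 := mk13 0 12 1 7 (by decide)
    let x13 : SL13 := mk13 1 1 0 1 (by decide)
    let g3 : SL13 := mk13 0 1 12 0 (by decide)
    let g7 : SL13 := mk13 0 5 5 0 (by decide)
    let g13 : SL13 := mk13 5 0 0 8 (by decide)
    (g3 * x3 * g3⁻¹ = x3⁻¹ ∧ x3 ^ 3 = 1) ∧ (g7 * x7 * g7⁻¹ = x7⁻¹ ∧ x7 ^ 7 = 1) ∧
      (g13 * x13 * g13⁻¹ = x13⁻¹ ∧ x13 ^ 13 = 1) ∧
      x3 * g7 ≠ g7 * x3 ∧ x7 * g13 ≠ g13 * x7 ∧ x13 * g3 ≠ g3 * x13 := by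
  decide

theorem q8_facts :
    let x : SL13 := mk13 5 0 0 8 (by decide)
    let y : SL13 := mk13 0 1 12 0 (by decide)
    let w : SL13 := mk13 2 11 10 10 (by decide)
    let t : SL13 := mk13 1 1 0 1 (by decide)
    let z : SL13 := mk13 12 0 0 12 (by decide)
    x * x = z ∧ y * y = z ∧ x⁻¹ * y⁻¹ * x * y = z ∧ w * x * w⁻¹ = y ∧ w * y * w⁻¹ = y * x ∧
      x * t ≠ t * x ∧ y * t ≠ t * y ∧ (x * y) * t ≠ t * (x * y) := by
  decide

theorem z_mem_center (h : (12 : ZMod 13) * 12 - 0 * 0 = 1) :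
    mk13 12 0 0 12 h ∈ center SL13 := by
  refine Subgroup.mem_center_iff.2 fun g => ?_
  apply Subtype.ext
  show (g : Matrix (Fin 2) (Fin 2) (ZMod 13)) * (!![12, 0; 0, 12] : Matrix (Fin 2) (Fin 2) (ZMod 13))
    = (!![12, 0; 0, 12] : Matrix (Fin 2) (Fin 2) (ZMod 13)) * (g : Matrix (Fin 2) (Fin 2) (ZMod 13))
  ext i j
  fin_cases i <;> fin_cases j <;> simp [Matrix.mul_apply, Fin.sum_univ_two, mul_comm]

/-- `Lift.lean` piece of S4233. -/
theorem lift : LiftStmt.{u} := by
  intro G _ _ hyp R hRn hRs ⟨e⟩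
  classical
  haveI := Fact.mk Nat.prime_two
  let q : G →* PSL13 := e.toMonoidHom.comp (QuotientGroup.mk' R)
  have hq : Function.Surjective q := e.surjective.comp (QuotientGroup.mk'_surjective R)
  have hker : q.ker = R := by
    ext g
    simp [q]
  obtain ⟨K, D⟩ := exists_liftData hyp R q hq hker
  obtain ⟨η, hη, hqη⟩ := D.exists_cover
  haveI := D.normal
  have hηK : ∀ s, (η s : G) ∈ K := fun s => (η s).2
  have hηR : ∀ s, (η s : G) ∈ R ↔ s ∈ center SL13 := fun s => by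
    rw [← hker, MonoidHom.mem_ker, hqη, QuotientGroup.mk'_apply, QuotientGroup.eq_one_iff]
  have hnc : ∀ s t : SL13, s * t ≠ t * s → (η s : G) ∉ R := fun s t h hR =>
    h (Subgroup.mem_center_iff.1 ((hηR s).1 hR) t).symm
  obtain ⟨⟨f3, p3⟩, ⟨f7, p7⟩, ⟨f13, p13⟩, n3, n7, n13⟩ := order13_facts
  -- inverted elements of order 3, 7, 13
  have hmain : ∀ s g t : SL13, ∀ p : ℕ, p.Prime → g * s * g⁻¹ = s⁻¹ → s ^ p = 1 →
      s * t ≠ t * s → orderOf (η s : G) = p ∧ (η s : G) ∉ R ∧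
        (η g : G) * η s * (η g : G)⁻¹ = (η s : G)⁻¹ := fun s g t p hp hinv hpow ht => by
    haveI := Fact.mk hp
    refine ⟨orderOf_eq_prime ?_ fun h => hnc s t ht (h ▸ R.one_mem), hnc s t ht, ?_⟩
    · rw [← SubmonoidClass.coe_pow, ← map_pow, hpow, map_one, Subgroup.coe_one]
    · have := congrArg (fun v => ((η v : K) : G)) hinv
      simpa using this
  obtain ⟨o3, r3, i3⟩ := hmain _ _ _ 3 (by norm_num) f3 p3 n3
  obtain ⟨o7, r7, i7⟩ := hmain _ _ _ 7 (by norm_num) f7 p7 n7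
  obtain ⟨o13, r13, i13⟩ := hmain _ _ _ 13 (by norm_num) f13 p13 n13
  have hRprime : ∀ p : ℕ, p.Prime → (p = 3 ∨ p = 7 ∨ p = 13) → ¬ p ∣ Nat.card R := by
    intro p hp hp' hd
    haveI := Fact.mk hp
    obtain ⟨a, ha⟩ := exists_prime_orderOf_dvd_card' (G := R) p hd
    rw [← Subgroup.orderOf_coe] at ha
    rcases hp' with rfl | rfl | rfl
    · exact D.eq_one_of_inverted (hηK _) (hηK _) hp (by norm_num) o3 r3 i3 a.2 ha
    · exact D.eq_one_of_inverted (hηK _) (hηK _) hp (by norm_num) o7 r7 i7 a.2 ha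
    · exact D.eq_one_of_inverted (hηK _) (hηK _) hp (by norm_num) o13 r13 i13 a.2 ha
  -- cardinalities
  have hKR : ∀ v : K, (v : G) ∈ R → ∃ s ∈ center SL13, η s = v := fun v hv => by
    obtain ⟨s, rfl⟩ := hη v
    exact ⟨s, (hηR s).1 hv, rfl⟩
  have hKR2 : IsPGroup 2 ↥(K ⊓ R) := by
    refine (((IsPGroup.of_card (n := 1) (by rw [card_center13, pow_one]) :
      IsPGroup 2 ↥(center SL13))).map (K.subtype.comp η)).to_le fun v hv => ?_
    obtain ⟨s, hs, he⟩ := hKR ⟨v, hv.1⟩ hv.2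
    exact ⟨s, hs, congrArg Subtype.val he⟩
  have hKcard : Nat.card K ∣ 2184 := by
    have h := Subgroup.card_dvd_of_surjective η hη
    rwa [card_sl13] at h
  obtain ⟨q1, q2, q3, q4, q5, q6, q7, q8⟩ := q8_facts
  have hz : (η (mk13 12 0 0 12 (by decide)) : G) ∈ R := (hηR _).2 (z_mem_center _)
  have htwo : ∀ a ∈ R, ∀ k : ℕ, orderOf a = 2 ^ k → a ∈ K := fun a ha k hk =>
    D.mem_of_two_pow (hηK (mk13 5 0 0 8 (by decide))) (hηK (mk13 0 1 12 0 (by decide)))
      (hηK (mk13 2 11 10 10 (by decide)))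
      (by rw [← Subgroup.coe_mul, ← map_mul, q1]; exact hz)
      (by rw [← Subgroup.coe_mul, ← map_mul, q2]; exact hz)
      (by
        rw [← Subgroup.coe_inv, ← Subgroup.coe_inv, ← map_inv, ← map_inv, ← Subgroup.coe_mul,
          ← Subgroup.coe_mul, ← Subgroup.coe_mul, ← map_mul, ← map_mul, ← map_mul, q3]
        exact hz)
      (hnc _ _ q6) (hnc _ _ q7)
      (by rw [← Subgroup.coe_mul, ← map_mul]; exact hnc _ _ q8)
      (by rw [← Subgroup.coe_inv, ← map_inv, ← Subgroup.coe_mul, ← Subgroup.coe_mul, ← map_mul,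
        ← map_mul, q4])
      (by rw [← Subgroup.coe_inv, ← map_inv, ← Subgroup.coe_mul, ← Subgroup.coe_mul,
        ← Subgroup.coe_mul, ← map_mul, ← map_mul, ← map_mul, q5])
      ha hk hKR2
  -- all subgroups of `R` are normal
  have hprimary : ∀ r k : ℕ, r.Prime → ∀ a ∈ R, orderOf a = r ^ k → ∀ b ∈ R,
      b * a * b⁻¹ ∈ zpowers a := fun r k hr a ha hk b hb => by
    by_cases h3 : r = 3
    · exact D.conj_mem_zpowers (hηK _) r7 (p := 7) (by norm_num) hr (by omega) o7 ha hk hb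
    · exact D.conj_mem_zpowers (hηK _) r3 (p := 3) (by norm_num) hr (Ne.symm h3) o3 ha hk hb
  have hzconj : ∀ n : ℕ, ∀ a ∈ R, orderOf a = n → ∀ b ∈ R, b * a * b⁻¹ ∈ zpowers a := by
    intro n
    induction n using Nat.strong_induction_on with
    | _ n ih =>
      intro a ha hn b hb
      rcases eq_or_ne n 1 with rfl | hn1
      · rw [orderOf_eq_one_iff.1 hn]; simp
      obtain ⟨r, hr, hrn⟩ := Nat.exists_prime_and_dvd hn1
      have hn0 : n ≠ 0 := hn ▸ (orderOf_pos a).ne'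
      obtain ⟨k, m, hm, hnm⟩ := Nat.exists_eq_pow_mul_and_not_dvd hn0 r hr.ne_one
      have hk : k ≠ 0 := fun h => hm (by rw [h, pow_zero, one_mul] at hnm; exact hnm ▸ hrn)
      have hrk : 1 < r ^ k := Nat.one_lt_pow hk hr.one_lt
      have hm0 : 0 < m := Nat.pos_of_ne_zero fun h => hn0 (by rw [hnm, h, mul_zero])
      have o1 : orderOf (a ^ m) = r ^ k := by
        rw [orderOf_pow' a hm0.ne', hn, hnm, Nat.gcd_eq_right (dvd_mul_left m _),
          Nat.mul_div_cancel _ hm0]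
      have o2 : orderOf (a ^ r ^ k) = m := by
        rw [orderOf_pow' a (by omega), hn, hnm, Nat.gcd_eq_right (dvd_mul_right _ m),
          Nat.mul_div_cancel_left _ (by omega)]
      have c1 := hprimary r k hr _ (R.pow_mem ha m) o1 b hb
      have c2 := ih m (by rw [hnm]; exact lt_mul_of_one_lt_left hm0 hrk) _ (R.pow_mem ha (r ^ k)) o2
        b hb
      have hcop : (r ^ k).Coprime m := Nat.Coprime.pow_left k ((hr.coprime_iff_not_dvd).2 hm)
      obtain ⟨u, v, huv⟩ : ∃ u v : ℤ, u * (r ^ k : ℕ) + v * (m : ℤ) = 1 :=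
        Nat.isCoprime_iff_coprime.2 hcop
      have e : a = (a ^ r ^ k) ^ u * (a ^ m) ^ v := by
        rw [← zpow_natCast a (r ^ k), ← zpow_natCast a m, ← zpow_mul, ← zpow_mul, ← zpow_add,
          mul_comm _ u, mul_comm (m : ℤ) v, huv, zpow_one]
      have e' : b * a * b⁻¹ = (b * a ^ r ^ k * b⁻¹) ^ u * (b * a ^ m * b⁻¹) ^ v := by
        rw [conj_zpow, conj_zpow, conj_mul, ← e]
      rw [e']
      exact mul_mem (zpow_mem (zpowers_le.2 (pow_mem (mem_zpowers a) _) c2) u)
        (zpow_mem (zpowers_le.2 (pow_mem (mem_zpowers a) _) c1) v)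
  have hnormal : ∀ A : Subgroup R, A.Normal := fun A => ⟨fun a haA b => by
    obtain ⟨i, hi⟩ := Subgroup.mem_zpowers_iff.1 (hzconj _ (a : G) a.2 rfl (b : G) b.2)
    have he : b * a * b⁻¹ = a ^ i := Subtype.ext (by simpa using hi.symm)
    rw [he]
    exact A.zpow_mem haA i⟩
  -- the odd part
  set Z : Subgroup R := (K ⊓ R).subgroupOf R with hZdef
  haveI : Z.Normal := hnormal Z
  have hZp : IsPGroup 2 Z := hKR2.comap_subtype
  have hZidx : ¬ 2 ∣ Z.index := fun h => by
    obtain ⟨P⟩ := (Sylow.nonempty : Nonempty (Sylow 2 R))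
    refine P.not_dvd_index (h.trans (Subgroup.index_dvd_of_le fun x hx => ?_))
    obtain ⟨k, hk⟩ := IsPGroup.iff_orderOf.1 P.2 ⟨x, hx⟩
    rw [← Subgroup.orderOf_coe] at hk
    exact ⟨htwo x x.2 k ((Subgroup.orderOf_coe x).trans hk), x.2⟩
  obtain ⟨kz, hkz⟩ := IsPGroup.iff_card.1 hZp
  obtain ⟨W, hW⟩ := Subgroup.exists_right_complement'_of_coprime (N := Z) (by
    rw [hkz]; exact Nat.Coprime.pow_left kz ((Nat.prime_two.coprime_iff_not_dvd).2 hZidx))
  have hWc : Nat.card W = Z.index := hW.symm.index_eq_card.symm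
  have hWodd : Odd (Nat.card W) := by
    rw [hWc]; exact Nat.odd_iff.2 (Nat.two_dvd_ne_zero.1 hZidx)
  set S : Subgroup G := W.map R.subtype with hS
  have hSR : S ≤ R := Subgroup.map_subtype_le W
  have hScard : Nat.card S = Nat.card W := Subgroup.card_map_of_injective R.subtype_injective
  have hWn : W.Normal := hnormal W
  have hSR' : ∀ r ∈ R, ∀ v ∈ S, r * v * r⁻¹ ∈ S := by
    rintro r hr _ ⟨v, hv, rfl⟩
    exact ⟨_, hWn.conj_mem v hv ⟨r, hr⟩, by simp⟩
  have hsupR : (K ⊓ R) ⊔ S = R := by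
    have h := congrArg (Subgroup.map R.subtype) hW.sup_eq_top
    rwa [Subgroup.map_sup, hZdef, map_subgroupOf_eq_of_le inf_le_right, ← MonoidHom.range_eq_map,
      range_subtype, ← hS] at h
  refine ⟨K, S, D.normal, ⟨fun v hv g => ?_⟩, ?_, ?_, ?_, ?_, ?_⟩
  · obtain ⟨k, hk, r, hr, rfl⟩ := Subgroup.mem_sup_of_normal_left.1 (D.sup ▸ Subgroup.mem_top g)
    have h1 := hSR' r hr v hv
    rw [show k * r * v * (k * r)⁻¹ = k * (r * v * r⁻¹) * k⁻¹ by group,
      D.comm k hk _ (hSR h1), mul_inv_cancel_right]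
    exact h1
  · refine (Subgroup.eq_bot_iff_forall _).2 fun v ⟨hvK, hvS⟩ => ?_
    obtain ⟨w, hw, rfl⟩ := hvS
    have : w ∈ (⊥ : Subgroup R) := hW.disjoint.eq_bot ▸
      Subgroup.mem_inf.2 ⟨(⟨hvK, w.2⟩ : (w : G) ∈ K ⊓ R), hw⟩
    rw [Subgroup.mem_bot.1 this, map_one]
  · refine eq_top_iff.2 (D.sup ▸ sup_le le_sup_left ?_)
    exact hsupR ▸ sup_le (inf_le_left.trans le_sup_left) le_sup_right
  · by_cases hc : ∀ s ∈ center SL13, η s = 1
    · left
      let σ : K →* PSL13 := q.comp K.subtype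
      refine ⟨MulEquiv.ofBijective σ ⟨?_, fun y => ?_⟩⟩
      · rw [injective_iff_map_eq_one]
        intro v hv
        obtain ⟨s, hs, rfl⟩ := hKR v (hker ▸ hv)
        exact hc s hs
      · obtain ⟨s, rfl⟩ := QuotientGroup.mk'_surjective (center SL13) y
        exact ⟨η s, hqη s⟩
    · right
      refine ⟨(MulEquiv.ofBijective η ⟨?_, hη⟩).symm⟩
      rw [← MonoidHom.ker_eq_bot_iff, Subgroup.eq_bot_iff_forall]
      intro s hs
      have hsc : s ∈ center SL13 := (hηR s).1 (by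
        rw [MonoidHom.mem_ker.1 hs]; exact R.one_mem)
      by_contra hs1
      refine hc fun t ht => ?_
      have : Fact (Nat.Prime 2) := ⟨Nat.prime_two⟩
      have hgen : zpowers (⟨s, hsc⟩ : center SL13) = ⊤ :=
        zpowers_eq_top_of_prime_card card_center13 fun h => hs1 (congrArg Subtype.val h)
      obtain ⟨i, hi⟩ := Subgroup.mem_zpowers_iff.1 (hgen ▸ Subgroup.mem_top (⟨t, ht⟩ : center SL13))
      rw [← show s ^ i = t from congrArg Subtype.val hi, map_zpow, MonoidHom.mem_ker.1 hs, one_zpow]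
  · refine ⟨⟨fun v w => ?_⟩⟩
    obtain ⟨_, a, ha, rfl⟩ := v
    obtain ⟨_, b, hb, rfl⟩ := w
    have hWall : ∀ A : Subgroup W, A.Normal := fun A => ⟨fun x hx y => by
      obtain ⟨x', hx', he⟩ : W.subtype (y * x * y⁻¹) ∈ A.map W.subtype := by
        rw [map_mul, map_mul, map_inv]
        exact (hnormal (A.map W.subtype)).conj_mem _ (mem_map_of_mem _ hx) _
      exact W.subtype_injective he ▸ hx'⟩
    have hab : Commute (⟨a, ha⟩ : W) ⟨b, hb⟩ := by
      by_contra h
      have h2 := (S4211.good_of_not_commute hWall _ _ _ le_rfl h).1.1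
      exact (Nat.not_even_iff_odd.2 hWodd) (even_iff_two_dvd.2 (h2.trans (orderOf_dvd_natCard _)))
    apply Subtype.ext
    have := congrArg (fun z : W => ((z : R) : G)) hab.eq
    simpa using this
  · refine (Nat.Coprime.coprime_dvd_left hKcard ?_)
    rw [show 2184 = 2 ^ 3 * 3 * 7 * 13 by norm_num, hScard]
    have hd : ∀ p : ℕ, p.Prime → (p = 3 ∨ p = 7 ∨ p = 13) → Nat.Coprime p (Nat.card W) :=
      fun p hp h => hp.coprime_iff_not_dvd.2 fun hd =>
        hRprime p hp h (hd.trans (Subgroup.card_subgroup_dvd_card W))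
    exact Nat.Coprime.mul_left (Nat.Coprime.mul_left (Nat.Coprime.mul_left
      (Nat.Coprime.pow_left 3 (Nat.coprime_two_left.2 hWodd)) (hd 3 (by norm_num) (by omega)))
      (hd 7 (by norm_num) (by omega))) (hd 13 (by norm_num) (by omega))

end Cfsg.Agent.MaxNorm91
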