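import Cfsg.Agent.MaxNorm91.Defs
import Cfsg.Agent.FGS77.SolvSup
import Cfsg.Agent.Lib.CharCore.Burnside
import Mathlib.GroupTheory.SchurZassenhaus

/-!
# The quotient by the solvable radical
-/

set_option autoImplicit false

namespace Cfsg.Agent.MaxNorm91

open Subgroup

universe u

/-- No nontrivial normal subgroup is solvable. -/
def RadFree (Q : Type*) [Group Q] : Prop :=
  ∀ N : Subgroup Q, N.Normal → Group.IsSolvable ↥N → N = ⊥

theorem solvable_map {G H : Type*} [Group G] [Group H] (f : G →* H) {N : Subgroup G}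
    (hN : Group.IsSolvable ↥N) : Group.IsSolvable ↥(N.map f) :=
  haveI := hN
  Group.isSolvable_of_surjective (f := f.subgroupMap N) (f.subgroupMap_surjective N)

theorem exists_maximal_solvable (G : Type u) [Group G] [Finite G] :
    ∃ R : Subgroup G, R.Normal ∧ Group.IsSolvable ↥R ∧
      ∀ N : Subgroup G, N.Normal → Group.IsSolvable ↥N → N ≤ R := by
  obtain ⟨R, -, hR⟩ := Finite.exists_le_maximal
    (p := fun K : Subgroup G => K.Normal ∧ Group.IsSolvable ↥K) (a := ⊥)
    ⟨normal_bot, Group.isSolvable_of_comm fun a b => Subsingleton.elim _ _⟩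
  refine ⟨R, hR.prop.1, hR.prop.2, fun N hN hNs => ?_⟩
  haveI := hN; haveI := hR.prop.1
  have h : R ⊔ N ≤ R := hR.2 ⟨inferInstance, FGS77.isSolvable_sup_of_normalizes hR.prop.2 hNs
    (by rw [normalizer_eq_top]; exact le_top)⟩ le_sup_left
  exact le_sup_right.trans h

theorem RadFree.of_normal {Q : Type u} [Group Q] [Finite Q] (hQ : RadFree Q) {K : Subgroup Q}
    (hK : K.Normal) : RadFree ↥K := by
  intro N hN hNs
  obtain ⟨M, hMn, hMs, hM⟩ := exists_maximal_solvable ↥K
  haveI := hK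
  haveI : M.Characteristic := characteristic_iff_map_le.mpr fun φ =>
    hM _ (hMn.map _ φ.surjective) (solvable_map _ hMs)
  have h : M.map K.subtype = ⊥ := hQ _ (inferInstance) (solvable_map _ hMs)
  exact le_bot_iff.mp ((hM N hN hNs).trans ((map_eq_bot_iff_of_injective _ K.subtype_injective).mp h).le)

theorem RadFree.congr {Q Q' : Type*} [Group Q] [Group Q'] (hQ : RadFree Q) (e : Q ≃* Q') :
    RadFree Q' := by
  intro N hN hNs
  have h : N.map e.symm.toMonoidHom = ⊥ :=
    hQ _ (hN.map _ e.symm.surjective) (solvable_map _ hNs)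
  exact (map_eq_bot_iff_of_injective _ e.symm.injective).mp h

theorem RadFree.of_isSubnormal {Q : Type u} [Group Q] [Finite Q] (hQ : RadFree Q) {H : Subgroup Q}
    (hH : H.IsSubnormal) : RadFree ↥H := by
  induction hH with
  | top => exact hQ.congr topEquiv.symm
  | step H K hle _ hn ih =>
    exact (ih.of_normal hn).congr (subgroupOfEquivOfLe hle)

theorem RadFree.eq_bot {Q : Type u} [Group Q] [Finite Q] (hQ : RadFree Q) {H : Subgroup Q}
    (hH : H.IsSubnormal) (hs : Group.IsSolvable ↥H) : H = ⊥ := by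
  haveI := hs
  have h : (⊤ : Subgroup ↥H) = ⊥ := hQ.of_isSubnormal hH ⊤ inferInstance
    (Group.isSolvable_of_surjective (f := (topEquiv (G := ↥H)).symm.toMonoidHom)
      (topEquiv (G := ↥H)).symm.surjective)
  rw [eq_bot_iff_forall]
  intro x hx
  have hx' : (⟨x, hx⟩ : ↥H) ∈ (⊤ : Subgroup ↥H) := mem_top _
  rw [h, Subgroup.mem_bot] at hx'
  exact congrArg Subtype.val hx'

/-- A group whose order has two prime divisors is solvable. -/
theorem TwoPrimes.isSolvable {G : Type u} [Group G] [Finite G] {H : Subgroup G} (h : TwoPrimes H) :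
    Group.IsSolvable ↥H := by
  obtain ⟨p, q, hp, hq, h⟩ := h
  set n := Nat.card ↥H with hn
  have hn0 : n ≠ 0 := Nat.card_pos.ne'
  obtain ⟨e, m, hm, he⟩ := Nat.exists_eq_pow_mul_and_not_dvd hn0 p hp.ne_one
  have hm0 : m ≠ 0 := fun h0 => hn0 (by rw [he, h0, mul_zero])
  obtain ⟨k, hk⟩ : ∃ k, m = q ^ k := ⟨_, Nat.eq_prime_pow_of_unique_prime_dvd hm0 fun {d} hd hdm =>
    (h d hd (he ▸ hdm.mul_left _)).resolve_left fun hdp => hm (hdp ▸ hdm)⟩
  exact CharCore.isSolvable_of_card_eq_prime_pow_mul hp hq n ↥H e k rfl (he.trans (by rw [hk]))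

theorem dvd_card_iff_exists_orderOf {G : Type*} [Group G] [Finite G] {H : Subgroup G} {p : ℕ}
    (hp : p.Prime) (h : p ∣ Nat.card ↥H) : ∃ x ∈ H, orderOf x = p := by
  haveI : Fact p.Prime := ⟨hp⟩
  obtain ⟨x, hx⟩ := exists_prime_orderOf_dvd_card' p h
  exact ⟨x, x.2, by rw [orderOf_coe]; exact hx⟩

/-- A two-prime subgroup of a quotient by a normal subgroup is the image of a two-prime
subgroup. -/
theorem exists_twoPrimes_lift {G : Type u} [Group G] [Finite G] {R : Subgroup G} [R.Normal]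
    {H' : Subgroup (G ⧸ R)} (h : TwoPrimes H') :
    ∃ H : Subgroup G, H.map (QuotientGroup.mk' R) = H' ∧ TwoPrimes H := by
  set π := QuotientGroup.mk' R with hπ
  obtain ⟨p, q, hp, hq, hH'⟩ := h
  obtain ⟨H, -, hH⟩ := Finite.exists_le_minimal (p := fun K : Subgroup G => K.map π = H')
    (a := H'.comap π) (map_comap_eq_self_of_surjective (QuotientGroup.mk'_surjective R) H')
  refine ⟨H, hH.prop, p, q, hp, hq, fun r hr hrd => ?_⟩
  by_contra hne
  haveI : Fact r.Prime := ⟨hr⟩
  set N : Subgroup ↥H := R.subgroupOf H with hN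
  have hNker : (π.comp H.subtype).ker = N := by
    ext x
    simp [N, π, mem_subgroupOf, QuotientGroup.eq_one_iff]
  have hidx : ¬ r ∣ N.index := by
    rw [← hNker, index_ker, MonoidHom.range_comp, range_subtype, hH.prop]
    exact fun hd => hne (hH' r hr hd)
  have hmin : ∀ C : Subgroup ↥H, C ⊔ N = ⊤ → C = ⊤ := by
    intro C hC
    have hmap : (C.map H.subtype).map π = H' := by
      rw [map_map]
      have h1 : C.map (π.comp H.subtype) = (⊤ : Subgroup ↥H).map (π.comp H.subtype) := by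
        rw [← hC, Subgroup.map_sup, ← hNker,
          (Subgroup.map_eq_bot_iff _).mpr (le_refl (π.comp H.subtype).ker), sup_bot_eq]
      rw [h1, ← MonoidHom.range_eq_map, MonoidHom.range_comp, range_subtype, hH.prop]
    have h2 : H ≤ C.map H.subtype := hH.2 hmap (map_subtype_le C)
    refine eq_top_iff.mpr fun x _ => ?_
    obtain ⟨y, hy, hyx⟩ := h2 x.2
    rwa [← Subtype.ext hyx]
  obtain ⟨P⟩ := (inferInstance : Nonempty (Sylow r ↥N))
  set S := (P : Subgroup ↥N).map N.subtype with hS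
  have hSn : S.Normal := by
    rw [← normalizer_eq_top_iff]
    exact hmin _ P.normalizer_sup_eq_top
  haveI := hSn
  have hSp : IsPGroup r ↥S := P.isPGroup'.map _
  have hSN : S ≤ N := map_subtype_le _
  have hSidx : ¬ r ∣ S.index := by
    rw [← relIndex_mul_index hSN]
    intro hd
    rcases hr.dvd_mul.mp hd with hd | hd
    · refine P.not_dvd_index ?_
      rwa [relIndex, hS, ← comap_subtype, comap_map_eq_self_of_injective N.subtype_injective] at hd
    · exact hidx hd
  obtain ⟨k, hk⟩ := IsPGroup.iff_card.mp hSp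
  have hcop : (Nat.card ↥S).Coprime S.index := by
    rw [hk]; exact ((hr.coprime_iff_not_dvd).mpr hSidx).pow_left k
  obtain ⟨C, hC⟩ := exists_right_complement'_of_coprime hcop
  have hCtop : C = ⊤ := hmin C (eq_top_iff.mpr (by
    rw [← hC.sup_eq_top, sup_comm]
    exact sup_le_sup_left hSN C))
  have hS1 : S = ⊥ := by
    have h1 := hC.card_mul
    rw [hCtop, card_top] at h1
    exact eq_bot_of_card_eq S ((mul_eq_right₀ Nat.card_pos.ne').mp h1)
  rw [hS1, index_bot] at hSidx
  exact hSidx hrd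

/-- The hypothesis passes to the quotient by a solvable radical. -/
theorem maxNorm_quotient {G : Type u} [Group G] [Finite G] (h : Hyp G) (R : Subgroup G) [R.Normal]
    (hfree : RadFree (G ⧸ R)) : MaxNorm (G ⧸ R) := by
  intro H' hne h2
  set π := QuotientGroup.mk' R with hπ
  have hs : Function.Surjective π := QuotientGroup.mk'_surjective R
  obtain ⟨H, hmap, hH2⟩ := exists_twoPrimes_lift h2
  have hnsub' : ¬ H'.IsSubnormal := fun hsub => hne (hfree.eq_bot hsub h2.isSolvable)
  have hcoat := h H (fun hsub => hnsub' (hmap ▸ hsub.map hs)) hH2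
  have hle : normalizer (H : Set G) ≤ (normalizer (H' : Set (G ⧸ R))).comap π := by
    rw [← map_le_iff_le_comap, ← hmap]
    exact le_normalizer_map π
  have htop : normalizer (H' : Set (G ⧸ R)) ≠ ⊤ := fun ht =>
    hnsub' (normalizer_eq_top_iff.mp ht).isSubnormal
  have heq : (normalizer (H' : Set (G ⧸ R))).comap π = normalizer (H : Set G) := by
    rcases eq_or_lt_of_le hle with e | e
    · exact e.symm
    · refine absurd (comap_injective hs ?_) htop
      rw [hcoat.2 _ e, comap_top]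
  refine ⟨htop, fun K hK => comap_injective hs ?_⟩
  rw [comap_top]
  exact hcoat.2 _ (heq ▸ (comap_lt_comap_of_surjective hs).mpr hK)

theorem radFree_quotient {G : Type u} [Group G] [Finite G] {R : Subgroup G} [R.Normal]
    (hRs : Group.IsSolvable ↥R) (hR : ∀ N : Subgroup G, N.Normal → Group.IsSolvable ↥N → N ≤ R) :
    RadFree (G ⧸ R) := by
  intro N hN hNs
  set π := QuotientGroup.mk' R with hπ
  have hle : R ≤ N.comap π := fun x hx => by
    rw [mem_comap, show π x = 1 from (QuotientGroup.eq_one_iff x).mpr hx]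
    exact one_mem _
  have hsol : Group.IsSolvable ↥(N.comap π) := by
    haveI := hRs
    haveI := hNs
    refine Group.isSolvable_of_ker_le_range (inclusion hle) (π.subgroupComap N) ?_
    intro x hx
    exact ⟨⟨x, (QuotientGroup.eq_one_iff _).mp (congrArg Subtype.val hx)⟩, rfl⟩
  rw [eq_bot_iff]
  intro y hy
  obtain ⟨x, rfl⟩ := QuotientGroup.mk'_surjective R y
  exact (QuotientGroup.eq_one_iff x).mpr (hR _ (hN.comap π) hsol hy)

section Max

variable {Q : Type u} [Group Q] [Finite Q]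

theorem mem_normalizer_zpowers_pow {w g : Q} (hg : g ∈ normalizer (zpowers w : Set Q)) (k : ℕ) :
    g * w ^ k * g⁻¹ ∈ zpowers (w ^ k) := by
  obtain ⟨i, hi⟩ := mem_zpowers_iff.mp ((mem_normalizer_iff.mp hg w).mp (mem_zpowers w))
  refine mem_zpowers_iff.mpr ⟨i, ?_⟩
  rw [← conj_pow, ← hi, ← zpow_natCast, ← zpow_mul, ← zpow_natCast, ← zpow_mul, mul_comm]

theorem normalizer_zpowers_le_pow (w : Q) (k : ℕ) :
    normalizer (zpowers w : Set Q) ≤ normalizer (zpowers (w ^ k) : Set Q) := by
  intro g hg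
  have key : ∀ g ∈ normalizer (zpowers w : Set Q), ∀ x ∈ zpowers (w ^ k),
      g * x * g⁻¹ ∈ zpowers (w ^ k) := by
    intro g hg x hx
    obtain ⟨j, rfl⟩ := mem_zpowers_iff.mp hx
    rw [← conj_zpow]
    exact zpow_mem (mem_normalizer_zpowers_pow hg k) j
  refine mem_normalizer_iff.mpr fun x => ⟨key g hg x, fun hx => ?_⟩
  have h := key g⁻¹ (inv_mem hg) _ hx
  simpa [mul_assoc] using h

/-- Commuting elements of distinct prime orders generate subgroups with the same normalizer. -/
theorem MaxNorm.normalizer_eq (hQ : MaxNorm Q) {p q : ℕ} (hp : p.Prime) (hq : q.Prime)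
    (hpq : p ≠ q) {u v : Q} (hu : orderOf u = p) (hv : orderOf v = q) (hc : Commute u v) :
    normalizer (zpowers u : Set Q) = normalizer (zpowers v : Set Q) := by
  have main : ∀ {p q : ℕ}, p.Prime → q.Prime → p ≠ q → ∀ {u v : Q}, orderOf u = p →
      orderOf v = q → Commute u v →
      normalizer (zpowers (u * v) : Set Q) = normalizer (zpowers u : Set Q) := by
    intro p q hp hq hpq u v hu hv hc
    have hcop : (orderOf u).Coprime (orderOf v) := by
      rw [hu, hv]; exact (Nat.coprime_primes hp hq).mpr hpq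
    have hord : orderOf (u * v) = p * q := by
      rw [hc.orderOf_mul_eq_mul_orderOf_of_coprime hcop, hu, hv]
    have hle : normalizer (zpowers (u * v) : Set Q) ≤ normalizer (zpowers u : Set Q) := by
      have h1 : zpowers ((u * v) ^ q) = zpowers u := by
        rw [hc.mul_pow, show v ^ q = 1 by rw [← hv]; exact pow_orderOf_eq_one v, mul_one]
        refine le_antisymm (zpowers_le.mpr (pow_mem (mem_zpowers u) q)) (zpowers_le.mpr ?_)
        obtain ⟨m, hm⟩ := exists_pow_eq_self_of_coprime (n := q) (x := u) (by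
          rw [← hv]; exact hcop.symm)
        exact mem_zpowers_iff.mpr ⟨m, by rw [zpow_natCast]; exact hm⟩
      have h2 := normalizer_zpowers_le_pow (u * v) q
      rwa [h1] at h2
    have huv : zpowers (u * v) ≠ ⊥ := by
      rw [Ne, zpowers_eq_bot]
      intro h
      rw [h, orderOf_one] at hord
      exact hp.ne_one (Nat.eq_one_of_mul_eq_one_right hord.symm)
    have hu1 : zpowers u ≠ ⊥ := by
      rw [Ne, zpowers_eq_bot]
      intro h
      rw [h, orderOf_one] at hu
      exact hp.ne_one hu.symm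
    have h3 := hQ _ huv ⟨p, q, hp, hq, fun r hr hd => by
      rw [Nat.card_zpowers, hord] at hd
      rcases hr.dvd_mul.mp hd with hd | hd
      · exact Or.inl ((Nat.prime_dvd_prime_iff_eq hr hp).mp hd)
      · exact Or.inr ((Nat.prime_dvd_prime_iff_eq hr hq).mp hd)⟩
    have h4 := hQ _ hu1 ⟨p, p, hp, hp, fun r hr hd => by
      rw [Nat.card_zpowers, hu] at hd
      exact Or.inl ((Nat.prime_dvd_prime_iff_eq hr hp).mp hd)⟩
    rcases eq_or_lt_of_le hle with e | e
    · exact e
    · exact absurd (h3.2 _ e) h4.1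
  have h := main hq hp hpq.symm hv hu hc.symm
  rw [← main hp hq hpq hu hv hc, ← h, hc.eq]

theorem ne_isPGroup {B : Subgroup Q} (hB : ¬ Group.IsSolvable ↥B) (p : ℕ) [Fact p.Prime] :
    ∃ q : ℕ, q.Prime ∧ q ≠ p ∧ q ∣ Nat.card ↥B := by
  by_contra hne
  push Not at hne
  refine hB (TwoPrimes.isSolvable ⟨p, p, Fact.out, Fact.out, fun r hr hd => Or.inl ?_⟩)
  by_contra hrp
  exact hne r hr hrp hd

/-- Commuting subnormal subgroups: one of them is trivial. -/
theorem MaxNorm.not_commute (hQ : MaxNorm Q) (hfree : RadFree Q) {A B : Subgroup Q}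
    (hA : A ≠ ⊥) (hB : B.IsSubnormal) (hB1 : B ≠ ⊥)
    (hcomm : B ≤ centralizer (A : Set Q)) : False := by
  have hAc : Nat.card ↥A ≠ 1 := fun h => hA (eq_bot_of_card_eq A h)
  obtain ⟨p, hp, hpd⟩ := Nat.exists_prime_and_dvd hAc
  haveI : Fact p.Prime := ⟨hp⟩
  have hBs : ¬ Group.IsSolvable ↥B := fun h => hB1 (hfree.eq_bot hB h)
  obtain ⟨q, hq, hqp, hqd⟩ := ne_isPGroup hBs p
  obtain ⟨u, huA, hu⟩ := dvd_card_iff_exists_orderOf hp hpd
  obtain ⟨v, hvB, hv⟩ := dvd_card_iff_exists_orderOf hq hqd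
  have hc : Commute u v := mem_centralizer_iff.mp (hcomm hvB) u huA
  have hN := hQ.normalizer_eq hp hq hqp.symm hu hv hc
  have hBN : B ≤ normalizer (zpowers v : Set Q) := by
    rw [← hN]
    refine le_trans (fun b hb => ?_) (centralizer_le_normalizer (zpowers u : Set Q))
    refine mem_centralizer_iff.mpr fun x hx => ?_
    obtain ⟨i, rfl⟩ := mem_zpowers_iff.mp hx
    exact ((show Commute u b from mem_centralizer_iff.mp (hcomm hb) u huA).zpow_left i).eq
  have hvle : zpowers v ≤ B := zpowers_le.mpr hvB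
  have hsub : (zpowers v).IsSubnormal :=
    IsSubnormal.step _ B hvle hB (normal_subgroupOf_of_le_normalizer hBN)
  have h := hfree.eq_bot hsub (Group.isSolvable_of_comm fun a b => mul_comm' a b)
  rw [zpowers_eq_bot] at h
  rw [h, orderOf_one] at hv
  exact hq.ne_one hv.symm

/-- A minimal normal subgroup is simple with trivial centralizer. -/
theorem exists_ctx [Nontrivial Q] (hQ : MaxNorm Q) (hfree : RadFree Q) :
    ∃ T : Subgroup Q, Ctx T := by
  obtain ⟨T, -, hT⟩ := Finite.exists_le_minimal (p := fun K : Subgroup Q => K.Normal ∧ K ≠ ⊥)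
    (a := ⊤) ⟨inferInstance, top_ne_bot⟩
  obtain ⟨hTn, hT1⟩ := hT.prop
  haveI := hTn
  have hTs : ¬ Group.IsSolvable ↥T := fun h => hT1 (hfree T hTn h)
  have hnab : ¬ IsMulCommutative ↥T := fun h => hTs (Group.isSolvable_of_comm fun a b => h.is_comm.comm a b)
  haveI : Nontrivial ↥T := (nontrivial_iff_ne_bot T).mpr hT1
  have hsimple : IsSimpleGroup ↥T := by
    refine ⟨fun N hN => ?_⟩
    by_contra hne
    push Not at hne
    obtain ⟨hN1, hN2⟩ := hne
    obtain ⟨M, hMN, hM⟩ := Finite.exists_le_minimal (p := fun K : Subgroup ↥T => K.Normal ∧ K ≠ ⊥)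
      ⟨hN, hN1⟩
    obtain ⟨hMn, hM1⟩ := hM.prop
    set M' := M.map T.subtype with hM'
    have hM'1 : M' ≠ ⊥ := fun h => hM1 ((map_eq_bot_iff_of_injective _ T.subtype_injective).mp h)
    have hM'ne : ¬ M'.Normal := fun h => hN2 (by
      have hle : T ≤ M' := hT.2 ⟨h, hM'1⟩ (map_subtype_le M)
      refine eq_top_iff.mpr fun x _ => hMN ?_
      obtain ⟨y, hy, hyx⟩ := hle x.2
      rwa [← Subtype.ext hyx])
    obtain ⟨g, hg⟩ : ∃ g : Q, M'.map (MulAut.conj g).toMonoidHom ≠ M' := by
      by_contra hall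
      push Not at hall
      refine hM'ne ⟨fun x hx g => ?_⟩
      have h := mem_map_of_mem (MulAut.conj g).toMonoidHom hx
      rw [hall g] at h
      exact h
    set B' := M'.map (MulAut.conj g).toMonoidHom with hB'
    have hB'T : B' ≤ T := by
      rintro _ ⟨x, hx, rfl⟩
      exact hTn.conj_mem x (map_subtype_le M hx) g
    have hM'n : ∀ t ∈ T, ∀ x ∈ M', t * x * t⁻¹ ∈ M' := by
      rintro t ht _ ⟨x, hx, rfl⟩
      exact ⟨⟨t, ht⟩ * x * ⟨t, ht⟩⁻¹, hMn.conj_mem x hx _, rfl⟩
    have hB'n : (B'.subgroupOf T).Normal := by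
      refine ⟨fun x hx t => ?_⟩
      obtain ⟨y, hy, hyx⟩ := mem_subgroupOf.mp hx
      have ht : g⁻¹ * (t : Q) * g ∈ T := by
        have := hTn.conj_mem (t : Q) t.2 g⁻¹
        rwa [inv_inv] at this
      refine mem_subgroupOf.mpr ⟨_, hM'n _ ht _ hy, ?_⟩
      show g * (g⁻¹ * (t : Q) * g * y * (g⁻¹ * (t : Q) * g)⁻¹) * g⁻¹ = (t : Q) * (x : Q) * (t : Q)⁻¹
      rw [← show g * y * g⁻¹ = (x : Q) from hyx]
      group
    have hM'B' : M' ⊓ B' = ⊥ := by
      by_contra hne'
      have hD : ((M' ⊓ B').subgroupOf T).Normal := by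
        refine ⟨fun x hx t => ⟨hM'n _ t.2 _ hx.1, hB'n.conj_mem x hx.2 t⟩⟩
      have hD1 : (M' ⊓ B').subgroupOf T ≠ ⊥ := fun h => by
        rw [subgroupOf_eq_bot, disjoint_iff, inf_eq_left.mpr (inf_le_left.trans (map_subtype_le M))]
          at h
        exact hne' h
      have hle : M ≤ (M' ⊓ B').subgroupOf T := hM.2 ⟨hD, hD1⟩ fun x hx => by
        obtain ⟨y, hy, hyx⟩ := hx.1
        rwa [← Subtype.ext hyx]
      have h1 : M' ≤ B' := by
        rintro _ ⟨x, hx, rfl⟩
        exact (hle hx).2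
      refine hg (eq_of_le_of_card_ge h1 ?_).symm
      rw [card_map_of_injective (MulAut.conj g).injective]
    have hcomm : B' ≤ centralizer (M' : Set Q) := by
      intro b hb
      refine mem_centralizer_iff.mpr fun m hm => ?_
      have h1 : m * b * m⁻¹ * b⁻¹ ∈ M' ⊓ B' := by
        refine ⟨?_, ?_⟩
        · rw [show m * b * m⁻¹ * b⁻¹ = m * (b * m⁻¹ * b⁻¹) by group]
          exact mul_mem hm (hM'n b (hB'T hb) _ (inv_mem hm))
        · have h2 : m * b * m⁻¹ ∈ B' :=
            hB'n.conj_mem ⟨b, hB'T hb⟩ hb ⟨m, map_subtype_le M hm⟩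
          exact B'.mul_mem h2 (B'.inv_mem hb)
      rw [hM'B', Subgroup.mem_bot] at h1
      calc m * b = m * b * m⁻¹ * b⁻¹ * (b * m) := by group
        _ = b * m := by rw [h1, one_mul]
    refine hQ.not_commute hfree hM'1 ?_ ?_ hcomm
    · exact IsSubnormal.step _ T hB'T hTn.isSubnormal hB'n
    · exact fun h => hM'1 ((map_eq_bot_iff_of_injective _ (MulAut.conj g).injective).mp h)
  refine ⟨T, hQ, hTn, hsimple, hnab, ?_⟩
  by_contra hC
  haveI : (centralizer (T : Set Q)).Normal := Subgroup.normal_centralizer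
  exact hQ.not_commute hfree hT1 (Normal.isSubnormal inferInstance) hC le_rfl

end Max

theorem radical : RadicalStmt.{u} := by
  intro G _ _ hG h
  obtain ⟨R, hRn, hRs, hR⟩ := exists_maximal_solvable G
  haveI := hRn
  have hfree := radFree_quotient hRs hR
  refine ⟨R, hRn, hRs, ?_⟩
  haveI : Nontrivial (G ⧸ R) := by
    rcases subsingleton_or_nontrivial (G ⧸ R) with hs | hn
    · refine absurd ?_ hG
      haveI := hRs
      exact (Group.isSolvable_iff_subgroup_quotient R).mpr ⟨hRs, inferInstance⟩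
    · exact hn
  exact exists_ctx (maxNorm_quotient h R hfree) hfree

end Cfsg.Agent.MaxNorm91
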