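import Cfsg.Agent.MaxNorm91.CentMain
import Cfsg.Agent.MaxNorm91.Radical
import Cfsg.Agent.MaxNorm91.Field
import Cfsg.Agent.MaxNorm91.Lift
import Cfsg.Agent.S3188
import Cfsg.Agent.PF14.Compose

/-!
# S4233 from the pieces
-/

set_option autoImplicit false
set_option linter.style.haveILetI false

namespace Cfsg.Agent.MaxNorm91

open Subgroup

universe u

theorem assemble (hsmall : SmallStmt.{u}) (G : Type u) [Group G] [Finite G]
    (hG : ¬ Group.IsSolvable G) (h : Hyp G) :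
    ∃ K S : Subgroup G, K.Normal ∧ S.Normal ∧ K ⊓ S = ⊥ ∧ K ⊔ S = ⊤ ∧
      (Nonempty (K ≃* Matrix.ProjectiveSpecialLinearGroup (Fin 2) (ZMod 13)) ∨
        Nonempty (K ≃* Matrix.SpecialLinearGroup (Fin 2) (ZMod 13))) ∧
      IsMulCommutative S ∧ (Nat.card K).Coprime (Nat.card S) := by
  obtain ⟨R, hR, hRs, T, hT⟩ := radical G hG h
  obtain ⟨hab, hsolv, hnot⟩ := cent (G ⧸ R) T hT
  haveI := hT.simple
  haveI : Fact (Nat.Prime 2) := ⟨Nat.prime_two⟩
  obtain ⟨S⟩ := (inferInstance : Nonempty (Sylow 2 ↥T))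
  rcases S3188.result S (hab S) hsolv with hs | ⟨F, fF, fFt, hq, N, hN, ⟨e⟩, hc⟩
  · exact absurd hs hT.not_solvable
  letI := fF
  letI := fFt
  have hO : Cfsg.oddCore ↥T = ⊥ := by
    rcases (inferInstance : (Cfsg.oddCore ↥T).Normal).eq_bot_or_eq_top with e0 | e0
    · exact e0
    · exfalso
      obtain ⟨t, ht⟩ : ∃ t : ↥T, orderOf t = 2 := by
        refine exists_prime_orderOf_dvd_card' 2 ?_
        by_contra h2
        exact hT.not_solvable (Cfsg.Agent.PF14.feitThompson _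
          (Nat.not_even_iff_odd.1 fun he => h2 (even_iff_two_dvd.1 he)))
      have hodd : Nat.Coprime (Nat.card ↥(Cfsg.oddCore ↥T)) 2 :=
        Thompson.card_pPrimeCore_coprime
      rw [e0, card_top] at hodd
      have := ht ▸ orderOf_dvd_natCard t
      exact absurd (Nat.coprime_two_right.1 hodd) (Nat.not_odd_iff_even.2 (even_iff_two_dvd.2 this))
  let π : ↥T ≃* ↥T ⧸ Cfsg.oddCore ↥T :=
    (QuotientGroup.quotientBot (G := ↥T)).symm.trans (QuotientGroup.quotientMulEquivOfEq hO.symm)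
  haveI : Nontrivial (↥T ⧸ Cfsg.oddCore ↥T) := π.symm.toEquiv.nontrivial
  haveI : IsSimpleGroup (↥T ⧸ Cfsg.oddCore ↥T) := IsSimpleGroup.isSimpleGroup_of_surjective
    π.toMonoidHom π.surjective
  rcases hN.eq_bot_or_eq_top with e0 | e0
  · exfalso
    rw [e0, coe_bot] at hc
    have htop : (⊤ : Subgroup (↥T ⧸ Cfsg.oddCore ↥T)) = ⊥ := by
      rw [eq_bot_iff]
      intro x _
      rw [← hc]
      exact fun y hy => by rw [Set.mem_singleton_iff.1 hy, one_mul, mul_one]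
    exact top_ne_bot htop
  · subst e0
    have e' : ↥T ≃* Matrix.ProjectiveSpecialLinearGroup (Fin 2) F :=
      π.trans (topEquiv.symm.trans e)
    obtain ⟨eQ⟩ := hsmall (G ⧸ R) T hT hnot F (fieldStmt (G ⧸ R) T hT F hq ⟨e'⟩) ⟨e'⟩
    exact lift G h R hRs ⟨eQ⟩

end Cfsg.Agent.MaxNorm91
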