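import Cfsg.Agent.MaxNorm91.Defs
import Cfsg.Agent.S0215
import Mathlib.GroupTheory.Nilpotent
import Mathlib.GroupTheory.Solvable
import Mathlib.GroupTheory.Abelianization.Defs

/-!
# Two-prime subgroups with maximal normalizers: basic lemmas
-/

set_option autoImplicit false
set_option linter.unusedSectionVars false
set_option linter.style.haveILetI false

namespace Cfsg.Agent.MaxNorm91

open Subgroup
open scoped commutatorElement

universe u

section General

variable {G : Type*} [Group G]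

theorem cs_iff {x g : G} : g ∈ centralizer ({x} : Set G) ↔ g * x = x * g :=
  mem_centralizer_singleton_iff

/-- Conjugation preserves a subgroup invariant under its normalizer. -/
theorem normalizer_le_of_char [Finite G] {H K : Subgroup G}
    (h : ∀ n ∈ normalizer (H : Set G), ∀ k ∈ K, n * k * n⁻¹ ∈ K) :
    normalizer (H : Set G) ≤ normalizer (K : Set G) := by
  intro n hn
  rw [mem_normalizer_iff]
  intro k
  refine ⟨h n hn k, fun hk => ?_⟩
  have := h n⁻¹ (inv_mem hn) _ hk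
  simpa [mul_assoc] using this

theorem mem_sup_iff_mul {A B : Subgroup G} (hn : A ≤ normalizer (B : Set G)) {g : G} :
    g ∈ A ⊔ B ↔ ∃ a ∈ A, ∃ b ∈ B, g = a * b := by
  rw [← SetLike.mem_coe, coe_mul_of_left_le_normalizer_right A B hn, Set.mem_mul]
  exact ⟨fun ⟨a, ha, b, hb, e⟩ => ⟨a, ha, b, hb, e.symm⟩,
    fun ⟨a, ha, b, hb, e⟩ => ⟨a, ha, b, hb, e.symm⟩⟩

theorem commute_le_normalizer {A B : Subgroup G} (hc : ∀ a ∈ A, ∀ b ∈ B, a * b = b * a) :
    A ≤ normalizer (B : Set G) := by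
  intro a ha
  rw [mem_normalizer_iff]
  intro b
  constructor
  · intro hb
    rwa [hc a ha b hb, mul_inv_cancel_right]
  · intro hb
    have e : a * b * a⁻¹ = b := by
      have := hc a ha _ hb
      have h2 : b = a⁻¹ * (a * b * a⁻¹) * a := by group
      rw [h2]
      calc a * (a⁻¹ * (a * b * a⁻¹) * a) * a⁻¹ = a * b * a⁻¹ := by group
        _ = a⁻¹ * (a * (a * b * a⁻¹)) := by group
        _ = a⁻¹ * ((a * b * a⁻¹) * a) := by rw [this]
        _ = _ := by group
    rwa [e] at hb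

/-- An element normalising a cyclic subgroup acts as a power map. -/
theorem conj_eq_zpow {x a : G} (ha : a ∈ normalizer (zpowers x : Set G)) :
    ∃ i : ℤ, a * x * a⁻¹ = x ^ i := by
  obtain ⟨i, hi⟩ := mem_zpowers_iff.1 ((mem_normalizer_iff.1 ha x).1 (mem_zpowers x))
  exact ⟨i, hi.symm⟩

/-- Commutators of elements normalising a cyclic subgroup centralise it. -/
theorem commutator_mem_centralizer {x a b : G} (ha : a ∈ normalizer (zpowers x : Set G))
    (hb : b ∈ normalizer (zpowers x : Set G)) : ⁅a, b⁆ ∈ centralizer ({x} : Set G) := by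
  have e : ∀ a' ∈ normalizer (zpowers x : Set G), ∀ b' ∈ normalizer (zpowers x : Set G),
      a' * b' * x * (a' * b')⁻¹ = b' * a' * x * (b' * a')⁻¹ := by
    intro a' ha' b' hb'
    obtain ⟨i, hi⟩ := conj_eq_zpow ha'
    obtain ⟨j, hj⟩ := conj_eq_zpow hb'
    calc a' * b' * x * (a' * b')⁻¹ = a' * (b' * x * b'⁻¹) * a'⁻¹ := by group
      _ = (a' * x * a'⁻¹) ^ j := by rw [hj, conj_zpow]
      _ = (b' * x * b'⁻¹) ^ i := by rw [hi, hj, ← zpow_mul, ← zpow_mul, mul_comm]
      _ = b' * (a' * x * a'⁻¹) * b'⁻¹ := by rw [hi, conj_zpow]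
      _ = _ := by group
  have e1 := e a⁻¹ (inv_mem ha) b⁻¹ (inv_mem hb)
  rw [cs_iff, commutatorElement_def]
  refine mul_inv_eq_iff_eq_mul.1 ?_
  calc a * b * a⁻¹ * b⁻¹ * x * (a * b * a⁻¹ * b⁻¹)⁻¹
      = a * b * (a⁻¹ * b⁻¹ * x * (a⁻¹ * b⁻¹)⁻¹) * (a * b)⁻¹ := by group
    _ = a * b * (b⁻¹ * a⁻¹ * x * (b⁻¹ * a⁻¹)⁻¹) * (a * b)⁻¹ := by rw [e1]
    _ = x := by group

theorem commutator_le_centralizer {x : G} {S : Subgroup G}
    (hS : S ≤ normalizer (zpowers x : Set G)) : ⁅S, S⁆ ≤ centralizer ({x} : Set G) :=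
  commutator_le.2 fun _ ha _ hb => commutator_mem_centralizer (hS ha) (hS hb)

theorem normalizer_zpowers_of_orderOf_two {t : G} (ht : orderOf t = 2) :
    normalizer (zpowers t : Set G) = centralizer ({t} : Set G) := by
  have h2 : ∀ k ∈ zpowers t, k = 1 ∨ k = t := by
    intro k hk
    obtain ⟨i, rfl⟩ := mem_zpowers_iff.1 hk
    rw [← zpow_mod_orderOf, ht]
    rcases Int.emod_two_eq_zero_or_one i with h | h <;> simp [h]
  have t1 : t ≠ 1 := fun h => by simp [h] at ht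
  refine le_antisymm (fun n hn => ?_) (fun n hn => ?_)
  · rcases h2 _ ((mem_normalizer_iff.1 hn t).1 (mem_zpowers t)) with h | h
    · exact absurd (conj_eq_one_iff.1 h) t1
    · exact cs_iff.2 (mul_inv_eq_iff_eq_mul.1 h)
  · have hc := cs_iff.1 hn
    have hc' : n⁻¹ * t * n = t := by rw [mul_assoc, ← hc, inv_mul_cancel_left]
    rw [mem_normalizer_iff]
    intro k
    constructor
    · intro hk
      rcases h2 k hk with rfl | rfl
      · simp
      · rw [hc, mul_inv_cancel_right]; exact mem_zpowers _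
    · intro hk
      rcases h2 _ hk with h | h
      · rw [conj_eq_one_iff.1 h]; exact one_mem _
      · have e : k = t := by
          calc k = n⁻¹ * (n * k * n⁻¹) * n := by group
            _ = t := by rw [h, hc']
        rw [e]; exact mem_zpowers _

/-- `S` is a Sylow 2-subgroup of `T`. -/
structure IsSyl (T S : Subgroup G) : Prop where
  le : S ≤ T
  two : IsPGroup 2 ↥S
  max : ∀ P : Subgroup G, P ≤ T → IsPGroup 2 ↥P → S ≤ P → P = S

theorem exists_isSyl_ge [Finite G] {T P : Subgroup G} (hP : P ≤ T) (h2 : IsPGroup 2 ↥P) :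
    ∃ S, IsSyl T S ∧ P ≤ S := by
  classical
  obtain ⟨S, hS, hmax⟩ := Set.Finite.exists_maximalFor (fun S : Subgroup G => S)
    {S | S ≤ T ∧ IsPGroup 2 ↥S ∧ P ≤ S} (Set.toFinite _) ⟨P, hP, h2, le_rfl⟩
  exact ⟨S, ⟨hS.1, hS.2.1, fun R hR hR2 hSR =>
    le_antisymm (hmax ⟨hR, hR2, hS.2.2.trans hSR⟩ hSR) hSR⟩, hS.2.2⟩

/-- A Sylow 2-subgroup of `T` as a Sylow subgroup of `↥T`. -/
noncomputable def IsSyl.toSylow {T S : Subgroup G} (h : IsSyl T S) : Sylow 2 ↥T where
  toSubgroup := S.subgroupOf T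
  isPGroup' := h.two.comap_of_injective T.subtype T.subtype_injective
  is_maximal' := by
    intro R hR hSR
    have h1 := h.max (R.map T.subtype) (map_subtype_le R) (hR.map T.subtype) (fun x hx =>
      ⟨⟨x, h.le hx⟩, hSR hx, rfl⟩)
    rw [← h1]
    exact (subgroupOf_map_subtype_eq_self R)
where
  subgroupOf_map_subtype_eq_self (R : Subgroup ↥T) : R = (R.map T.subtype).subgroupOf T :=
    (comap_map_eq_self_of_injective T.subtype_injective R).symm

theorem IsSyl.exists_conj_le [Finite G] {T S P : Subgroup G} (h : IsSyl T S) (hP : P ≤ T)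
    (h2 : IsPGroup 2 ↥P) : ∃ g ∈ T, ∀ x ∈ P, g * x * g⁻¹ ∈ S := by
  haveI : Fact (Nat.Prime 2) := ⟨Nat.prime_two⟩
  obtain ⟨R, hR⟩ := (h2.comap_of_injective T.subtype T.subtype_injective).exists_le_sylow
  obtain ⟨g, hg⟩ := MulAction.exists_smul_eq ↥T R h.toSylow
  refine ⟨g, g.2, fun x hx => ?_⟩
  have h1 : (⟨x, hP hx⟩ : ↥T) ∈ (R : Subgroup ↥T) := hR hx
  have h3 : MulAut.conj g (⟨x, hP hx⟩ : ↥T) ∈ ((g • R : Sylow 2 ↥T) : Subgroup ↥T) :=
    Subgroup.smul_mem_pointwise_smul _ (MulAut.conj g) _ h1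
  rw [hg] at h3
  exact h3

theorem IsSyl.conj [Finite G] {T S : Subgroup G} [T.Normal] (h : IsSyl T S) (g : G) :
    IsSyl T (S.map (MulAut.conj g).toMonoidHom) := by
  refine ⟨?_, h.two.map _, fun P hP h2 hle => ?_⟩
  · rintro _ ⟨x, hx, rfl⟩
    exact Normal.conj_mem inferInstance x (h.le hx) g
  · have h1 := h.max (P.map (MulAut.conj g⁻¹).toMonoidHom) (by
      rintro _ ⟨x, hx, rfl⟩
      exact Normal.conj_mem inferInstance x (hP hx) g⁻¹) (h2.map _) (fun x hx =>
      ⟨g * x * g⁻¹, hle ⟨x, hx, rfl⟩, by simp [mul_assoc]⟩)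
    refine le_antisymm (fun x hx => ⟨g⁻¹ * x * g, h1 ▸ ⟨x, hx, ?_⟩, ?_⟩) hle
    · simp
    · simp [mul_assoc]

end General

variable {Q : Type u} [Group Q] [Finite Q] {T : Subgroup Q}

theorem Ctx.not_solvable (h : Ctx T) : ¬ Group.IsSolvable ↥T := by
  haveI := h.simple
  intro hs
  exact h.nonab ⟨⟨IsSimpleGroup.comm_iff_isSolvable.2 hs⟩⟩

theorem Ctx.eq_bot_of_normal (h : Ctx T) {N : Subgroup Q} (hN : N.Normal)
    (hs : Group.IsSolvable ↥N) : N = ⊥ := by
  haveI := h.simple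
  haveI := h.normal
  haveI := hN
  haveI : ((N ⊓ T).subgroupOf T).Normal := normal_subgroupOf
  have hi : N ⊓ T = ⊥ := by
    rcases Normal.eq_bot_or_eq_top (inferInstance : ((N ⊓ T).subgroupOf T).Normal) with e | e
    · rw [subgroupOf_eq_bot] at e
      simpa [inf_assoc] using disjoint_iff.1 e
    · refine absurd ?_ h.not_solvable
      haveI := hs
      exact Group.isSolvable_of_isSolvable_injective (f := inclusion
        ((subgroupOf_eq_top.1 e).trans inf_le_left)) (inclusion_injective _)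
  rw [eq_bot_iff, ← h.cent]
  intro n hn t (ht : t ∈ T)
  have hm : t * n * t⁻¹ * n⁻¹ ∈ N ⊓ T := by
    refine ⟨N.mul_mem (hN.conj_mem n hn t) (N.inv_mem hn), ?_⟩
    rw [show t * n * t⁻¹ * n⁻¹ = t * (n * t⁻¹ * n⁻¹) by group]
    exact T.mul_mem ht (h.normal.conj_mem _ (T.inv_mem ht) n)
  rw [hi, mem_bot] at hm
  calc t * n = t * n * t⁻¹ * n⁻¹ * (n * t) := by group
    _ = n * t := by rw [hm, one_mul]

theorem isSolvable_of_isPGroup {G : Type*} [Group G] [Finite G] {p : ℕ} [Fact p.Prime]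
    (h : IsPGroup p G) : Group.IsSolvable G :=
  haveI := h.isNilpotent
  inferInstance

theorem Ctx.coatom (h : Ctx T) {p : ℕ} [Fact p.Prime] {U : Subgroup Q} (hU : IsPGroup p ↥U)
    (h1 : U ≠ ⊥) : IsCoatom (normalizer (U : Set Q)) :=
  h.max U h1 (TwoPrimes.of_isPGroup hU)

theorem isPGroup_zpowers {G : Type*} [Group G] {p k : ℕ} {x : G} (hx : orderOf x = p ^ k) :
    IsPGroup p ↥(zpowers x) :=
  IsPGroup.of_card (n := k) (by rw [Nat.card_zpowers, hx])

theorem zpowers_ne_bot' {G : Type*} [Group G] {x : G} (hx : x ≠ 1) : zpowers x ≠ ⊥ :=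
  fun e => hx (zpowers_eq_bot.1 e)

/-- `L0`. -/
theorem Ctx.norm_eq (h : Ctx T) {p q : ℕ} [Fact p.Prime] [Fact q.Prime] (hpq : p ≠ q)
    {U V : Subgroup Q} (hU : IsPGroup p ↥U) (hV : IsPGroup q ↥V) (hU1 : U ≠ ⊥) (hV1 : V ≠ ⊥)
    (hc : ∀ a ∈ U, ∀ b ∈ V, a * b = b * a) :
    normalizer (U : Set Q) = normalizer (V : Set Q) := by
  have key : ∀ {p q : ℕ} [Fact p.Prime] [Fact q.Prime] {A B : Subgroup Q}, p ≠ q → IsPGroup p ↥A →
      IsPGroup q ↥B → A ≠ ⊥ → (∀ a ∈ A, ∀ b ∈ B, a * b = b * a) →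
      normalizer ((A ⊔ B : Subgroup Q) : Set Q) = normalizer (A : Set Q) := by
    intro p q _ _ A B hpq hA hB hA1 hc
    have hle := commute_le_normalizer hc
    have hco : IsCoatom (normalizer ((A ⊔ B : Subgroup Q) : Set Q)) :=
      h.max _ (fun e => hA1 (sup_eq_bot_iff.1 e).1) (TwoPrimes.of_sup hA hB hle)
    refine (hco.le_iff.1 (normalizer_le_of_char fun n hn k hk => ?_)).resolve_left
      (h.coatom hA hA1).1 |>.symm
    obtain ⟨a, ha, b, hb, e⟩ := (mem_sup_iff_mul hle).1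
      ((mem_normalizer_iff.1 hn k).1 (mem_sup_left hk))
    obtain ⟨i, hi⟩ := hA ⟨k, hk⟩
    obtain ⟨j, hj⟩ := hA ⟨a, ha⟩
    have hk' : k ^ p ^ i = 1 := by simpa using congrArg Subtype.val hi
    have ha' : a ^ p ^ j = 1 := by simpa using congrArg Subtype.val hj
    have hb1 : b ^ p ^ (i + j) = 1 := by
      have e1 : (n * k * n⁻¹) ^ p ^ (i + j) = 1 := by
        rw [conj_pow, pow_add, pow_mul, hk', one_pow, mul_one, mul_inv_cancel]
      rw [e, (Commute.mul_pow (hc a ha b hb)), pow_add, pow_mul' a, ha', one_pow, one_mul] at e1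
      rwa [pow_add]
    have hb0 : b = 1 := by
      obtain ⟨m, hm⟩ := hB ⟨b, hb⟩
      have hb' : b ^ q ^ m = 1 := by simpa using congrArg Subtype.val hm
      have := (pow_gcd_eq_one (a := b)).2 ⟨hb1, hb'⟩
      rwa [Nat.Coprime.pow _ _ ((Nat.coprime_primes Fact.out Fact.out).2 hpq), pow_one] at this
    rw [e, hb0, mul_one]
    exact ha
  rw [← key hpq hU hV hU1 hc, ← key hpq.symm hV hU hV1 (fun a ha b hb => (hc b hb a ha).symm),
    sup_comm]

/-- An involution of `T` is not isolated. -/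
theorem Ctx.exists_conj_ne (h : Ctx T) {S : Subgroup Q} (hS : IsSyl T S) {t : Q}
    (ht : orderOf t = 2) (htS : t ∈ S) : ∃ g ∈ T, g * t * g⁻¹ ∈ S ∧ g * t * g⁻¹ ≠ t := by
  haveI := h.simple
  by_contra! hiso
  obtain ⟨N, hN, hodd, hcom⟩ := S0215.result hS.toSylow (⟨t, hS.le htS⟩ : ↥T)
    (by rw [Subgroup.orderOf_mk, ht]) htS (fun g hg => Subtype.ext (hiso g g.2 hg))
  have hNb : N = ⊥ := by
    rcases hN.eq_bot_or_eq_top with e | e
    · exact e
    · exfalso
      rw [e, card_top] at hodd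
      have hd : 2 ∣ Nat.card ↥T := by
        have := Subgroup.orderOf_dvd_natCard T (hS.le htS)
        rwa [ht] at this
      exact (Nat.not_even_iff_odd.2 hodd) (even_iff_two_dvd.2 hd)
  have hc : (⟨t, hS.le htS⟩ : ↥T) ∈ center ↥T := by
    rw [mem_center_iff]
    intro g
    have e := hcom g
    rw [hNb, mem_bot, mul_inv_eq_one, mul_inv_eq_iff_eq_mul] at e
    exact e.symm
  rcases (inferInstance : (center ↥T).Normal).eq_bot_or_eq_top with e | e
  · rw [e, mem_bot] at hc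
    have : t = 1 := congrArg Subtype.val hc
    simp [this] at ht
  · exact h.nonab ⟨⟨fun a b => mem_center_iff.1 (e ▸ mem_top b) a⟩⟩

/-- A normalizer in `T` of a non-trivial two-prime subgroup is a Sylow subgroup if it is a
2-group. -/
theorem Ctx.isSyl_normalizer (h : Ctx T) {K : Subgroup Q} (hK : K ≠ ⊥) (hK2 : TwoPrimes K)
    (hne : T ⊓ normalizer (K : Set Q) ≠ ⊥)
    (h2 : IsPGroup 2 ↥(T ⊓ normalizer (K : Set Q))) : IsSyl T (T ⊓ normalizer (K : Set Q)) := by
  haveI : Fact (Nat.Prime 2) := ⟨Nat.prime_two⟩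
  haveI := h.normal
  set N := T ⊓ normalizer (K : Set Q) with hNdef
  have hM : normalizer (K : Set Q) ≤ normalizer (N : Set Q) := by
    intro n hn
    rw [mem_normalizer_iff]
    intro x
    show (x ∈ T ∧ x ∈ normalizer (K : Set Q)) ↔
      (n * x * n⁻¹ ∈ T ∧ n * x * n⁻¹ ∈ normalizer (K : Set Q))
    refine and_congr ⟨fun hx => h.normal.conj_mem x hx n, fun hx => ?_⟩ ⟨fun hx => ?_, fun hx => ?_⟩
    · simpa [mul_assoc] using h.normal.conj_mem _ hx n⁻¹
    · exact mul_mem (mul_mem hn hx) (inv_mem hn)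
    · have := mul_mem (mul_mem (inv_mem hn) hx) hn
      simpa [mul_assoc] using this
  have hEq : normalizer (N : Set Q) = normalizer (K : Set Q) :=
    ((h.max K hK hK2).le_iff.1 hM).resolve_left (h.coatom h2 hne).1
  obtain ⟨S, hS, hNS⟩ := exists_isSyl_ge (inf_le_left : N ≤ T) h2
  rwa [show N = S from ?_]
  refine le_antisymm hNS (fun s hs => ?_)
  by_contra hsN
  haveI : Group.IsNilpotent ↥S := hS.two.isNilpotent
  have hlt := Group.normalizerCondition_of_isNilpotent (G := ↥S) (N.subgroupOf S)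
    (lt_top_iff_ne_top.2 fun e => hsN (subgroupOf_eq_top.1 e hs))
  obtain ⟨g, hg, hgN⟩ := SetLike.exists_of_lt hlt
  refine hgN (mem_subgroupOf.2 ⟨hS.le g.2, ?_⟩)
  show (g : Q) ∈ normalizer (K : Set Q)
  rw [← hEq, mem_normalizer_iff]
  intro x
  constructor
  · intro hx
    exact (mem_normalizer_iff.1 hg ⟨x, hNS hx⟩).1 hx
  · intro hx
    have hxS : x ∈ S := by
      have := mul_mem (mul_mem (inv_mem g.2) (hNS hx)) g.2
      simpa [mul_assoc] using this
    exact (mem_normalizer_iff.1 hg ⟨x, hxS⟩).2 hx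

end Cfsg.Agent.MaxNorm91
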