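import Cfsg.Agent.MaxNorm91.CentSylow

/-!
# Proof of `CentStmt`
-/

set_option autoImplicit false
set_option linter.unusedSectionVars false
set_option linter.unusedVariables false
set_option linter.style.haveILetI false

namespace Cfsg.Agent.MaxNorm91

open Subgroup
open scoped commutatorElement

universe u

variable {Q : Type u} [Group Q] [Finite Q] {T : Subgroup Q}

/-- An element of order 3 in `N_T(V)` leads to a contradiction. -/
theorem Bad.no_three (h : Bad T) {z w : Q} {S : Subgroup Q} (hzw : FourPair z w) (hS : IsSyl T S)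
    (hzS : z ∈ S) (hwS : w ∈ S) (hzC : T ⊓ centralizer ({z} : Set Q) = S)
    (hD : IsPGroup 2 ↥(T ⊓ centralizer (hzw.grp : Set Q)))
    {s x : Q} (hsT : s ∈ T) (hsN : s ∈ normalizer (hzw.grp : Set Q)) (hsz : s * z = z * s)
    (hsw : ¬ s * w = w * s) (hxT : x ∈ T) (hxN : x ∈ normalizer (hzw.grp : Set Q))
    {q : ℕ} (hq : q.Prime) (hq2 : q ≠ 2) (hxq : orderOf x = q) : False := by
  haveI : Fact (Nat.Prime 2) := ⟨Nat.prime_two⟩
  haveI : Fact (Nat.Prime 3) := ⟨Nat.prime_three⟩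
  haveI := h.ctx.normal
  haveI := h.ctx.simple
  set V := hzw.grp with hVdef
  set M := normalizer (V : Set Q) with hMdef
  let sgn : ↥M →* ℤˣ := Equiv.Perm.sign.comp hzw.perm
  have hne3 : (3 : ℕ) ≠ 2 := by norm_num
  have hV2 : IsPGroup 2 ↥V := hzw.isPGroup
  have hV1 : V ≠ ⊥ := fun e => hzw.pt_ne_one 0 (mem_bot.1 (e ▸ hzw.pt_mem 0))
  have hMco : IsCoatom M := h.ctx.coatom hV2 hV1
  set σ := hzw.perm ⟨x, hxN⟩ with hσdef
  have hσ1 : σ ≠ 1 := fun e =>
    not_mem_two_group hD hq hq2 hxq ⟨hxT, (hzw.perm_eq_one_iff _).1 e⟩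
  -- `x` has order 3
  obtain rfl : q = 3 := by
    have hd : orderOf σ ∣ q := hxq ▸ (orderOf_submonoid (⟨x, hxN⟩ : ↥M) ▸
      orderOf_map_dvd hzw.perm ⟨x, hxN⟩)
    have hd6 : orderOf σ ∣ 6 := by
      have := orderOf_dvd_natCard σ
      rwa [Nat.card_eq_fintype_card, Fintype.card_perm, Fintype.card_fin] at this
    rcases (Nat.dvd_prime hq).1 hd with e' | e'
    · exact absurd (orderOf_eq_one_iff.1 e') hσ1
    · rw [e'] at hd6
      have := Nat.le_of_dvd (by norm_num) hd6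
      interval_cases q <;> first | rfl | omega | norm_num at *
  have hx1 : x ≠ 1 := fun e => by rw [e, orderOf_one] at hxq; norm_num at hxq
  have hxo : orderOf x = 3 ^ 1 := by rw [hxq, pow_one]
  have hx3 : x * x * x = 1 := by
    have := pow_orderOf_eq_one x
    rwa [hxq, pow_succ, pow_two] at this
  have hσ3 : σ * σ * σ = 1 := by
    rw [hσdef, ← map_mul, ← map_mul, show (⟨x, hxN⟩ : ↥M) * ⟨x, hxN⟩ * ⟨x, hxN⟩ = 1
      from Subtype.ext hx3, map_one]
  have hσsgn : Equiv.Perm.sign σ = 1 := (perm3_cube σ hσ3 hσ1).1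
  -- every involution of `V` is conjugate to `z`
  have hconj : ∀ i, ∃ g ∈ T, g * z * g⁻¹ = FourPair.pt z w i := by
    intro i
    rcases (perm3_cube σ hσ3 hσ1).2 0 i with e' | e' | e'
    · exact ⟨x, hxT, by rw [← e', hσdef, ← hzw.perm_spec]; rfl⟩
    · refine ⟨x * x, mul_mem hxT hxT, ?_⟩
      rw [← e', hσdef, ← hzw.perm_spec, ← hzw.perm_spec]
      show x * x * z * (x * x)⁻¹ = x * (x * z * x⁻¹) * x⁻¹
      group
    · exact ⟨1, one_mem _, by rw [← e']; simp [FourPair.pt]⟩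
  -- an odd element of `N_T(V)` normalizing `<x>`
  have hτs : Equiv.Perm.sign (hzw.perm ⟨s, hsN⟩) = -1 := by
    refine perm3_swap _ (hzw.pt_injective ?_) (fun e => hsw ?_)
    · rw [← hzw.perm_spec]
      show s * z * s⁻¹ = z
      rw [hsz, mul_inv_cancel_right]
    · have := hzw.mem_centralizer_iff'.1 ((hzw.perm_eq_one_iff _).1 e)
      exact this.2
  set N := T ⊓ M with hN
  set L : Subgroup Q := T ⊓ sgn.ker.map M.subtype with hL
  have hmemL : ∀ g, g ∈ L ↔ g ∈ T ∧ ∃ hg : g ∈ M, sgn ⟨g, hg⟩ = 1 := fun g => by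
    rw [hL, mem_inf]
    refine and_congr Iff.rfl ⟨?_, fun ⟨hg, hs⟩ => ⟨⟨g, hg⟩, hs, rfl⟩⟩
    rintro ⟨y, hy, rfl⟩
    exact ⟨y.2, hy⟩
  have hLN : L ≤ N := fun g hg => ⟨((hmemL g).1 hg).1, ((hmemL g).1 hg).2.1⟩
  have h9 : ¬ 9 ∣ Nat.card L := by
    obtain ⟨m, hm, e⟩ := hzw.card_dvd (N := N) inf_le_right
    intro hd
    have hd' := hd.trans (card_dvd_of_le hLN)
    obtain ⟨k, hk⟩ := IsPGroup.iff_card.1 (hD.to_le (le_inf (inf_le_left.trans inf_le_left)
      inf_le_right : N ⊓ centralizer (V : Set Q) ≤ T ⊓ centralizer (V : Set Q)))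
    rw [e, hk] at hd'
    have hcop : Nat.Coprime 9 (2 ^ k) := (Nat.Coprime.pow_right k (by norm_num : Nat.Coprime 9 2))
    have := Nat.le_of_dvd (Nat.pos_of_dvd_of_pos hm (by norm_num)) (hcop.dvd_of_dvd_mul_left hd')
    have := Nat.le_of_dvd (by norm_num) hm
    omega
  have hxL : x ∈ L := (hmemL x).2 ⟨hxT, hxN, hσsgn⟩
  set X := zpowers x with hX
  have hXL : X ≤ L := zpowers_le.2 hxL
  have hcX : Nat.card X = 3 := by rw [hX, Nat.card_zpowers, hxq]
  have hYL : (X.map (MulAut.conj s).toMonoidHom) ≤ L := by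
    rintro _ ⟨y, hy, rfl⟩
    obtain ⟨hyT, hyM, hys⟩ := (hmemL y).1 (hXL hy)
    refine (hmemL _).2 ⟨Normal.conj_mem inferInstance y hyT s,
      mul_mem (mul_mem hsN hyM) (inv_mem hsN), ?_⟩
    show sgn (⟨s, hsN⟩ * ⟨y, hyM⟩ * ⟨s, hsN⟩⁻¹) = 1
    rw [map_mul, map_mul, map_inv, hys, mul_one, mul_inv_cancel]
  have hcY : Nat.card (X.map (MulAut.conj s).toMonoidHom) = 3 := by
    rw [card_map_of_injective (MulAut.conj s).injective, hcX]
  obtain ⟨d, hdL, hd⟩ := conj_of_card_three hYL hXL hcY hcX h9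
  obtain ⟨hdT, hdM, hds⟩ := (hmemL d).1 hdL
  set n : ↥M := ⟨d, hdM⟩ * ⟨s, hsN⟩ with hn
  have hnsgn : sgn n = -1 := by
    rw [hn, map_mul, hds, one_mul]; exact hτs
  have hX1 : X ≠ ⊥ := zpowers_ne_bot' hx1
  have hnX : (n : Q) ∈ normalizer (X : Set Q) := by
    rw [mem_normalizer_iff]
    intro k
    have key : ∀ k ∈ X, (n : Q) * k * (n : Q)⁻¹ ∈ X := by
      intro k hk
      have := hd (MulAut.conj s k) ⟨k, hk, rfl⟩
      rw [show (n : Q) * k * (n : Q)⁻¹ = d * (MulAut.conj s k) * d⁻¹ by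
        show d * s * k * (d * s)⁻¹ = d * (s * k * s⁻¹) * d⁻¹
        group]
      exact this
    refine ⟨key k, fun hk => ?_⟩
    obtain ⟨⟨y, hy⟩, e⟩ := (Finite.injective_iff_surjective
      (f := fun y : ↥X => (⟨(n : Q) * y * (n : Q)⁻¹, key y y.2⟩ : ↥X))).1
      (fun a b e => Subtype.ext (by simpa using congrArg Subtype.val e)) ⟨_, hk⟩
    have e' : (n : Q) * y * (n : Q)⁻¹ = (n : Q) * k * (n : Q)⁻¹ := congrArg Subtype.val e
    rwa [← mul_left_cancel (mul_right_cancel e')]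
  obtain ⟨m, hum, k2, hk2⟩ := exists_two_part sgn hnsgn
  set uM : ↥M := n ^ m with huM
  set u : Q := (uM : Q) with hu_def
  have huX : u ∈ normalizer (X : Set Q) := by
    rw [hu_def, huM, coe_pow]; exact pow_mem hnX m
  have huT : u ∈ T := by
    rw [hu_def, huM, coe_pow]; exact pow_mem (mul_mem hdT hsT) m
  have hu2' : u ^ 2 ^ k2 = 1 := by rw [hu_def, ← coe_pow, hk2, coe_one]
  have hu1 : u ≠ 1 := by
    intro e
    have e2 : uM = 1 := Subtype.ext e
    rw [e2, map_one] at hum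
    exact absurd hum (by decide)
  have hnc : ¬ u * x = x * u := by
    intro e
    refine perm3_not_commute σ (hzw.perm uM) hσ3 hσ1 hum ?_
    rw [hσdef, ← map_mul, ← map_mul]
    exact congrArg _ (Subtype.ext e.symm)
  have hux : u * x * u⁻¹ = x⁻¹ := by
    rcases mem_zpowers_three hxq ((mem_normalizer_iff.1 huX x).1 (mem_zpowers x)) with e | e | e
    · exact absurd (conj_eq_one_iff.1 e) hx1
    · exact absurd (mul_inv_eq_iff_eq_mul.1 e) hnc
    · exact e
  have hX3 : IsPGroup 3 ↥X := isPGroup_zpowers hxo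
  have hXco : IsCoatom (normalizer (X : Set Q)) := h.ctx.coatom hX3 hX1
  have hVX : ¬ V ≤ normalizer (X : Set Q) := by
    intro hle
    refine hσ1 ((hzw.perm_eq_one_iff _).2 (hzw.mem_centralizer_iff'.2 ?_))
    have key : ∀ v ∈ V, x * v = v * x := by
      intro v hv
      have h1 : v * x * v⁻¹ * x⁻¹ ∈ X :=
        mul_mem ((mem_normalizer_iff.1 (hle hv) x).1 (mem_zpowers x)) (inv_mem (mem_zpowers x))
      have h2 : v * x * v⁻¹ * x⁻¹ ∈ V := by
        rw [show v * x * v⁻¹ * x⁻¹ = v * (x * v⁻¹ * x⁻¹) by group]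
        exact mul_mem hv ((mem_normalizer_iff.1 hxN _).1 (inv_mem hv))
      obtain ⟨i, hi⟩ := pow_two_pow_of_mem hV2 h2
      obtain ⟨j, hj⟩ := hX3 ⟨_, h1⟩
      have h3 := eq_one_of_two_orders Nat.prime_two Nat.prime_three hne3.symm hi (j := j)
        (by simpa using congrArg Subtype.val hj)
      calc x * v = (v * x * v⁻¹ * x⁻¹)⁻¹ * (v * x) := by group
        _ = v * x := by rw [h3, inv_one, one_mul]
    exact ⟨key z (hzw.pt_mem 0), key w (hzw.pt_mem 1)⟩
  -- no involution of `C(V)` commutes with `x`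
  have hDx : ∀ f ∈ T, f ∈ centralizer (V : Set Q) → f * x = x * f → f = 1 := by
    intro f hfT hfV hfx
    by_contra hf1
    obtain ⟨k, hk⟩ := IsPGroup.iff_orderOf.1 hD ⟨f, mem_inf.2 ⟨hfT, hfV⟩⟩
    rw [orderOf_mk] at hk
    cases k with
    | zero => rw [pow_zero, orderOf_eq_one_iff] at hk; exact hf1 hk
    | succ k =>
      have ht : orderOf (f ^ 2 ^ k) = 2 := by
        rw [orderOf_pow, hk, Nat.gcd_eq_right (pow_dvd_pow 2 (Nat.le_succ k)), pow_succ,
          Nat.mul_div_cancel_left _ (by positivity)]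
      have hN' := h.ctx.odd_norm ht hne3 hxo hx1 ((show Commute f x from hfx).pow_left _).eq
      refine hVX fun v hv => ?_
      rw [hN', cs_iff]
      exact ((pow_mem hfV (2 ^ k) : f ^ 2 ^ k ∈ centralizer (V : Set Q)) v hv)
  have huu : u * u = 1 := by
    refine hDx _ (mul_mem huT huT) ?_ ?_
    · have e : hzw.perm (uM * uM) = 1 := by rw [map_mul]; exact perm3_odd_sq _ hum
      exact (hzw.perm_eq_one_iff _).1 e
    · refine mul_inv_eq_iff_eq_mul.1 ?_
      calc u * u * x * (u * u)⁻¹ = u * (u * x * u⁻¹) * u⁻¹ := by group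
        _ = u * x⁻¹ * u⁻¹ := by rw [hux]
        _ = (u * x * u⁻¹)⁻¹ := by group
        _ = x := by rw [hux, inv_inv]
  have hu : orderOf u = 2 := Involution.orderOf_eq_two_iff'.2 ⟨huu, hu1⟩
  have huinv : u⁻¹ = u := Involution.inv_of_orderOf hu
  have hzu : ∀ b ∈ zpowers u, b = 1 ∨ b = u := by
    intro b hb
    obtain ⟨i, rfl⟩ := mem_zpowers_iff.1 hb
    rw [← zpow_mod_orderOf, hu]
    rcases Int.emod_two_eq_zero_or_one i with e' | e' <;> simp [e']
  -- `H = <x, u>`
  set H := zpowers u ⊔ X with hH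
  have huN : zpowers u ≤ normalizer (X : Set Q) := zpowers_le.2 huX
  have hU2 : IsPGroup 2 ↥(zpowers u) := isPGroup_zpowers (k := 1) (by rw [hu, pow_one])
  have hH2 : TwoPrimes H := TwoPrimes.of_sup hU2 hX3 huN
  have hH1 : H ≠ ⊥ := fun e => hu1 (mem_bot.1 (e ▸ mem_sup_left (mem_zpowers u)))
  have hnew : ∀ i : ℤ, (u * x ^ i) * (u * x ^ i) = 1 := fun i => by
    calc (u * x ^ i) * (u * x ^ i) = (u * x ^ i * u⁻¹) * (u * u) * x ^ i := by group
      _ = 1 := by rw [← conj_zpow, hux, huu, mul_one, inv_zpow, inv_mul_cancel]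
  have hNH : normalizer (H : Set Q) = normalizer (X : Set Q) := by
    refine (((h.ctx.max H hH1 hH2).le_iff.1
      (normalizer_le_of_char fun g hg k hk => ?_)).resolve_left hXco.1).symm
    obtain ⟨a, ha, b, hb, e⟩ := (mem_sup_iff_mul huN).1
      ((mem_normalizer_iff.1 hg k).1 (mem_sup_right hk))
    rcases hzu a ha with rfl | rfl
    · rw [e, one_mul]; exact hb
    · obtain ⟨i, rfl⟩ := mem_zpowers_iff.1 hb
      obtain ⟨j, rfl⟩ := mem_zpowers_iff.1 hk
      have h2 : (x ^ j) ^ 2 ^ 1 = 1 := by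
        rw [pow_one, pow_two]
        have := hnew i
        rw [← e] at this
        calc x ^ j * x ^ j = g⁻¹ * ((g * x ^ j * g⁻¹) * (g * x ^ j * g⁻¹)) * g := by group
          _ = 1 := by rw [this]; group
      have h3 : (x ^ j) ^ 3 ^ 1 = 1 := by
        rw [pow_one, ← zpow_natCast, ← zpow_mul, mul_comm, zpow_mul, zpow_natCast, ← hxq,
          pow_orderOf_eq_one, one_zpow]
      have h4 := eq_one_of_two_orders Nat.prime_two Nat.prime_three hne3.symm h2 h3
      rw [h4, mul_one, mul_inv_cancel]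
      exact one_mem _
  have hdec : ∀ g ∈ T, g * x = x * g → ∃ i : ℤ, (x ^ i * g) * u = u * (x ^ i * g) := by
    intro g hgT hgx
    have hgN : g ∈ normalizer (H : Set Q) := by
      rw [hNH, mem_normalizer_iff]
      intro k
      have e : ∀ k ∈ X, g * k * g⁻¹ = k := by
        intro k hk
        obtain ⟨i, rfl⟩ := mem_zpowers_iff.1 hk
        rw [((show Commute g x from hgx).zpow_right i).eq, mul_inv_cancel_right]
      refine ⟨fun hk => (e k hk).symm ▸ hk, fun hk => ?_⟩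
      have h2 := e _ hk
      rw [(MulAut.conj g).injective (a₁ := g * k * g⁻¹) (a₂ := k) h2] at hk
      exact hk
    obtain ⟨a, ha, b, hb, e⟩ := (mem_sup_iff_mul huN).1
      ((mem_normalizer_iff.1 hgN u).1 (mem_sup_left (mem_zpowers u)))
    obtain ⟨i, rfl⟩ := mem_zpowers_iff.1 hb
    rcases hzu a ha with rfl | rfl
    · exfalso
      rw [one_mul] at e
      refine hu1 (conj_eq_one_iff.1 (e.trans ?_))
      refine eq_one_of_two_orders Nat.prime_two Nat.prime_three hne3.symm (i := 1) (j := 1) ?_ ?_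
      · rw [pow_one, pow_two, ← e]
        calc g * u * g⁻¹ * (g * u * g⁻¹) = g * (u * u) * g⁻¹ := by group
          _ = 1 := by rw [huu, mul_one, mul_inv_cancel]
      · rw [pow_one, ← zpow_natCast, ← zpow_mul, mul_comm, zpow_mul, zpow_natCast, ← hxq,
          pow_orderOf_eq_one, one_zpow]
    · refine ⟨2 * i, mul_inv_eq_iff_eq_mul.1 ?_⟩
      have h3 : x ^ (3 : ℤ) = 1 := by
        rw [show (3 : ℤ) = ((3 : ℕ) : ℤ) from rfl, zpow_natCast, ← hxq, pow_orderOf_eq_one]
      calc x ^ (2 * i) * g * u * (x ^ (2 * i) * g)⁻¹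
          = x ^ (2 * i) * (g * u * g⁻¹) * x ^ (-(2 * i)) := by group
        _ = u * (u⁻¹ * x ^ (2 * i) * u) * x ^ i * x ^ (-(2 * i)) := by rw [e]; group
        _ = u * (u * x ^ (2 * i) * u⁻¹) * x ^ i * x ^ (-(2 * i)) := by rw [huinv]
        _ = u * (x ^ (3 : ℤ)) ^ (-i) := by rw [← conj_zpow, hux]; group
        _ = u := by rw [h3, one_zpow, mul_one]
  have hodd : ∀ g ∈ T, g * x = x * g → g * u = u * g → ∃ k : ℕ, g ^ 2 ^ k = 1 := by
    intro g hgT hgx hgu
    by_contra hcon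
    push Not at hcon
    have hG : ¬ IsPGroup 2 ↥(zpowers g) := by
      intro hp
      obtain ⟨k, hk⟩ := hp ⟨g, mem_zpowers g⟩
      exact hcon k (by simpa using congrArg Subtype.val hk)
    obtain ⟨y, hy, q, hq', hq2', hyo⟩ := exists_prime_elem hG
    haveI := Fact.mk hq'
    obtain ⟨i, rfl⟩ := mem_zpowers_iff.1 hy
    have hy1 : g ^ i ≠ 1 := fun e => by rw [e, orderOf_one] at hyo; exact hq'.one_lt.ne hyo
    have hNy := h.ctx.odd_norm hu hq2' (k := 1) (by rw [hyo, pow_one]) hy1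
      (((show Commute g u from hgu).zpow_left i).symm).eq
    have hxy : x ∈ normalizer (zpowers (g ^ i) : Set Q) := by
      rw [mem_normalizer_iff]
      intro k
      have e : ∀ k ∈ zpowers (g ^ i), x * k * x⁻¹ = k := by
        intro k hk
        obtain ⟨j, rfl⟩ := mem_zpowers_iff.1 hk
        rw [((((show Commute g x from hgx).zpow_left i).zpow_left j).symm).eq, mul_inv_cancel_right]
      refine ⟨fun hk => (e k hk).symm ▸ hk, fun hk => ?_⟩
      have h2 := e _ hk
      rw [(MulAut.conj x).injective (a₁ := x * k * x⁻¹) (a₂ := k) h2] at hk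
      exact hk
    rw [hNy, cs_iff] at hxy
    exact hnc hxy.symm
  set E := T ⊓ (centralizer ({x} : Set Q) ⊓ centralizer ({u} : Set Q)) with hE
  by_cases hE1 : E = ⊥
  · -- `N(<x>) ≤ N(V)`
    have hux' : u ∈ N := ⟨huT, uM.2⟩
    have hxN' : x ∈ N := ⟨hxT, hxN⟩
    have hNTX : ∀ g ∈ T, g ∈ normalizer (X : Set Q) → g ∈ M := by
      intro g hgT hg
      have key : ∀ g ∈ T, g * x = x * g → g ∈ M := by
        intro g hgT hgx
        obtain ⟨i, hi⟩ := hdec g hgT hgx
        have hmem : x ^ i * g ∈ E := by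
          refine mem_inf.2 ⟨mul_mem (zpow_mem hxT i) hgT, mem_inf.2 ⟨cs_iff.2 ?_, cs_iff.2 hi⟩⟩
          exact ((Commute.refl x).zpow_left i |>.mul_left (show Commute g x from hgx)).eq
        rw [hE1, mem_bot] at hmem
        rw [eq_inv_of_mul_eq_one_right hmem]
        exact inv_mem (zpow_mem hxN i)
      rcases mem_zpowers_three hxq ((mem_normalizer_iff.1 hg x).1 (mem_zpowers x)) with e | e | e
      · exact absurd (conj_eq_one_iff.1 e) hx1
      · exact key g hgT (mul_inv_eq_iff_eq_mul.1 e)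
      · have h2 : (u * g) * x = x * (u * g) := by
          refine mul_inv_eq_iff_eq_mul.1 ?_
          calc u * g * x * (u * g)⁻¹ = u * (g * x * g⁻¹) * u⁻¹ := by group
            _ = (u * x * u⁻¹)⁻¹ := by rw [e]; group
            _ = x := by rw [hux, inv_inv]
        have := mul_mem (inv_mem uM.2) (key (u * g) (mul_mem huT hgT) h2)
        rwa [← hu_def, inv_mul_cancel_left] at this
    have hTM : ¬ T ≤ M := by
      intro hle
      have hVT : V ≤ T := (closure_le _).2 (by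
        rintro a (rfl | rfl)
        · exact hS.le hzS
        · exact hS.le hwS)
      have hn : (V.subgroupOf T).Normal := (normal_subgroupOf_iff_le_normalizer hVT).2 hle
      rcases hn.eq_bot_or_eq_top with e' | e'
      · rw [subgroupOf_eq_bot] at e'
        exact hV1 (disjoint_self.1 (e'.mono_right hVT))
      · haveI := isSolvable_of_isPGroup hV2
        exact h.ctx.not_solvable (Group.isSolvable_of_isSolvable_injective
          (f := inclusion (subgroupOf_eq_top.1 e')) (inclusion_injective _))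
    have htop : T ⊔ M = ⊤ := by
      refine (hMco.le_iff.1 le_sup_right).resolve_right fun e' => hTM ?_
      rw [← e']
      exact le_sup_left
    have hXM : normalizer (X : Set Q) ≤ M := by
      intro n' hn'
      have hn2 : n' ∈ ((T ⊔ M : Subgroup Q) : Set Q) := by rw [htop]; exact mem_top n'
      rw [normal_mul] at hn2
      obtain ⟨τ, hτ, m', hm', rfl⟩ := hn2
      have hle1 : X.map (MulAut.conj m').toMonoidHom ≤ L := by
        rintro _ ⟨y, hy, rfl⟩
        obtain ⟨hyT, hyM, hys⟩ := (hmemL y).1 (hXL hy)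
        refine (hmemL _).2 ⟨Normal.conj_mem inferInstance y hyT m',
          mul_mem (mul_mem hm' hyM) (inv_mem hm'), ?_⟩
        show sgn (⟨m', hm'⟩ * ⟨y, hyM⟩ * ⟨m', hm'⟩⁻¹) = 1
        rw [map_mul, map_mul, map_inv, hys, mul_one, mul_inv_cancel]
      obtain ⟨d', hd'L, hd'⟩ := conj_of_card_three hle1 hXL
        (by rw [card_map_of_injective (MulAut.conj m').injective, hcX]) hcX h9
      obtain ⟨hd'T, hd'M, -⟩ := (hmemL d').1 hd'L
      have hdm : d' * m' ∈ normalizer (X : Set Q) := by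
        rw [mem_normalizer_iff]
        intro k
        have key2 : ∀ k ∈ X, d' * m' * k * (d' * m')⁻¹ ∈ X := by
          intro k hk
          have := hd' (MulAut.conj m' k) ⟨k, hk, rfl⟩
          rw [show d' * m' * k * (d' * m')⁻¹ = d' * (MulAut.conj m' k) * d'⁻¹ by
            show _ = d' * (m' * k * m'⁻¹) * d'⁻¹
            group]
          exact this
        refine ⟨key2 k, fun hk => ?_⟩
        obtain ⟨⟨y, hy⟩, e⟩ := (Finite.injective_iff_surjective
          (f := fun y : ↥X => (⟨d' * m' * y * (d' * m')⁻¹, key2 y y.2⟩ : ↥X))).1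
          (fun a b e => Subtype.ext (by simpa using congrArg Subtype.val e)) ⟨_, hk⟩
        have e' : d' * m' * y * (d' * m')⁻¹ = d' * m' * k * (d' * m')⁻¹ := congrArg Subtype.val e
        rwa [← mul_left_cancel (mul_right_cancel e')]
      have h5 : τ * d'⁻¹ ∈ normalizer (X : Set Q) := by
        have := mul_mem hn' (inv_mem hdm)
        rwa [show τ * m' * (d' * m')⁻¹ = τ * d'⁻¹ by group] at this
      have h6 := hNTX _ (mul_mem hτ (inv_mem hd'T)) h5
      have h7 := mul_mem (mul_mem h6 hd'M) hm'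
      rwa [inv_mul_cancel_right] at h7
    exact hVX (le_normalizer.trans ((hXco.le_iff.1 hXM).resolve_left hMco.1).le)
  · obtain ⟨e₀, he₀, he1⟩ := (ne_bot_iff_exists_ne_one.1 hE1 |>
      fun ⟨⟨a, ha⟩, h1⟩ => (⟨a, ha, fun e => h1 (Subtype.ext e)⟩ : ∃ a ∈ E, a ≠ 1))
    obtain ⟨he₀T, he₀x, he₀u⟩ : e₀ ∈ T ∧ e₀ * x = x * e₀ ∧ e₀ * u = u * e₀ := by
      rw [hE, mem_inf, mem_inf, cs_iff, cs_iff] at he₀
      exact he₀
    obtain ⟨k, hk⟩ := hodd e₀ he₀T he₀x he₀u
    obtain ⟨j, -, hj⟩ := (Nat.dvd_prime_pow Nat.prime_two).1 (orderOf_dvd_of_pow_eq_one hk)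
    cases j with
    | zero => rw [pow_zero, orderOf_eq_one_iff] at hj; exact he1 hj
    | succ j =>
      have ht : orderOf (e₀ ^ 2 ^ j) = 2 := by
        rw [orderOf_pow, hj, Nat.gcd_eq_right (pow_dvd_pow 2 (Nat.le_succ j)), pow_succ,
          Nat.mul_div_cancel_left _ (by positivity)]
      exact h.no_involution hzw hS hzS hwS hconj hzC hxT hxq huT hu hux hdec hodd
        (pow_mem he₀T _) ht ((show Commute e₀ x from he₀x).pow_left _).eq
        ((show Commute e₀ u from he₀u).pow_left _).eq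

/-- No Sylow 2-subgroup is non-abelian. -/
theorem Bad.false (h : Bad T) {S : Subgroup Q} (hS : IsSyl T S) : False := by
  haveI : Fact (Nat.Prime 2) := ⟨Nat.prime_two⟩
  haveI := h.ctx.normal
  obtain ⟨z, hz, hzS, -, hzc, hzC⟩ := h.central hS
  have hN := h.ctx.cent_eq_norm hS hz hzS hzC
  obtain ⟨g, hgT, hgS, hne⟩ := h.ctx.exists_conj_ne hS hz hzS
  set w := g * z * g⁻¹ with hw
  have hwo : orderOf w = 2 := by
    rw [hw, show g * z * g⁻¹ = MulAut.conj g z from rfl, MulEquiv.orderOf_eq, hz]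
  have hzw : FourPair z w := ⟨hz, hwo, (hzc w hgS).symm, fun e => hne e.symm⟩
  have hnw : ¬ ∀ s ∈ S, s * w = w * s := fun hc => hne (h.ctx.conj_eq_self hzC hN hc)
  set V := hzw.grp with hV
  set D := T ⊓ centralizer (V : Set Q) with hDdef
  have hDmem : ∀ a, a ∈ D ↔ a ∈ T ∧ a * z = z * a ∧ a * w = w * a := fun a => by
    rw [hDdef, mem_inf, hzw.mem_centralizer_iff']
  have hDS : D ≤ S := fun a ha => hzC ▸ ⟨((hDmem a).1 ha).1, cs_iff.2 ((hDmem a).1 ha).2.1⟩
  have hD2 : IsPGroup 2 ↥D := hS.two.to_le hDS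
  have hzD : z ∈ D := (hDmem z).2 ⟨hS.le hzS, rfl, hzw.comm⟩
  have hD1 : D ≠ ⊥ := fun e => hzw.pt_ne_one 0 (mem_bot.1 (e ▸ hzD))
  have hV1 : V ≠ ⊥ := fun e => hzw.pt_ne_one 0 (mem_bot.1 (e ▸ hzw.pt_mem 0))
  set M := normalizer (V : Set Q) with hM
  have hMD : normalizer (D : Set Q) = M := by
    have hle : M ≤ normalizer (D : Set Q) := by
      intro n hn
      rw [mem_normalizer_iff]
      have hc : ∀ n ∈ M, ∀ a ∈ D, n * a * n⁻¹ ∈ D := by
        intro n hn a ha
        refine ⟨Normal.conj_mem inferInstance a ha.1 n, fun v hv => ?_⟩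
        have hv' : n⁻¹ * v * n ∈ V := by
          simpa using (mem_normalizer_iff.1 (inv_mem hn) v).1 hv
        have := ha.2 _ hv'
        calc v * (n * a * n⁻¹) = n * ((n⁻¹ * v * n) * a) * n⁻¹ := by group
          _ = n * (a * (n⁻¹ * v * n)) * n⁻¹ := by rw [this]
          _ = _ := by group
      intro a
      refine ⟨hc n hn a, fun ha => ?_⟩
      simpa [mul_assoc] using hc n⁻¹ (inv_mem hn) _ ha
    exact ((h.ctx.coatom hzw.isPGroup hV1).le_iff.1 hle).resolve_left (h.ctx.coatom hD2 hD1).1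
  -- a Sylow subgroup properly above `D` has an element in `N(V)` outside `D`
  have key : ∀ P, IsSyl T P → D ≤ P → ¬ P ≤ D → ∃ s ∈ P, s ∈ M ∧ s ∉ D := by
    intro P hP hDP hne'
    haveI : Group.IsNilpotent ↥P := hP.two.isNilpotent
    obtain ⟨n, hn, hnD⟩ := SetLike.exists_of_lt (Group.normalizerCondition_of_isNilpotent (G := ↥P)
      (D.subgroupOf P) (lt_top_iff_ne_top.2 fun e' => hne' (subgroupOf_eq_top.1 e')))
    refine ⟨n, n.2, ?_, hnD⟩
    rw [← hMD, mem_normalizer_iff]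
    intro a
    constructor
    · exact fun ha => (mem_normalizer_iff.1 hn ⟨a, hDP ha⟩).1 ha
    · intro ha
      have haP : a ∈ P := by
        have := mul_mem (mul_mem (inv_mem n.2) (hDP ha)) n.2
        simpa [mul_assoc] using this
      exact (mem_normalizer_iff.1 hn ⟨a, haP⟩).2 ha
  have hSD : ¬ S ≤ D := fun hle => hnw fun s hs => ((hDmem s).1 (hle hs)).2.2
  obtain ⟨s, hsS, hsM, hsD⟩ := key S hS hDS hSD
  have hsT := hS.le hsS
  have hsz : s * z = z * s := hzc s hsS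
  by_cases h2 : IsPGroup 2 ↥(T ⊓ M)
  · have hDN : D ≤ T ⊓ M := fun a ha => ⟨ha.1, hMD ▸ le_normalizer ha⟩
    have hN2 : IsSyl T (T ⊓ M) := h.ctx.isSyl_normalizer hV1 (TwoPrimes.of_isPGroup hzw.isPGroup)
      (fun e => hD1 (le_bot_iff.1 (e ▸ hDN))) h2
    have hsub : ∀ P, IsSyl T P → D ≤ P → ¬ P ≤ D → P = T ⊓ M := by
      intro P hP hDP hne'
      obtain ⟨a, haP, haM, haD⟩ := key P hP hDP hne'
      -- `P ⊓ M` is everything
      have hcard : Nat.card P ≤ Nat.card D * 2 := by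
        rw [hP.card_eq hN2]
        refine (hzw.card_two_le h2 inf_le_right).trans (Nat.mul_le_mul_right _ ?_)
        exact Subgroup.card_le_of_le fun b hb => ⟨hb.1.1, hb.2⟩
      set P' := P ⊓ M with hP'
      have hDP' : D ≤ P' := fun b hb => ⟨hDP hb, hMD ▸ le_normalizer hb⟩
      have hlt : D < P' := lt_of_le_of_ne hDP' fun e => haD (e ▸ ⟨haP, haM⟩)
      have hdvd := card_dvd_of_le hDP'
      have hne2 : Nat.card P' ≠ Nat.card D := fun e =>
        hlt.ne (eq_of_le_of_card_ge hDP' e.le)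
      have hge : Nat.card D * 2 ≤ Nat.card P' := by
        obtain ⟨c, hc⟩ := hdvd
        have hc0 : c ≠ 0 := fun e => by
          rw [e, mul_zero] at hc; exact Nat.card_pos.ne' hc
        have hc1 : c ≠ 1 := fun e => by rw [e, mul_one] at hc; exact hne2 hc
        rw [hc]
        exact Nat.mul_le_mul_left _ (by omega)
      have hPP : P' = P := eq_of_le_of_card_ge inf_le_left (hcard.trans hge)
      exact (hP.max _ inf_le_left h2 fun b hb => ⟨hP.le hb, (hPP ▸ hb : b ∈ P').2⟩).symm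
    have e1 := hsub S hS hDS hSD
    set S1 := S.map (MulAut.conj g).toMonoidHom with hS1
    have hmem1 : ∀ a, a ∈ S1 ↔ a ∈ T ∧ a * w = w * a := by
      intro a
      constructor
      · rintro ⟨b, hb, rfl⟩
        refine ⟨(hS.conj g).le ⟨b, hb, rfl⟩, ?_⟩
        show g * b * g⁻¹ * (g * z * g⁻¹) = g * z * g⁻¹ * (g * b * g⁻¹)
        calc g * b * g⁻¹ * (g * z * g⁻¹) = g * (b * z) * g⁻¹ := by group
          _ = g * (z * b) * g⁻¹ := by rw [hzc b hb]
          _ = _ := by group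
      · rintro ⟨haT, hc⟩
        refine ⟨g⁻¹ * a * g, hzC ▸ ⟨?_, cs_iff.2 ?_⟩, by simp [mul_assoc]⟩
        · simpa using Normal.conj_mem (inferInstance : T.Normal) a haT g⁻¹
        · calc g⁻¹ * a * g * z = g⁻¹ * (a * (g * z * g⁻¹)) * g := by group
            _ = g⁻¹ * ((g * z * g⁻¹) * a) * g := by rw [hc]
            _ = _ := by group
    have e2 := hsub S1 (hS.conj g) (fun a ha => (hmem1 a).2 ⟨ha.1, ((hDmem a).1 ha).2.2⟩) (by
      intro hle
      refine hnw fun s' hs' => ?_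
      have hS1S : S1 ≤ S := hle.trans hDS
      have := (hS.conj g).max S hS.le hS.two hS1S
      exact ((hmem1 s').1 (hS1 ▸ this ▸ hs')).2)
    exact hnw fun s' hs' => ((hmem1 s').1 (e2 ▸ e1 ▸ hs')).2
  · obtain ⟨x, hx, q, hq, hq2, hxq⟩ := exists_prime_elem h2
    exact h.no_three hzw hS hzS hgS hzC hD2 hsT hsM hsz
      (fun e => hsD ((hDmem s).2 ⟨hsT, hsz, e⟩)) hx.1 hx.2 hq hq2 hxq

/-- The Sylow 2-subgroups are abelian. -/
theorem Ctx.sylow_comm (h : Ctx T) {S : Subgroup Q} (hS : IsSyl T S) :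
    ∀ a ∈ S, ∀ b ∈ S, a * b = b * a := by
  by_contra hne
  exact (⟨h, fun S' hS' => nonabelian_of_isSyl hS hS' hne⟩ : Bad T).false hS

theorem cent : CentStmt.{u} := by
  intro Q _ _ T h
  haveI : Fact (Nat.Prime 2) := ⟨Nat.prime_two⟩
  refine ⟨fun S => ?_, fun t ht => h.cent_solvable t ht,
    fun t ht => h.cent_not_two (fun S hS => h.sylow_comm hS) t ht⟩
  have hS : IsSyl T ((S : Subgroup ↥T).map T.subtype) := by
    refine ⟨map_subtype_le _, S.isPGroup'.map _, fun P hP h2 hle => ?_⟩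
    have h1 : P.subgroupOf T = (S : Subgroup ↥T) :=
      S.is_maximal' (h2.comap_of_injective T.subtype T.subtype_injective)
        fun a ha => hle ⟨a, ha, rfl⟩
    rw [← h1, subgroupOf_map_subtype, inf_eq_left.2 hP]
  exact ⟨⟨fun a b => Subtype.ext (Subtype.ext
    (h.sylow_comm hS _ ⟨a, a.2, rfl⟩ _ ⟨b, b.2, rfl⟩))⟩⟩

end Cfsg.Agent.MaxNorm91
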