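import Cfsg.Agent.MaxNorm91.Centralisers

/-!
# Sylow 2-subgroups are abelian when two-prime normalizers are maximal
-/

set_option autoImplicit false
set_option linter.unusedSectionVars false
set_option linter.unusedVariables false
set_option linter.style.haveILetI false

namespace Cfsg.Agent.MaxNorm91

open Subgroup
open scoped commutatorElement

universe u

variable {Q : Type u} [Group Q] [Finite Q] {T : Subgroup Q}

theorem exists_central {S : Subgroup Q} (hS : IsSyl T S) (hne : ¬ ∀ a ∈ S, ∀ b ∈ S, a * b = b * a) :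
    ∃ z, orderOf z = 2 ∧ z ∈ ⁅S, S⁆ ∧ z ∈ S ∧ ∀ s ∈ S, s * z = z * s := by
  haveI : Fact (Nat.Prime 2) := ⟨Nat.prime_two⟩
  have hc : commutator ↥S ≠ ⊥ := by
    intro e
    refine hne fun a ha b hb => ?_
    have h1 : (⁅(⟨a, ha⟩ : ↥S), ⟨b, hb⟩⁆ : ↥S) ∈ commutator ↥S :=
      commutator_mem_commutator (mem_top _) (mem_top _)
    rw [e, mem_bot] at h1
    exact commutatorElement_eq_one_iff_mul_comm.1 (congrArg Subtype.val h1)
  obtain ⟨z, hzN, hzc, hzo⟩ := Involution.exists_central_mem_normal hS.two _ hc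
  refine ⟨z, by rw [orderOf_coe, hzo], ?_, z.2,
    fun s hs => congrArg Subtype.val (mem_center_iff.1 hzc ⟨s, hs⟩)⟩
  have hle : ⁅(⊤ : Subgroup ↥S), ⊤⁆ ≤ (⁅S, S⁆).comap S.subtype :=
    commutator_le.2 fun a _ b _ => commutator_mem_commutator a.2 b.2
  exact hle hzN

theorem nonabelian_of_isSyl {S S' : Subgroup Q} (hS : IsSyl T S) (hS' : IsSyl T S')
    (hne : ¬ ∀ a ∈ S, ∀ b ∈ S, a * b = b * a) : ¬ ∀ a ∈ S', ∀ b ∈ S', a * b = b * a := by
  intro h
  obtain ⟨g, -, hg⟩ := hS'.exists_conj_le hS.le hS.two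
  refine hne fun a ha b hb => (MulAut.conj g).injective ?_
  rw [map_mul, map_mul]
  exact h _ (hg a ha) _ (hg b hb)

theorem mem_zpowers_three {G : Type*} [Group G] {x k : G} (hx : orderOf x = 3)
    (hk : k ∈ zpowers x) : k = 1 ∨ k = x ∨ k = x⁻¹ := by
  obtain ⟨i, rfl⟩ := mem_zpowers_iff.1 hk
  rw [← zpow_mod_orderOf, hx]
  have h0 := Int.emod_nonneg i (show ((3 : ℕ) : ℤ) ≠ 0 by norm_num)
  have h1 := Int.emod_lt_of_pos i (show (0 : ℤ) < ((3 : ℕ) : ℤ) by norm_num)
  push_cast at h0 h1 ⊢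
  rcases (by omega : i % 3 = 0 ∨ i % 3 = 1 ∨ i % 3 = 2) with e | e | e <;> rw [e]
  · simp
  · simp
  · refine Or.inr (Or.inr (eq_inv_of_mul_eq_one_left ?_))
    have h3 := pow_orderOf_eq_one x
    rw [hx] at h3
    rw [← zpow_add_one]
    exact_mod_cast h3

theorem card_le_two_mul {m k : ℕ} (h6 : m ∣ 6) (hk : m ∣ 2 ^ k) : m ≤ 2 := by
  obtain ⟨j, -, rfl⟩ := (Nat.dvd_prime_pow Nat.prime_two).1 hk
  rcases j with _ | _ | j
  · norm_num
  · norm_num
  · exfalso
    have h4 : 4 ∣ 6 := (Dvd.intro (2 ^ j) (by ring : 4 * 2 ^ j = 2 ^ (j + 1 + 1))).trans h6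
    norm_num at h4

/-- A 2-subgroup of the normalizer of a four-group has at most twice the order of its
centralizing part. -/
theorem FourPair.card_two_le {G : Type*} [Group G] [Finite G] {a b : G} (h : FourPair a b)
    {N : Subgroup G} (h2 : IsPGroup 2 ↥N) (hN : N ≤ normalizer (h.grp : Set G)) :
    Nat.card N ≤ Nat.card ↥(N ⊓ centralizer (h.grp : Set G)) * 2 := by
  haveI : Fact (Nat.Prime 2) := ⟨Nat.prime_two⟩
  obtain ⟨m, hm, e⟩ := h.card_dvd hN
  obtain ⟨k, hk⟩ := IsPGroup.iff_card.1 h2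
  rw [e]
  exact Nat.mul_le_mul_left _ (card_le_two_mul hm ⟨_, by rw [← hk, e, mul_comm]⟩)

/-- An odd permutation gives a two-element with the same property. -/
theorem exists_two_part {G : Type*} [Group G] [Finite G] (φ : G →* ℤˣ) {n : G} (hn : φ n = -1) :
    ∃ m : ℕ, φ (n ^ m) = -1 ∧ ∃ k, (n ^ m) ^ 2 ^ k = 1 := by
  obtain ⟨k, m, hm, e⟩ := Nat.exists_eq_two_pow_mul_odd (orderOf_pos n).ne'
  refine ⟨m, by rw [map_pow, hn, hm.neg_one_pow], k, ?_⟩
  rw [← pow_mul, mul_comm, ← e]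
  exact pow_orderOf_eq_one n

/-- Data for the main argument. -/
structure Bad (T : Subgroup Q) : Prop where
  ctx : Ctx T
  nonab : ∀ S : Subgroup Q, IsSyl T S → ¬ ∀ a ∈ S, ∀ b ∈ S, a * b = b * a

theorem Bad.central (h : Bad T) {S : Subgroup Q} (hS : IsSyl T S) :
    ∃ z, orderOf z = 2 ∧ z ∈ S ∧ z ∈ ⁅S, S⁆ ∧ (∀ s ∈ S, s * z = z * s) ∧
      T ⊓ centralizer ({z} : Set Q) = S := by
  obtain ⟨z, hz, hzd, hzS, hzc⟩ := exists_central hS (h.nonab S hS)
  exact ⟨z, hz, hzS, hzd, hzc, h.ctx.cent_two hS hz hzd hzc⟩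

/-- The last configuration: an involution commuting with the element of order 3. -/
theorem Bad.no_involution (h : Bad T) {z w x u e : Q} {S : Subgroup Q} (hzw : FourPair z w)
    (hS : IsSyl T S) (hzS : z ∈ S) (hwS : w ∈ S)
    (hconj : ∀ i, ∃ g ∈ T, g * z * g⁻¹ = FourPair.pt z w i)
    (hzC : T ⊓ centralizer ({z} : Set Q) = S)
    (hxT : x ∈ T) (hx : orderOf x = 3) (huT : u ∈ T) (hu : orderOf u = 2)
    (hux : u * x * u⁻¹ = x⁻¹)
    (hdec : ∀ g ∈ T, g * x = x * g → ∃ i : ℤ, (x ^ i * g) * u = u * (x ^ i * g))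
    (hodd : ∀ g ∈ T, g * x = x * g → g * u = u * g → ∃ k : ℕ, g ^ 2 ^ k = 1)
    (heT : e ∈ T) (he : orderOf e = 2) (hex : e * x = x * e) (heu : e * u = u * e) : False := by
  haveI : Fact (Nat.Prime 2) := ⟨Nat.prime_two⟩
  haveI : Fact (Nat.Prime 3) := ⟨Nat.prime_three⟩
  haveI := h.ctx.normal
  have hx1 : x ≠ 1 := fun e' => by rw [e', orderOf_one] at hx; norm_num at hx
  have hxo : orderOf x = 3 ^ 1 := by rw [hx, pow_one]
  have hu1 := Involution.ne_one_of_orderOf hu
  have he1 := Involution.ne_one_of_orderOf he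
  have huu := Involution.mul_self_of_orderOf hu
  have hne3 : (3 : ℕ) ≠ 2 := by norm_num
  have huinv : x⁻¹ ≠ x := fun e' => by
    have : x ^ 2 = 1 := by rw [pow_two]; nth_rewrite 1 [← e']; exact inv_mul_cancel x
    have h2 := Nat.le_of_dvd (by norm_num) (orderOf_dvd_of_pow_eq_one this)
    omega
  have hxu : ¬ x * u = u * x := fun e' => huinv (by rw [← hux, ← e', mul_inv_cancel_right])
  -- the centraliser of `e` is the normalizer of `<x>`
  have hCe : centralizer ({e} : Set Q) = normalizer (zpowers x : Set Q) :=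
    (h.ctx.odd_norm he hne3 hxo hx1 hex).symm
  -- elements with a 2-group centralizer are not conjugate to `e`
  have hnc : ∀ g ∈ T, ∀ v : Q, IsPGroup 2 ↥(T ⊓ centralizer ({v} : Set Q)) → g * e * g⁻¹ ≠ v := by
    intro g hg v hv hgv
    refine not_mem_two_group hv Nat.prime_three hne3
      (x := g * x * g⁻¹) (by rw [show g * x * g⁻¹ = MulAut.conj g x from rfl, MulEquiv.orderOf_eq, hx])
      (mem_inf.2 ⟨mul_mem (mul_mem hg hxT) (inv_mem hg), cs_iff.2 ?_⟩)
    rw [← hgv]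
    calc g * x * g⁻¹ * (g * e * g⁻¹) = g * (x * e) * g⁻¹ := by group
      _ = g * (e * x) * g⁻¹ := by rw [hex]
      _ = _ := by group
  -- `E = C_T(x) ∩ C(u)`
  set E := T ⊓ (centralizer ({x} : Set Q) ⊓ centralizer ({u} : Set Q)) with hE
  have hEmem : ∀ g, g ∈ E ↔ g ∈ T ∧ g * x = x * g ∧ g * u = u * g := fun g => by
    rw [hE, mem_inf, mem_inf, cs_iff, cs_iff]
  have hE2 : IsPGroup 2 ↥E := fun g => by
    obtain ⟨hgT, hgx, hgu⟩ := (hEmem g).1 g.2
    obtain ⟨k, hk⟩ := hodd g hgT hgx hgu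
    exact ⟨k, Subtype.ext (by simpa using hk)⟩
  have hU2 : IsPGroup 2 ↥(zpowers u) := isPGroup_zpowers (k := 1) (by rw [hu, pow_one])
  have hEu : ∀ a ∈ E, ∀ b ∈ zpowers u, a * b = b * a := by
    intro a ha b hb
    obtain ⟨i, rfl⟩ := mem_zpowers_iff.1 hb
    exact ((show Commute a u from ((hEmem a).1 ha).2.2).zpow_right i).eq
  set R := E ⊔ zpowers u with hR
  have hR2 : IsPGroup 2 ↥R := isPGroup_sup_comm hE2 hU2 hEu
  have hzu : ∀ b ∈ zpowers u, b = 1 ∨ b = u := by
    intro b hb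
    obtain ⟨i, rfl⟩ := mem_zpowers_iff.1 hb
    rw [← zpow_mod_orderOf, hu]
    rcases Int.emod_two_eq_zero_or_one i with e' | e' <;> simp [e']
  have hRmem : ∀ r ∈ R, r ∈ E ∨ ∃ a ∈ E, r = a * u := by
    intro r hr
    obtain ⟨a, ha, b, hb, rfl⟩ := (mem_sup_iff_mul (commute_le_normalizer hEu)).1 hr
    rcases hzu b hb with rfl | rfl
    · exact Or.inl (by rwa [mul_one])
    · exact Or.inr ⟨a, ha, rfl⟩
  have hRT : R ≤ T := sup_le inf_le_left (zpowers_le.2 huT)
  have heE : e ∈ E := (hEmem e).2 ⟨heT, hex, heu⟩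
  have huR : u ∈ R := mem_sup_right (mem_zpowers u)
  have heR : e ∈ R := mem_sup_left heE
  -- elements of `T` normalizing `<x>`
  have hnX : ∀ g ∈ T, g ∈ normalizer (zpowers x : Set Q) →
      ∃ i : ℤ, ∃ r ∈ R, g = x ^ i * r := by
    intro g hgT hg
    have key : ∀ g ∈ T, g * x = x * g → ∃ i : ℤ, ∃ a ∈ E, g = x ^ i * a := by
      intro g hgT hgx
      obtain ⟨i, hi⟩ := hdec g hgT hgx
      refine ⟨-i, x ^ i * g, (hEmem _).2 ⟨mul_mem (zpow_mem hxT i) hgT, ?_, hi⟩, ?_⟩
      · exact ((Commute.refl x).zpow_left i |>.mul_left (show Commute g x from hgx)).eq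
      · rw [zpow_neg, inv_mul_cancel_left]
    rcases mem_zpowers_three hx ((mem_normalizer_iff.1 hg x).1 (mem_zpowers x)) with e' | e' | e'
    · exact absurd (conj_eq_one_iff.1 e') hx1
    · obtain ⟨i, a, ha, e''⟩ := key g hgT (mul_inv_eq_iff_eq_mul.1 e')
      exact ⟨i, a, mem_sup_left ha, e''⟩
    · have h2 : (u * g) * x = x * (u * g) := by
        refine mul_inv_eq_iff_eq_mul.1 ?_
        calc u * g * x * (u * g)⁻¹ = u * (g * x * g⁻¹) * u⁻¹ := by group
          _ = (u * x * u⁻¹)⁻¹ := by rw [e']; group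
          _ = x := by rw [hux, inv_inv]
      obtain ⟨i, a, ha, e''⟩ := key (u * g) (mul_mem huT hgT) h2
      refine ⟨-i, u * a, mul_mem huR (mem_sup_left ha), ?_⟩
      calc g = u⁻¹ * (u * g) := by group
        _ = (u⁻¹ * x ^ i * u) * (u⁻¹ * a) := by rw [e'']; group
        _ = (u * x ^ i * u⁻¹) * (u * a) := by rw [Involution.inv_of_orderOf hu]
        _ = _ := by rw [← conj_zpow, hux, inv_zpow, zpow_neg]
  -- `R` is a maximal 2-subgroup of `N_T(<x>)`
  have hRmax : ∀ P : Subgroup Q, P ≤ T → IsPGroup 2 ↥P → R ≤ P →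
      ∀ g ∈ P, g ∈ normalizer (zpowers x : Set Q) → g ∈ R := by
    intro P hPT hP hRP g hgP hg
    obtain ⟨i, r, hr, rfl⟩ := hnX g (hPT hgP) hg
    have hxi : x ^ i ∈ P := by
      have := mul_mem hgP (inv_mem (hRP hr))
      rwa [mul_inv_cancel_right] at this
    obtain ⟨k, hk⟩ := pow_two_pow_of_mem hP hxi
    have h1 : x ^ i = 1 := eq_one_of_two_orders Nat.prime_two Nat.prime_three hne3.symm hk (j := 1)
      (by rw [pow_one, ← zpow_natCast, ← zpow_mul, mul_comm, zpow_mul, zpow_natCast, ← hx,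
        pow_orderOf_eq_one, one_zpow])
    rwa [h1, one_mul]
  have hxE : ∀ a ∈ E, T ⊓ centralizer ({a} : Set Q) ≠ ⊥ → x ∈ T ⊓ centralizer ({a} : Set Q) :=
    fun a ha _ => ⟨hxT, cs_iff.2 ((hEmem a).1 ha).2.1.symm⟩
  -- `R` is not a Sylow subgroup
  have hRsyl : ¬ IsSyl T R := by
    intro hS'
    obtain ⟨z', hz', -, hzd, -, hC⟩ := h.central hS'
    have hzE : z' ∈ E := by
      refine (commutator_le (H₁ := R) (H₂ := R)).2 (fun a ha b hb => ?_) hzd
      have hcom : ∀ r ∈ R, r * u = u * r := by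
        intro r hr
        rcases hRmem r hr with h1 | ⟨a', ha', rfl⟩
        · exact ((hEmem r).1 h1).2.2
        · rw [mul_assoc, huu, mul_one, ← mul_assoc, ← ((hEmem a').1 ha').2.2, mul_assoc, huu,
            mul_one]
      rcases hRmem a ha with h1 | ⟨a', ha', rfl⟩ <;> rcases hRmem b hb with h2 | ⟨b', hb', rfl⟩
      · exact commutator_le.2 (fun p hp q hq => by
          rw [commutatorElement_def]
          exact mul_mem (mul_mem (mul_mem hp hq) (inv_mem hp)) (inv_mem hq))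
          (commutator_mem_commutator h1 h2)
      · have e' : ⁅a, b' * u⁆ = ⁅a, b'⁆ := by
          have c1 : a * u = u * a := ((hEmem a).1 h1).2.2
          rw [commutatorElement_def, commutatorElement_def]
          calc a * (b' * u) * a⁻¹ * (b' * u)⁻¹ = a * b' * (u * a⁻¹) * u⁻¹ * b'⁻¹ := by group
            _ = a * b' * (a⁻¹ * u) * u⁻¹ * b'⁻¹ := by
              rw [((show Commute a u from c1).inv_left).eq]
            _ = _ := by group
        rw [e', commutatorElement_def]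
        exact mul_mem (mul_mem (mul_mem h1 hb') (inv_mem h1)) (inv_mem hb')
      · have e' : ⁅a' * u, b⁆ = ⁅a', b⁆ := by
          have c1 : b * u = u * b := ((hEmem b).1 h2).2.2
          rw [commutatorElement_def, commutatorElement_def]
          calc a' * u * b * (a' * u)⁻¹ * b⁻¹ = a' * (u * b) * u⁻¹ * a'⁻¹ * b⁻¹ := by group
            _ = a' * (b * u) * u⁻¹ * a'⁻¹ * b⁻¹ := by rw [c1]
            _ = _ := by group
        rw [e', commutatorElement_def]
        exact mul_mem (mul_mem (mul_mem ha' h2) (inv_mem ha')) (inv_mem h2)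
      · have e' : ⁅a' * u, b' * u⁆ = ⁅a', b'⁆ := by
          have c1 : Commute a' u := ((hEmem a').1 ha').2.2
          have c2 : Commute b' u := ((hEmem b').1 hb').2.2
          rw [commutatorElement_def, commutatorElement_def]
          calc a' * u * (b' * u) * (a' * u)⁻¹ * (b' * u)⁻¹
              = a' * (u * b') * a'⁻¹ * u⁻¹ * b'⁻¹ := by group
            _ = a' * b' * (u * a'⁻¹) * u⁻¹ * b'⁻¹ := by rw [← c2.eq]; group
            _ = a' * b' * (a'⁻¹ * u) * u⁻¹ * b'⁻¹ := by rw [c1.inv_left.eq]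
            _ = _ := by group
        rw [e', commutatorElement_def]
        exact mul_mem (mul_mem (mul_mem ha' hb') (inv_mem ha')) (inv_mem hb')
    exact not_mem_two_group (P := T ⊓ centralizer ({z'} : Set Q)) (hC.symm ▸ hS'.two) Nat.prime_three hne3 hx
      ⟨hxT, cs_iff.2 ((hEmem z').1 hzE).2.1.symm⟩
  -- a Sylow subgroup above `R` and an element normalizing `R` outside `N(<x>)`
  obtain ⟨P, hP, hRP⟩ := exists_isSyl_ge hRT hR2
  have hPne : ¬ P ≤ R := fun hle => hRsyl (le_antisymm hRP hle ▸ hP)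
  haveI : Group.IsNilpotent ↥P := hP.two.isNilpotent
  obtain ⟨n, hn, hnR⟩ := SetLike.exists_of_lt (Group.normalizerCondition_of_isNilpotent (G := ↥P)
    (R.subgroupOf P) (lt_top_iff_ne_top.2 fun e' => hPne (subgroupOf_eq_top.1 e')))
  have hnconj : ∀ r ∈ R, (n : Q) * r * (n : Q)⁻¹ ∈ R := fun r hr =>
    (mem_normalizer_iff.1 hn ⟨r, hRP hr⟩).1 hr
  have hnN : (n : Q) ∉ normalizer (zpowers x : Set Q) := fun hh =>
    hnR (hRmax P hP.le hP.two hRP n n.2 hh)
  have hX1 : zpowers x ≠ ⊥ := zpowers_ne_bot' hx1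
  have hX3 : IsPGroup 3 ↥(zpowers x) := isPGroup_zpowers hxo
  have hNX : IsCoatom (normalizer (zpowers x : Set Q)) := h.ctx.coatom hX3 hX1
  have hXs : Group.IsSolvable ↥(zpowers x) := Group.isSolvable_of_comm fun a b => mul_comm' a b
  have hNself := h.ctx.norm_self hNX heT he1
    (hCe ▸ cs_iff.2 rfl) hX1 (zpowers_le.2 hxT) hXs rfl
  have hLf : ∀ f ∈ E, f ≠ 1 → normalizer (zpowers f : Set Q) = normalizer (zpowers x : Set Q) := by
    intro f hf hf1
    refine h.ctx.norm_eq hne3.symm (hE2.to_le (zpowers_le.2 hf)) hX3 (zpowers_ne_bot' hf1) hX1 ?_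
    intro a ha b hb
    obtain ⟨i, rfl⟩ := mem_zpowers_iff.1 ha
    obtain ⟨j, rfl⟩ := mem_zpowers_iff.1 hb
    exact ((show Commute f x from ((hEmem f).1 hf).2.1).zpow_zpow i j).eq
  have hEE : ∀ f ∈ E, (n : Q) * f * (n : Q)⁻¹ ∈ E → f = 1 := by
    intro f hf hf'
    by_contra hf1
    refine hnN ?_
    rw [← hNself, mem_normalizer_iff]
    intro k
    conv_lhs => rw [← hLf f hf hf1]
    rw [← hLf _ hf' (fun e' => hf1 (conj_eq_one_iff.1 e'))]
    rw [mem_normalizer_iff, mem_normalizer_iff]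
    have hz : ∀ g, g ∈ zpowers ((n : Q) * f * (n : Q)⁻¹) ↔ (n : Q)⁻¹ * g * n ∈ zpowers f := by
      intro g
      simp only [mem_zpowers_iff]
      exact exists_congr fun i => by
        rw [conj_zpow]
        constructor
        · rintro rfl; group
        · intro e'; rw [e']; group
    constructor
    · intro hk g
      rw [hz, hz, hk ((n : Q)⁻¹ * g * n)]
      have : (n : Q)⁻¹ * ((n : Q) * k * (n : Q)⁻¹ * g * ((n : Q) * k * (n : Q)⁻¹)⁻¹) * n =
          k * ((n : Q)⁻¹ * g * n) * k⁻¹ := by group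
      rw [this]
    · intro hk g
      have := hk ((n : Q) * g * (n : Q)⁻¹)
      rw [hz, hz] at this
      have e1 : (n : Q)⁻¹ * ((n : Q) * g * (n : Q)⁻¹) * n = g := by group
      have e2 : (n : Q)⁻¹ * ((n : Q) * k * (n : Q)⁻¹ * ((n : Q) * g * (n : Q)⁻¹) *
          ((n : Q) * k * (n : Q)⁻¹)⁻¹) * n = k * g * k⁻¹ := by group
      rwa [e1, e2] at this
  have hEtwo : ∀ f ∈ E, f = 1 ∨ f = e := by
    intro f hf
    by_contra! hcon
    rcases hRmem _ (hnconj f (mem_sup_left hf)) with h1 | ⟨a, ha, ea⟩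
    · exact hcon.1 (hEE f hf h1)
    rcases hRmem _ (hnconj e heR) with h2 | ⟨b, hb, eb⟩
    · exact he1 (hEE e heE h2)
    have h3 : (n : Q) * (f * e⁻¹) * (n : Q)⁻¹ ∈ E := by
      rw [show (n : Q) * (f * e⁻¹) * (n : Q)⁻¹ =
        (n : Q) * f * (n : Q)⁻¹ * ((n : Q) * e * (n : Q)⁻¹)⁻¹ by group, ea, eb,
        show a * u * (b * u)⁻¹ = a * b⁻¹ by group]
      exact mul_mem ha (inv_mem hb)
    exact hcon.2 (mul_inv_eq_one.1 (hEE _ (mul_mem hf (inv_mem heE)) h3))
  have hFP : FourPair e u := ⟨he, hu, heu, fun e' => hxu (by rw [← e']; exact hex.symm)⟩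
  have hRgrp : hFP.grp = R := by
    refine le_antisymm ((closure_le _).2 ?_) fun r hr => ?_
    · rintro a (rfl | rfl)
      · exact heR
      · exact huR
    · have he' : e ∈ hFP.grp := hFP.pt_mem 0
      have hu' : u ∈ hFP.grp := hFP.pt_mem 1
      rcases hRmem r hr with h1 | ⟨a, ha, rfl⟩
      · rcases hEtwo r h1 with rfl | rfl
        · exact one_mem _
        · exact he'
      · rcases hEtwo a ha with rfl | rfl
        · rw [one_mul]; exact hu'
        · exact mul_mem he' hu'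
  -- `C_T(R) = R`
  have hCR : T ⊓ centralizer (R : Set Q) = R := by
    refine le_antisymm (fun g hg => ?_) fun r hr => ⟨hRT hr, ?_⟩
    · have hge : g * e = e * g := (hg.2 e heR).symm
      have hgu : g * u = u * g := (hg.2 u huR).symm
      obtain ⟨i, r, hr, rfl⟩ := hnX g hg.1 (hCe ▸ cs_iff.2 hge)
      have hru : r * u = u * r := by
        rcases hRmem r hr with h1 | ⟨a, ha, rfl⟩
        · exact ((hEmem r).1 h1).2.2
        · rw [mul_assoc, huu, mul_one, ← mul_assoc, ← ((hEmem a).1 ha).2.2, mul_assoc, huu, mul_one]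
      have hxiu : x ^ i * u = u * x ^ i := by
        refine mul_right_cancel (b := r) ?_
        rw [mul_assoc, ← hru, ← mul_assoc, hgu, mul_assoc]
      have h2 : (x ^ i)⁻¹ = x ^ i := by
        rw [← inv_zpow, ← hux, conj_zpow, ← hxiu, mul_inv_cancel_right]
      have h3 : x ^ i = 1 := eq_one_of_two_orders Nat.prime_two Nat.prime_three hne3.symm
        (i := 1) (j := 1) (by rw [pow_one, pow_two]; nth_rewrite 1 [← h2]; exact inv_mul_cancel _)
        (by rw [pow_one, ← zpow_natCast, ← zpow_mul, mul_comm, zpow_mul, zpow_natCast, ← hx,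
          pow_orderOf_eq_one, one_zpow])
      rwa [h3, one_mul]
    · rw [← hRgrp] at hr ⊢
      show r ∈ centralizer (hFP.grp : Set Q)
      rw [hFP.mem_centralizer_iff']
      rcases hFP.mem_iff.1 hr with rfl | ⟨j, rfl⟩
      · simp
      · fin_cases j
        · exact ⟨rfl, heu⟩
        · exact ⟨heu.symm, rfl⟩
        · exact ⟨(show Commute (e * u) e from (Commute.refl e).mul_left
            (show Commute u e from heu.symm)).eq, (show Commute (e * u) u from
            (show Commute e u from heu).mul_left (Commute.refl u)).eq⟩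
  -- a central involution of `P` lies in `R`
  obtain ⟨z2, hz2, hz2P, -, hz2c, hz2C⟩ := h.central hP
  have hz2two : IsPGroup 2 ↥(T ⊓ centralizer ({z2} : Set Q)) := hz2C.symm ▸ hP.two
  have hz2R : z2 ∈ R := hCR ▸ ⟨hP.le hz2P, fun r hr => hz2c r (hRP hr)⟩
  obtain ⟨j0, hj0⟩ : ∃ j, z2 = FourPair.pt e u j :=
    (hFP.mem_iff.1 (hRgrp ▸ hz2R)).resolve_left (Involution.ne_one_of_orderOf hz2)
  have hj00 : j0 ≠ 0 := fun e' => hnc 1 (one_mem _) z2 hz2two (by rw [hj0, e']; simp [FourPair.pt])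
  -- `N_T(R)` is a Sylow subgroup of order at most 8
  have hRne : R ≠ ⊥ := fun e' => he1 (mem_bot.1 (e' ▸ heR))
  have hRN : R ≤ T ⊓ normalizer (R : Set Q) := le_inf hRT le_normalizer
  have hN2 : IsPGroup 2 ↥(T ⊓ normalizer (R : Set Q)) := by
    by_contra hcon
    obtain ⟨g, hg, q, hq, hq2, hgo⟩ := exists_prime_elem hcon
    have hgN : g ∈ normalizer (hFP.grp : Set Q) := hRgrp.symm ▸ hg.2
    set σ := hFP.perm ⟨g, hgN⟩ with hσ
    have hσ1 : σ ≠ 1 := by
      intro e'
      have hgc : g ∈ centralizer (hFP.grp : Set Q) := (hFP.perm_eq_one_iff _).1 e'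
      rw [hRgrp] at hgc
      exact not_mem_two_group hR2 hq hq2 hgo (hCR ▸ ⟨hg.1, hgc⟩)
    have hq3 : q = 3 := by
      have hd : orderOf σ ∣ q := hgo ▸ (orderOf_submonoid (⟨g, hgN⟩ : ↥(normalizer _)) ▸
        orderOf_map_dvd hFP.perm ⟨g, hgN⟩)
      have hd6 : orderOf σ ∣ 6 := by
        have := orderOf_dvd_natCard σ
        rwa [Nat.card_eq_fintype_card, Fintype.card_perm, Fintype.card_fin] at this
      rcases (Nat.dvd_prime hq).1 hd with e' | e'
      · exact absurd (orderOf_eq_one_iff.1 e') hσ1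
      · rw [e'] at hd6
        have := Nat.le_of_dvd (by norm_num) hd6
        interval_cases q <;> first | rfl | omega | norm_num at *
    have hσ3 : σ * σ * σ = 1 := by
      rw [hσ, ← map_mul, ← map_mul, show (⟨g, hgN⟩ : ↥(normalizer _)) * ⟨g, hgN⟩ * ⟨g, hgN⟩ = 1
        from Subtype.ext (by
          have := pow_orderOf_eq_one g
          rw [hgo, hq3, pow_succ, pow_two] at this
          exact this), map_one]
    rcases (perm3_cube σ hσ3 hσ1).2 0 j0 with e' | e' | e'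
    · exact hnc g hg.1 z2 hz2two (by rw [hj0, ← e', hσ, ← hFP.perm_spec]; rfl)
    · exact hnc (g * g) (mul_mem hg.1 hg.1) z2 hz2two (by
        rw [hj0, ← e', hσ, ← hFP.perm_spec, ← hFP.perm_spec]
        show g * g * e * (g * g)⁻¹ = g * (g * e * g⁻¹) * g⁻¹
        group)
    · exact hj00 e'.symm
  have hN' := h.ctx.isSyl_normalizer hRne (TwoPrimes.of_isPGroup hR2)
    (fun e' => he1 (mem_bot.1 (e' ▸ hRN heR))) hN2
  have hle8 : Nat.card S ≤ 8 := by
    rw [hS.card_eq hN']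
    have h1 := hFP.card_two_le hN2 (by rw [hRgrp]; exact inf_le_right)
    have h2 : Nat.card ↥(T ⊓ normalizer (R : Set Q) ⊓ centralizer (hFP.grp : Set Q)) ≤ 4 := by
      rw [← hFP.card_grp, hRgrp]
      exact Subgroup.card_le_of_le (le_of_le_of_eq (inf_le_inf_right _ inf_le_left) hCR)
    omega
  -- transfer
  haveI := h.ctx.simple
  have hVS : hzw.grp ≤ S := (closure_le _).2 (by rintro a (rfl | rfl) <;> assumption)
  have hS4 : 4 < Nat.card S := by
    by_contra hle
    refine hRsyl ?_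
    refine (eq_of_le_of_card_ge hRP ?_) ▸ hP
    rw [hP.card_eq hS, ← hRgrp, hFP.card_grp]
    omega
  have hS8 : Nat.card S = 8 := by
    obtain ⟨k, hk⟩ := IsPGroup.iff_card.1 hS.two
    rw [hk] at hS4 hle8 ⊢
    have h3 : k ≤ 3 := (Nat.pow_le_pow_iff_right (a := 2) (by norm_num)).1 (hle8.trans (by norm_num))
    interval_cases k <;> norm_num at *
  set V := hzw.grp.subgroupOf T with hV
  have hVP : V ≤ (hS.toSylow : Subgroup ↥T) := fun v hv => hVS hv
  have hrel : V.relIndex (hS.toSylow : Subgroup ↥T) = 2 := by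
    show (hzw.grp.subgroupOf T).relIndex (S.subgroupOf T) = 2
    rw [relIndex_subgroupOf hS.le]
    have h4 := hzw.card_grp
    have h5 : Nat.card hzw.grp * hzw.grp.relIndex S = Nat.card S := by
      rw [← relIndex_bot_left, ← relIndex_bot_left, relIndex_mul_relIndex _ _ _ bot_le hVS]
    rw [h4, hS8] at h5
    omega
  obtain ⟨M, hM, hMi, -⟩ := Involution.thompson_transfer hS.toSylow V hVP hrel
    (u := (⟨e, heT⟩ : ↥T)) (Subtype.ext (Involution.mul_self_of_orderOf he)) (fun g hg => by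
      rcases hzw.mem_iff.1 (show (g : Q) * e * (g : Q)⁻¹ ∈ hzw.grp from hg) with h1 | ⟨i, h1⟩
      · exact he1 (conj_eq_one_iff.1 h1)
      · obtain ⟨g', hg', e'⟩ := hconj i
        refine hnc (g'⁻¹ * g) (mul_mem (inv_mem hg') g.2) z (hzC.symm ▸ hS.two) ?_
        calc g'⁻¹ * g * e * (g'⁻¹ * (g : Q))⁻¹ = g'⁻¹ * ((g : Q) * e * (g : Q)⁻¹) * g' := by group
          _ = z := by rw [h1, ← e']; group)
  rcases hM.eq_bot_or_eq_top with e' | e'
  · rw [e', index_bot] at hMi
    have := card_dvd_of_le hS.le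
    rw [hS8, hMi] at this
    norm_num at this
  · rw [e', index_top] at hMi
    norm_num at hMi

end Cfsg.Agent.MaxNorm91
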