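import Cfsg.Agent.Lib.Involution.Dihedral
import Cfsg.Agent.Lib.Involution.Isolated
import Mathlib.GroupTheory.Perm.Sign
import Mathlib.GroupTheory.Sylow
import Mathlib.Tactic.FinCases

/-!
# The action of a normalizer on the three involutions of a four-group
-/

set_option autoImplicit false
set_option linter.unusedSectionVars false
set_option linter.style.haveILetI false

namespace Cfsg.Agent.MaxNorm91

open Subgroup

variable {G : Type*} [Group G]

/-- Two distinct commuting involutions. -/
structure FourPair (a b : G) : Prop where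
  ha : orderOf a = 2
  hb : orderOf b = 2
  comm : a * b = b * a
  ne : a ≠ b

namespace FourPair

variable {a b : G}

/-- The four-group. -/
abbrev grp (_h : FourPair a b) : Subgroup G := closure ({a, b} : Set G)

/-- Its involutions. -/
def pt (a b : G) : Fin 3 → G := ![a, b, a * b]

theorem aa (h : FourPair a b) : a * a = 1 := Involution.mul_self_of_orderOf h.ha

theorem bb (h : FourPair a b) : b * b = 1 := Involution.mul_self_of_orderOf h.hb

theorem isPGroup (h : FourPair a b) : IsPGroup 2 ↥h.grp :=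
  Involution.isPGroup_closure_pair_of_commute h.aa h.bb h.comm

theorem pt_ne_one (h : FourPair a b) (i : Fin 3) : pt a b i ≠ 1 := by
  fin_cases i
  · exact Involution.ne_one_of_orderOf h.ha
  · exact Involution.ne_one_of_orderOf h.hb
  · intro e
    refine h.ne (mul_right_cancel (b := b) ?_)
    rw [h.bb]
    exact e

theorem pt_mem (h : FourPair a b) (i : Fin 3) : pt a b i ∈ h.grp := by
  have ha : a ∈ h.grp := subset_closure (by simp)
  have hb : b ∈ h.grp := subset_closure (by simp)
  fin_cases i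
  · exact ha
  · exact hb
  · exact mul_mem ha hb

theorem mem_iff (h : FourPair a b) {g : G} : g ∈ h.grp ↔ g = 1 ∨ ∃ i, g = pt a b i := by
  constructor
  · intro hg
    refine closure_induction (p := fun g _ => g = 1 ∨ ∃ i, g = pt a b i) ?_ (Or.inl rfl) ?_ ?_ hg
    · rintro x (rfl | rfl)
      · exact Or.inr ⟨0, rfl⟩
      · exact Or.inr ⟨1, rfl⟩
    · intro x y _ _ hx hy
      have e1 : ∀ c, a * (a * c) = c := fun c => by rw [← mul_assoc, h.aa, one_mul]
      have e2 : b * (a * b) = a := by rw [← mul_assoc, ← h.comm, mul_assoc, h.bb, mul_one]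
      have e3 : a * b * a = b := by rw [h.comm, mul_assoc, h.aa, mul_one]
      have e4 : a * b * b = a := by rw [mul_assoc, h.bb, mul_one]
      have e5 : a * b * (a * b) = 1 := by rw [mul_assoc, e2, h.aa]
      rcases hx with rfl | ⟨i, rfl⟩
      · simpa using hy
      rcases hy with rfl | ⟨j, rfl⟩
      · exact Or.inr ⟨i, mul_one _⟩
      fin_cases i <;> fin_cases j
      · exact Or.inl h.aa
      · exact Or.inr ⟨2, rfl⟩
      · exact Or.inr ⟨1, e1 b⟩
      · exact Or.inr ⟨2, h.comm.symm⟩
      · exact Or.inl h.bb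
      · exact Or.inr ⟨0, e2⟩
      · exact Or.inr ⟨1, e3⟩
      · exact Or.inr ⟨0, e4⟩
      · exact Or.inl e5
    · intro x _ hx
      rcases hx with rfl | ⟨i, rfl⟩
      · exact Or.inl inv_one
      · refine Or.inr ⟨i, inv_eq_of_mul_eq_one_left ?_⟩
        fin_cases i
        · exact h.aa
        · exact h.bb
        · show a * b * (a * b) = 1
          rw [mul_assoc, ← mul_assoc b, ← h.comm, mul_assoc a b b, h.bb, mul_one, h.aa]
  · rintro (rfl | ⟨i, rfl⟩)
    · exact one_mem _
    · exact h.pt_mem i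

theorem pt_injective (h : FourPair a b) : Function.Injective (pt a b) := by
  have ha1 := Involution.ne_one_of_orderOf h.ha
  have hb1 := Involution.ne_one_of_orderOf h.hb
  have n1 : a ≠ a * b := fun e => hb1 (mul_eq_left.1 e.symm)
  have n2 : b ≠ a * b := fun e => ha1 (mul_eq_right.1 e.symm)
  intro i j e
  fin_cases i <;> fin_cases j <;> first | rfl | skip
  · exact absurd e h.ne
  · exact absurd e n1
  · exact absurd e.symm h.ne
  · exact absurd e n2
  · exact absurd e.symm n1
  · exact absurd e.symm n2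

theorem card_grp (h : FourPair a b) : Nat.card ↥h.grp = 4 := by
  classical
  have e : (h.grp : Set G) = insert 1 (Set.range (pt a b)) := by
    ext g
    rw [SetLike.mem_coe, h.mem_iff, Set.mem_insert_iff, Set.mem_range]
    exact or_congr Iff.rfl ⟨fun ⟨i, hi⟩ => ⟨i, hi.symm⟩, fun ⟨i, hi⟩ => ⟨i, hi.symm⟩⟩
  rw [← SetLike.coe_sort_coe, Nat.card_coe_set_eq, e,
    Set.ncard_insert_of_notMem (by rintro ⟨i, hi⟩; exact h.pt_ne_one i hi) (Set.finite_range _),
    ← Nat.card_coe_set_eq, Nat.card_range_of_injective h.pt_injective, Nat.card_fin]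

theorem mem_centralizer_iff' (h : FourPair a b) {g : G} :
    g ∈ centralizer (h.grp : Set G) ↔ g * a = a * g ∧ g * b = b * g := by
  show g ∈ centralizer ((closure ({a, b} : Set G) : Subgroup G) : Set G) ↔ _
  rw [centralizer_closure, mem_centralizer_iff]
  exact ⟨fun hc => ⟨(hc a (by simp)).symm, (hc b (by simp)).symm⟩, fun ⟨h1, h2⟩ k hk => by
    rcases hk with rfl | rfl
    · exact h1.symm
    · exact h2.symm⟩

theorem conj_pt (h : FourPair a b) {n : G} (hn : n ∈ normalizer (h.grp : Set G)) (i : Fin 3) :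
    ∃ j, n * pt a b i * n⁻¹ = pt a b j := by
  rcases h.mem_iff.1 ((mem_normalizer_iff.1 hn _).1 (h.pt_mem i)) with e | e
  · exact absurd (conj_eq_one_iff.1 e) (h.pt_ne_one i)
  · exact e

/-- The permutation induced by an element of the normalizer. -/
noncomputable def permFun (h : FourPair a b) (n : ↥(normalizer (h.grp : Set G))) (i : Fin 3) :
    Fin 3 := (h.conj_pt n.2 i).choose

theorem permFun_spec (h : FourPair a b) (n : ↥(normalizer (h.grp : Set G))) (i : Fin 3) :
    (n : G) * pt a b i * (n : G)⁻¹ = pt a b (h.permFun n i) :=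
  (h.conj_pt n.2 i).choose_spec

theorem permFun_bij (h : FourPair a b) (n : ↥(normalizer (h.grp : Set G))) :
    Function.Bijective (h.permFun n) :=
  Finite.injective_iff_bijective.1 fun i j e => h.pt_injective
    ((MulAut.conj (n : G)).injective (by
      show (n : G) * pt a b i * (n : G)⁻¹ = (n : G) * pt a b j * (n : G)⁻¹
      rw [permFun_spec, permFun_spec, e]))

/-- The permutation representation. -/
noncomputable def perm (h : FourPair a b) :
    ↥(normalizer (h.grp : Set G)) →* Equiv.Perm (Fin 3) :=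
  MonoidHom.mk' (fun n => Equiv.ofBijective _ (h.permFun_bij n)) fun m n => by
    ext i : 1
    apply h.pt_injective
    show pt a b (h.permFun (m * n) i) = pt a b (h.permFun m (h.permFun n i))
    rw [← permFun_spec, ← permFun_spec, ← permFun_spec, coe_mul]
    group

theorem perm_spec (h : FourPair a b) (n : ↥(normalizer (h.grp : Set G))) (i : Fin 3) :
    (n : G) * pt a b i * (n : G)⁻¹ = pt a b (h.perm n i) :=
  h.permFun_spec n i

theorem perm_eq_one_iff (h : FourPair a b) (n : ↥(normalizer (h.grp : Set G))) :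
    h.perm n = 1 ↔ (n : G) ∈ centralizer (h.grp : Set G) := by
  rw [h.mem_centralizer_iff']
  constructor
  · intro e
    have h0 := h.perm_spec n 0
    have h1 := h.perm_spec n 1
    rw [e] at h0 h1
    exact ⟨mul_inv_eq_iff_eq_mul.1 h0, mul_inv_eq_iff_eq_mul.1 h1⟩
  · rintro ⟨ca, cb⟩
    ext i : 1
    apply h.pt_injective
    rw [← h.perm_spec, Equiv.Perm.one_apply, mul_inv_eq_iff_eq_mul]
    fin_cases i
    · exact ca
    · exact cb
    · show (n : G) * (a * b) = a * b * n
      rw [← mul_assoc, ca, mul_assoc, cb, mul_assoc]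

theorem card_ker (h : FourPair a b) : Nat.card ↥h.perm.ker =
    Nat.card ↥(centralizer (h.grp : Set G) ⊓ normalizer (h.grp : Set G)) :=
  Nat.card_congr
    { toFun := fun n => ⟨n.1.1, (h.perm_eq_one_iff n.1).1 n.2, n.1.2⟩
      invFun := fun g => ⟨⟨g.1, g.2.2⟩, (h.perm_eq_one_iff ⟨g.1, g.2.2⟩).2 g.2.1⟩
      left_inv := fun _ => rfl
      right_inv := fun _ => rfl }

/-- The part of the normalizer in a subgroup `N`, modulo the centralizer, has order at most 6. -/
theorem card_dvd (h : FourPair a b) [Finite G] {N : Subgroup G}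
    (hN : N ≤ normalizer (h.grp : Set G)) :
    ∃ m, m ∣ 6 ∧ Nat.card N = Nat.card ↥(N ⊓ centralizer (h.grp : Set G)) * m := by
  let φ : ↥N →* Equiv.Perm (Fin 3) := h.perm.comp (inclusion hN)
  refine ⟨Nat.card φ.range, ?_, ?_⟩
  · have := φ.range.card_subgroup_dvd_card
    rwa [Nat.card_eq_fintype_card (α := Equiv.Perm (Fin 3)), Fintype.card_perm, Fintype.card_fin] at this
  · rw [← φ.ker.card_mul_index, index_ker]
    congr 1
    exact Nat.card_congr
      { toFun := fun n => ⟨n.1.1, n.1.2, (h.perm_eq_one_iff (inclusion hN n.1)).1 n.2⟩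
        invFun := fun g => ⟨⟨g.1, g.2.1⟩,
          (h.perm_eq_one_iff (inclusion hN ⟨g.1, g.2.1⟩)).2 g.2.2⟩
        left_inv := fun _ => rfl
        right_inv := fun _ => rfl }

end FourPair

/-- Subgroups of order 3 are conjugate in a group whose order is not divisible by 9. -/
theorem conj_of_card_three [Finite G] {L A B : Subgroup G} (hA : A ≤ L) (hB : B ≤ L)
    (cA : Nat.card A = 3) (cB : Nat.card B = 3) (h9 : ¬ 9 ∣ Nat.card L) :
    ∃ d ∈ L, ∀ x ∈ A, d * x * d⁻¹ ∈ B := by
  haveI : Fact (Nat.Prime 3) := ⟨Nat.prime_three⟩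
  have hidx : ∀ C : Subgroup G, C ≤ L → Nat.card C = 3 → ¬ 3 ∣ (C.subgroupOf L).index := by
    intro C hC cC h3
    refine h9 ?_
    rw [← (C.subgroupOf L).card_mul_index, Nat.card_congr (subgroupOfEquivOfLe hC).toEquiv, cC]
    exact Nat.mul_dvd_mul_left 3 h3
  have hp : ∀ C : Subgroup G, C ≤ L → Nat.card C = 3 → IsPGroup 3 ↥(C.subgroupOf L) :=
    fun C hC cC => IsPGroup.of_card (n := 1)
      (by rw [Nat.card_congr (subgroupOfEquivOfLe hC).toEquiv, cC, pow_one])
  let PA := (hp A hA cA).toSylow (hidx A hA cA)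
  let PB := (hp B hB cB).toSylow (hidx B hB cB)
  obtain ⟨d, hd⟩ := MulAction.exists_smul_eq ↥L PA PB
  refine ⟨d, d.2, fun x hx => ?_⟩
  have h1 : MulAut.conj d (⟨x, hA hx⟩ : ↥L) ∈ ((d • PA : Sylow 3 ↥L) : Subgroup ↥L) :=
    Subgroup.smul_mem_pointwise_smul _ (MulAut.conj d) _ hx
  rw [hd] at h1
  exact h1

theorem perm3_swap : ∀ σ : Equiv.Perm (Fin 3), σ 0 = 0 → σ ≠ 1 → Equiv.Perm.sign σ = -1 := by
  decide

theorem perm3_not_commute : ∀ σ τ : Equiv.Perm (Fin 3),
    σ * σ * σ = 1 → σ ≠ 1 → Equiv.Perm.sign τ = -1 → σ * τ ≠ τ * σ := by decide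

theorem perm3_odd_sq : ∀ τ : Equiv.Perm (Fin 3), Equiv.Perm.sign τ = -1 → τ * τ = 1 := by decide

theorem perm3_cube : ∀ σ : Equiv.Perm (Fin 3),
    σ * σ * σ = 1 → σ ≠ 1 → Equiv.Perm.sign σ = 1 ∧ ∀ i j : Fin 3, σ i = j ∨ σ (σ i) = j ∨ i = j := by
  decide

end Cfsg.Agent.MaxNorm91
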