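import Cfsg.Agent.MaxNorm91.CentBasic
import Cfsg.Agent.MaxNorm91.Four
import Cfsg.Agent.Lib.Involution.NormalFour
import Cfsg.Agent.Lib.Involution.IndexTwo

/-!
# Involution centralizers and Sylow 2-subgroups when two-prime normalizers are maximal
-/

set_option autoImplicit false
set_option linter.unusedSectionVars false
set_option linter.style.haveILetI false

namespace Cfsg.Agent.MaxNorm91

open Subgroup
open scoped commutatorElement

universe u

section General

variable {G : Type*} [Group G]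

theorem conj_mem_commutator {S : Subgroup G} {n k : G} (hn : n ∈ normalizer (S : Set G))
    (hk : k ∈ ⁅S, S⁆) : n * k * n⁻¹ ∈ ⁅S, S⁆ := by
  have e : S.map (MulAut.conj n).toMonoidHom = S := by
    ext x
    constructor
    · rintro ⟨y, hy, rfl⟩
      exact (mem_normalizer_iff.1 hn y).1 hy
    · intro hx
      refine ⟨n⁻¹ * x * n, (mem_normalizer_iff.1 hn _).2 ?_, by simp [mul_assoc]⟩
      simpa [mul_assoc] using hx
  have h1 : MulAut.conj n k ∈ (⁅S, S⁆).map (MulAut.conj n).toMonoidHom := ⟨k, hk, rfl⟩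
  rwa [map_commutator, e] at h1

theorem exists_prime_elem [Finite G] {p : ℕ} [Fact p.Prime] {H : Subgroup G}
    (h : ¬ IsPGroup p ↥H) : ∃ x ∈ H, ∃ q : ℕ, q.Prime ∧ q ≠ p ∧ orderOf x = q := by
  by_contra! hcon
  refine h (IsPGroup.of_card (n := (Nat.card H).primeFactorsList.length)
    (Nat.eq_prime_pow_of_unique_prime_dvd Nat.card_pos.ne' fun {q} hq hd => ?_))
  haveI := Fact.mk hq
  obtain ⟨x, hx⟩ := exists_prime_orderOf_dvd_card' (G := ↥H) q hd
  by_contra hne
  exact hcon x x.2 q hq hne (by rw [orderOf_coe, hx])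

theorem eq_one_of_two_orders {p q : ℕ} (hp : p.Prime) (hq : q.Prime) (hpq : p ≠ q) {g : G}
    {i j : ℕ} (h1 : g ^ p ^ i = 1) (h2 : g ^ q ^ j = 1) : g = 1 := by
  have := (pow_gcd_eq_one (a := g)).2 ⟨h1, h2⟩
  rwa [Nat.Coprime.pow _ _ ((Nat.coprime_primes hp hq).2 hpq), pow_one] at this

theorem pow_two_pow_of_mem {P : Subgroup G} (hP : IsPGroup 2 ↥P) {g : G} (hg : g ∈ P) :
    ∃ k : ℕ, g ^ 2 ^ k = 1 := by
  obtain ⟨k, hk⟩ := hP ⟨g, hg⟩
  exact ⟨k, by simpa using congrArg Subtype.val hk⟩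

theorem not_mem_two_group [Finite G] {P : Subgroup G} (hP : IsPGroup 2 ↥P) {x : G} {q : ℕ}
    (hq : q.Prime) (hq2 : q ≠ 2) (hx : orderOf x = q) : x ∉ P := by
  intro hxP
  obtain ⟨k, hk⟩ := pow_two_pow_of_mem hP hxP
  have h1 : x = 1 := eq_one_of_two_orders Nat.prime_two hq hq2.symm hk (j := 1)
    (by rw [pow_one, ← hx]; exact pow_orderOf_eq_one x)
  rw [h1, orderOf_one] at hx
  exact hq.one_lt.ne hx

theorem card_conj_le [Finite G] {A B : Subgroup G} {g : G} (h : ∀ x ∈ A, g * x * g⁻¹ ∈ B) :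
    Nat.card A ≤ Nat.card B :=
  Nat.card_le_card_of_injective (fun x : ↥A => (⟨g * x * g⁻¹, h x x.2⟩ : ↥B)) fun x y e => by
    have e' := congrArg Subtype.val e
    exact Subtype.ext ((MulAut.conj g).injective e')

theorem isPGroup_sup_comm [Finite G] {p : ℕ} {A B : Subgroup G} (hA : IsPGroup p ↥A)
    (hB : IsPGroup p ↥B) (hc : ∀ a ∈ A, ∀ b ∈ B, a * b = b * a) : IsPGroup p ↥(A ⊔ B) :=
  hA.to_sup_of_normal_right' hB (commute_le_normalizer hc)

theorem IsSyl.card_eq [Finite G] {T S S' : Subgroup G} (h : IsSyl T S) (h' : IsSyl T S') :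
    Nat.card S = Nat.card S' := by
  obtain ⟨g, -, hg⟩ := h'.exists_conj_le h.le h.two
  obtain ⟨g', -, hg'⟩ := h.exists_conj_le h'.le h'.two
  exact le_antisymm (card_conj_le hg) (card_conj_le hg')

end General

variable {Q : Type u} [Group Q] [Finite Q] {T : Subgroup Q}

/-- An odd prime order element commuting with an involution generates a subgroup with the same
normalizer. -/
theorem Ctx.odd_norm (h : Ctx T) {t x : Q} (ht : orderOf t = 2) {q k : ℕ} [Fact q.Prime]
    (hq : q ≠ 2) (hx : orderOf x = q ^ k) (hx1 : x ≠ 1) (hc : t * x = x * t) :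
    normalizer (zpowers x : Set Q) = centralizer ({t} : Set Q) := by
  haveI : Fact (Nat.Prime 2) := ⟨Nat.prime_two⟩
  rw [← normalizer_zpowers_of_orderOf_two ht]
  refine (h.norm_eq hq.symm (isPGroup_zpowers (p := 2) (k := 1) (by rw [ht, pow_one]))
    (isPGroup_zpowers hx) (zpowers_ne_bot' (Involution.ne_one_of_orderOf ht))
    (zpowers_ne_bot' hx1) ?_).symm
  intro a ha b hb
  obtain ⟨i, rfl⟩ := mem_zpowers_iff.1 ha
  obtain ⟨j, rfl⟩ := mem_zpowers_iff.1 hb
  exact ((show Commute t x from hc).zpow_zpow i j).eq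

theorem Ctx.not_mem_center' (h : Ctx T) {z : Q} (_hz : z ∈ T) (hc : ∀ a ∈ T, a * z = z * a) :
    z = 1 := by
  have : z ∈ centralizer (T : Set Q) := fun a ha => hc a ha
  rw [h.cent] at this
  exact mem_bot.1 this

theorem Ctx.norm_self (h : Ctx T) {M : Subgroup Q} (hM : IsCoatom M) {z : Q} (hz : z ∈ T)
    (hz1 : z ≠ 1) (hzM : z ∈ M) {K : Subgroup Q} (hK : K ≠ ⊥) (hKT : K ≤ T)
    (hKs : Group.IsSolvable ↥K) (hMK : M = normalizer (K : Set Q)) :
    normalizer (M : Set Q) = M := by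
  haveI := h.normal
  haveI := h.simple
  refine (hM.le_iff.1 le_normalizer).resolve_left fun e => ?_
  haveI : M.Normal := normalizer_eq_top_iff.1 e
  haveI : (M.subgroupOf T).Normal := normal_subgroupOf
  rcases (inferInstance : (M.subgroupOf T).Normal).eq_bot_or_eq_top with e' | e'
  · rw [subgroupOf_eq_bot] at e'
    exact hz1 (Subgroup.disjoint_def.1 e' hzM hz)
  · have hTM : T ≤ normalizer (K : Set Q) := hMK ▸ subgroupOf_eq_top.1 e'
    have hn : (K.subgroupOf T).Normal := (normal_subgroupOf_iff_le_normalizer hKT).2 hTM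
    rcases hn.eq_bot_or_eq_top with e2 | e2
    · rw [subgroupOf_eq_bot] at e2
      exact hK (disjoint_self.1 (e2.mono_right hKT))
    · haveI := hKs
      exact h.not_solvable (Group.isSolvable_of_isSolvable_injective
        (f := inclusion (subgroupOf_eq_top.1 e2)) (inclusion_injective _))

theorem Ctx.cent_solvable (h : Ctx T) (t : ↥T) (ht : orderOf t = 2) :
    Group.IsSolvable ↥(centralizer ({t} : Set ↥T)) := by
  set C := centralizer ({t} : Set ↥T)
  have ht' : orderOf (t : Q) = 2 := by rw [orderOf_coe, ht]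
  set D := commutator ↥C with hD
  have hcen : ∀ q : ℕ, q.Prime → q ≠ 2 → ∀ P : Sylow q ↥D, (P : Subgroup ↥D) ≤ center ↥D := by
    intro q hq hq2 P x hx
    haveI := Fact.mk hq
    rw [mem_center_iff]
    intro d
    by_cases hx1 : x = 1
    · simp [hx1]
    obtain ⟨k, hk⟩ := IsPGroup.iff_orderOf.1 P.isPGroup' ⟨x, hx⟩
    rw [orderOf_mk] at hk
    have hxQ : orderOf (((x : ↥C) : ↥T) : Q) = q ^ k := by
      rw [orderOf_coe, orderOf_coe, orderOf_coe, hk]
    have hxc : (t : Q) * ((x : ↥C) : ↥T) = ((x : ↥C) : ↥T) * (t : Q) :=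
      (congrArg Subtype.val (cs_iff.1 (x : ↥C).2)).symm
    have hN := h.odd_norm ht' hq2 hxQ (fun e => hx1 (Subtype.ext (Subtype.ext (Subtype.ext e)))) hxc
    have hle : D ≤ centralizer ({(x : ↥C)} : Set ↥C) := by
      show commutator ↥C ≤ _
      rw [_root_.commutator_def, commutator_le]
      intro a _ b _
      have hmem : ∀ c : ↥C, (((c : ↥T) : Q)) ∈ normalizer (zpowers (((x : ↥C) : ↥T) : Q) : Set Q) :=
        fun c => by
          rw [hN, cs_iff]
          exact congrArg Subtype.val (cs_iff.1 c.2)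
      have h2 := cs_iff.1 (commutator_mem_centralizer (hmem a) (hmem b))
      rw [cs_iff]
      refine Subtype.ext (Subtype.ext ?_)
      simpa [commutatorElement_def] using h2
    exact Subtype.ext (cs_iff.1 (hle d.2))
  haveI : Fact (Nat.Prime 2) := ⟨Nat.prime_two⟩
  have h2 : IsPGroup 2 (↥D ⧸ center ↥D) := by
    refine IsPGroup.of_card (n := (Nat.card (↥D ⧸ center ↥D)).primeFactorsList.length)
      (Nat.eq_prime_pow_of_unique_prime_dvd Nat.card_pos.ne' fun {q} hq hd => ?_)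
    by_contra hq2
    haveI := Fact.mk hq
    obtain ⟨P⟩ := (inferInstance : Nonempty (Sylow q ↥D))
    refine P.not_dvd_index ((Dvd.dvd.trans ?_ (index_dvd_of_le (hcen q hq hq2 P))))
    rwa [index_eq_card]
  haveI : Group.IsSolvable (↥D ⧸ center ↥D) := isSolvable_of_isPGroup h2
  haveI : Group.IsSolvable ↥(center ↥D) :=
    Group.isSolvable_of_comm fun a b => Subtype.ext (mem_center_iff.1 b.2 a)
  haveI : Group.IsSolvable ↥D :=
    (Group.isSolvable_iff_subgroup_quotient (center ↥D)).2 ⟨inferInstance, inferInstance⟩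
  haveI : Group.IsSolvable (↥C ⧸ D) := by
    show Group.IsSolvable (Abelianization ↥C)
    exact Group.isSolvable_of_comm mul_comm
  exact (Group.isSolvable_iff_subgroup_quotient D).2 ⟨inferInstance, inferInstance⟩

theorem centQ_eq (t : ↥T) : (centralizer ({t} : Set ↥T)).map T.subtype =
    T ⊓ centralizer ({(t : Q)} : Set Q) := by
  ext x
  constructor
  · rintro ⟨y, hy, rfl⟩
    exact ⟨y.2, cs_iff.2 (congrArg Subtype.val (cs_iff.1 hy))⟩
  · rintro ⟨hxT, hx⟩
    exact ⟨⟨x, hxT⟩, cs_iff.2 (Subtype.ext (cs_iff.1 hx)), rfl⟩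

/-- `C(t)` normalizes `T ∩ C(t)`. -/
theorem cent_le_norm [T.Normal] (t : Q) :
    centralizer ({t} : Set Q) ≤ normalizer ((T ⊓ centralizer ({t} : Set Q) : Subgroup Q) : Set Q) := by
  intro n (hn : n ∈ centralizer ({t} : Set Q))
  rw [mem_normalizer_iff]
  intro x
  constructor
  · exact fun hx => ⟨Normal.conj_mem inferInstance x hx.1 n,
      (centralizer ({t} : Set Q)).mul_mem ((centralizer ({t} : Set Q)).mul_mem hn hx.2)
        ((centralizer ({t} : Set Q)).inv_mem hn)⟩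
  · intro hx
    have h1 := Normal.conj_mem (inferInstance : T.Normal) _ hx.1 n⁻¹
    have h2 := (centralizer ({t} : Set Q)).mul_mem ((centralizer ({t} : Set Q)).mul_mem
      ((centralizer ({t} : Set Q)).inv_mem hn) hx.2) hn
    exact ⟨by simpa [mul_assoc] using h1, by simpa [mul_assoc] using h2⟩

/-- If `C_T(t)` is the Sylow subgroup `S`, then `C(t) = N(S)`. -/
theorem Ctx.cent_eq_norm (h : Ctx T) {S : Subgroup Q} (hS : IsSyl T S) {t : Q}
    (ht : orderOf t = 2) (htS : t ∈ S) (hc : T ⊓ centralizer ({t} : Set Q) = S) :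
    normalizer (S : Set Q) = centralizer ({t} : Set Q) := by
  haveI : Fact (Nat.Prime 2) := ⟨Nat.prime_two⟩
  haveI := h.normal
  have hS1 : S ≠ ⊥ := fun e => Involution.ne_one_of_orderOf ht (mem_bot.1 (e ▸ htS))
  have h1 : centralizer ({t} : Set Q) ≤ normalizer (S : Set Q) := by
    have := cent_le_norm (T := T) t
    rwa [hc] at this
  have hco : IsCoatom (centralizer ({t} : Set Q)) := by
    rw [← normalizer_zpowers_of_orderOf_two ht]
    exact h.coatom (isPGroup_zpowers (p := 2) (k := 1) (by rw [ht, pow_one]))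
      (zpowers_ne_bot' (Involution.ne_one_of_orderOf ht))
  exact (hco.le_iff.1 h1).resolve_left (h.coatom hS.two hS1).1

theorem Ctx.conj_eq_self (h : Ctx T) {S : Subgroup Q} {z g : Q}
    (hc : T ⊓ centralizer ({z} : Set Q) = S) (hN : normalizer (S : Set Q) = centralizer ({z} : Set Q))
    (hcom : ∀ s ∈ S, s * (g * z * g⁻¹) = (g * z * g⁻¹) * s) : g * z * g⁻¹ = z := by
  classical
  haveI := h.normal
  have key : ∀ s ∈ S, g⁻¹ * s * g ∈ S := by
    intro s hs
    have hT : s ∈ T := (hc ▸ hs : s ∈ T ⊓ centralizer ({z} : Set Q)).1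
    rw [← hc]
    refine ⟨by simpa using Normal.conj_mem (inferInstance : T.Normal) s hT g⁻¹, cs_iff.2 ?_⟩
    calc g⁻¹ * s * g * z = g⁻¹ * (s * (g * z * g⁻¹)) * g := by group
      _ = g⁻¹ * ((g * z * g⁻¹) * s) * g := by rw [hcom s hs]
      _ = _ := by group
  have hg : g⁻¹ ∈ normalizer (S : Set Q) := by
    rw [mem_normalizer_iff]
    intro x
    rw [inv_inv]
    refine ⟨key x, fun hx => ?_⟩
    obtain ⟨⟨y, hy⟩, e⟩ := (Finite.injective_iff_surjective
      (f := fun y : ↥S => (⟨g⁻¹ * y * g, key y y.2⟩ : ↥S))).1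
      (fun a b e => Subtype.ext (by simpa using congrArg Subtype.val e)) ⟨_, hx⟩
    have e' : g⁻¹ * y * g = g⁻¹ * x * g := congrArg Subtype.val e
    rwa [← mul_left_cancel (mul_right_cancel e')]
  rw [hN] at hg
  have hg' := inv_mem hg
  rw [inv_inv] at hg'
  rw [cs_iff.1 hg', mul_inv_cancel_right]

theorem Ctx.cent_not_two (h : Ctx T)
    (hab : ∀ S : Subgroup Q, IsSyl T S → ∀ a ∈ S, ∀ b ∈ S, a * b = b * a)
    (t : ↥T) (ht : orderOf t = 2) : ¬ IsPGroup 2 ↥(centralizer ({t} : Set ↥T)) := by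
  haveI : Fact (Nat.Prime 2) := ⟨Nat.prime_two⟩
  intro h2
  have hP : IsPGroup 2 ↥(T ⊓ centralizer ({(t : Q)} : Set Q)) := centQ_eq t ▸ h2.map T.subtype
  have ht' : orderOf (t : Q) = 2 := by rw [orderOf_coe, ht]
  obtain ⟨S, hS, htS⟩ := exists_isSyl_ge (P := zpowers (t : Q)) (zpowers_le.2 t.2)
    (isPGroup_zpowers (k := 1) (by rw [ht', pow_one]))
  have htS' : (t : Q) ∈ S := htS (mem_zpowers _)
  have hPS : T ⊓ centralizer ({(t : Q)} : Set Q) = S := hS.max _ inf_le_left hP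
    fun s hs => ⟨hS.le hs, cs_iff.2 (hab S hS s hs t htS')⟩
  have hN := h.cent_eq_norm hS ht' htS' hPS
  obtain ⟨g, hgT, hgS, hne⟩ := h.exists_conj_ne hS ht' htS'
  exact hne (h.conj_eq_self hPS hN fun s hs => hab S hS s hs _ hgS)

/-- A central involution of `S` in `⁅S, S⁆` has a 2-group as centralizer in `T`. -/
theorem Ctx.cent_two (h : Ctx T) {S : Subgroup Q} (hS : IsSyl T S) {z : Q} (hz : orderOf z = 2)
    (hzd : z ∈ ⁅S, S⁆) (hzc : ∀ s ∈ S, s * z = z * s) :
    T ⊓ centralizer ({z} : Set Q) = S := by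
  haveI : Fact (Nat.Prime 2) := ⟨Nat.prime_two⟩
  haveI := h.normal
  have hle : ⁅S, S⁆ ≤ S := commutator_le.2 fun a ha b hb => by
    rw [commutatorElement_def]; exact mul_mem (mul_mem (mul_mem ha hb) (inv_mem ha)) (inv_mem hb)
  have hzS : z ∈ S := hle hzd
  have hz1 := Involution.ne_one_of_orderOf hz
  refine hS.max _ inf_le_left ?_ (fun s hs => ⟨hS.le hs, cs_iff.2 (hzc s hs)⟩)
  by_contra h2
  obtain ⟨x, hx, q, hq, hq2, hxo⟩ := exists_prime_elem h2
  haveI := Fact.mk hq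
  have hxo' : orderOf x = q ^ 1 := by rw [hxo, pow_one]
  have hx1 : x ≠ 1 := fun e => by rw [e, orderOf_one] at hxo; exact hq.one_lt.ne hxo
  have hM := h.odd_norm hz hq2 hxo' hx1 (cs_iff.1 hx.2).symm
  have hSM : S ≤ normalizer (zpowers x : Set Q) := fun s hs => hM.symm ▸ cs_iff.2 (hzc s hs)
  have hUne : ⁅S, S⁆ ≠ ⊥ := fun e => hz1 (mem_bot.1 (e ▸ hzd))
  have hcx : ∀ u ∈ ⁅S, S⁆, u * x = x * u := fun u hu => cs_iff.1 (commutator_le_centralizer hSM hu)
  have hU2 : IsPGroup 2 ↥⁅S, S⁆ := hS.two.to_le hle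
  have hcomX : ∀ u ∈ ⁅S, S⁆, ∀ v ∈ zpowers x, u * v = v * u := by
    intro u hu v hv
    obtain ⟨i, rfl⟩ := mem_zpowers_iff.1 hv
    exact ((show Commute u x from hcx u hu).zpow_right i).eq
  have hUN := h.norm_eq hq2.symm hU2 (isPGroup_zpowers hxo') hUne (zpowers_ne_bot' hx1) hcomX
  have hS1 : S ≠ ⊥ := fun e => hz1 (mem_bot.1 (e ▸ hzS))
  have hNS : normalizer (S : Set Q) = normalizer (zpowers x : Set Q) := by
    rw [← hUN]
    exact (((h.coatom hS.two hS1).le_iff.1
      (normalizer_le_of_char fun n hn k hk => conj_mem_commutator hn hk)).resolve_left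
      (h.coatom hU2 hUne).1).symm
  have hxS : x ∈ normalizer (S : Set Q) := hNS ▸ le_normalizer (mem_zpowers x)
  have hsx : ∀ s ∈ S, s * x = x * s := by
    intro s hs
    have h1 : s * x * s⁻¹ * x⁻¹ ∈ zpowers x :=
      mul_mem ((mem_normalizer_iff.1 (hSM hs) x).1 (mem_zpowers x)) (inv_mem (mem_zpowers x))
    have h2' : s * x * s⁻¹ * x⁻¹ ∈ S := by
      rw [show s * x * s⁻¹ * x⁻¹ = s * (x * s⁻¹ * x⁻¹) by group]
      exact mul_mem hs ((mem_normalizer_iff.1 hxS _).1 (inv_mem hs))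
    obtain ⟨i, hi⟩ := pow_two_pow_of_mem hS.two h2'
    obtain ⟨j, hj⟩ := (isPGroup_zpowers (G := Q) hxo') ⟨_, h1⟩
    have h3 := eq_one_of_two_orders Nat.prime_two hq hq2.symm hi
      (j := j) (by simpa using congrArg Subtype.val hj)
    calc s * x = s * x * s⁻¹ * x⁻¹ * (x * s) := by group
      _ = x * s := by rw [h3, one_mul]
  obtain ⟨g, hgT, hgS, hne⟩ := h.exists_conj_ne hS hz hzS
  set w := g * z * g⁻¹ with hw
  have hwo : orderOf w = 2 := by
    rw [hw, show g * z * g⁻¹ = MulAut.conj g z from rfl, MulEquiv.orderOf_eq, hz]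
  have hCw := h.odd_norm hwo hq2 hxo' hx1 (hsx w hgS)
  have hCwz : centralizer ({w} : Set Q) = centralizer ({z} : Set Q) := hCw.symm.trans hM
  have hgM : g ∈ normalizer ((centralizer ({z} : Set Q) : Subgroup Q) : Set Q) := by
    rw [mem_normalizer_iff]
    intro k
    conv_rhs => rw [← hCwz]
    rw [cs_iff, cs_iff, hw]
    constructor
    · intro hk
      calc g * k * g⁻¹ * (g * z * g⁻¹) = g * (k * z) * g⁻¹ := by group
        _ = g * (z * k) * g⁻¹ := by rw [hk]
        _ = _ := by group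
    · intro hk
      calc k * z = g⁻¹ * (g * k * g⁻¹ * (g * z * g⁻¹)) * g := by group
        _ = g⁻¹ * (g * z * g⁻¹ * (g * k * g⁻¹)) * g := by rw [hk]
        _ = _ := by group
  have hxs : Group.IsSolvable ↥(zpowers x) :=
    Group.isSolvable_of_comm fun a b => mul_comm' a b
  rw [h.norm_self (hM ▸ h.coatom (isPGroup_zpowers hxo') (zpowers_ne_bot' hx1)) (hS.le hzS) hz1
    (cs_iff.2 rfl) (zpowers_ne_bot' hx1) (zpowers_le.2 hx.1) hxs hM.symm] at hgM
  exact hne (by rw [hw, cs_iff.1 hgM, mul_inv_cancel_right])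

end Cfsg.Agent.MaxNorm91
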