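import Cfsg.Prelude.Def_CaseTheorems
import Mathlib.LinearAlgebra.Matrix.ProjectiveSpecialLinearGroup
import Mathlib.FieldTheory.Finite.Basic
import Mathlib.GroupTheory.Sylow
import Mathlib.GroupTheory.IsSubnormal
import Mathlib.Data.ZMod.Basic

/-!
# Groups in which two-prime subgroups have maximal normalizers (S4233): interfaces

`PLAN.md` in this folder has the proof; each file proves one of the `*Stmt` propositions.
-/

set_option autoImplicit false

namespace Cfsg.Agent.MaxNorm91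

open Subgroup

universe u

/-- At most two primes divide the order of `H`. -/
def TwoPrimes {G : Type*} [Group G] (H : Subgroup G) : Prop :=
  ∃ p q : ℕ, p.Prime ∧ q.Prime ∧ ∀ r : ℕ, r.Prime → r ∣ Nat.card H → r = p ∨ r = q

/-- The hypothesis of S4233. -/
def Hyp (G : Type*) [Group G] : Prop :=
  ∀ H : Subgroup G, ¬ H.IsSubnormal → TwoPrimes H → IsCoatom (normalizer (H : Set G))

/-- The hypothesis in a group with trivial solvable radical. -/
def MaxNorm (Q : Type*) [Group Q] : Prop :=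
  ∀ H : Subgroup Q, H ≠ ⊥ → TwoPrimes H → IsCoatom (normalizer (H : Set Q))

/-- `T` is a normal non-abelian simple subgroup with trivial centralizer and `Q` satisfies
`MaxNorm`. -/
structure Ctx {Q : Type*} [Group Q] (T : Subgroup Q) : Prop where
  max : MaxNorm Q
  normal : T.Normal
  simple : IsSimpleGroup ↥T
  nonab : ¬ IsMulCommutative ↥T
  cent : centralizer (T : Set Q) = ⊥

theorem TwoPrimes.of_le {G : Type*} [Group G] [Finite G] {H K : Subgroup G} (h : H ≤ K)
    (hK : TwoPrimes K) : TwoPrimes H := by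
  obtain ⟨p, q, hp, hq, hK⟩ := hK
  exact ⟨p, q, hp, hq, fun r hr hd => hK r hr (hd.trans (card_dvd_of_le h))⟩

theorem TwoPrimes.of_isPGroup {G : Type*} [Group G] [Finite G] {p : ℕ} [Fact p.Prime]
    {H : Subgroup G} (h : IsPGroup p H) : TwoPrimes H := by
  obtain ⟨k, hk⟩ := IsPGroup.iff_card.1 h
  have hp : p.Prime := Fact.out
  exact ⟨p, p, hp, hp, fun r hr hd =>
    Or.inl ((Nat.prime_dvd_prime_iff_eq hr hp).1 (hr.dvd_of_dvd_pow (hk ▸ hd)))⟩

/-- Elementwise commuting subgroups of coprime prime-power orders. -/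
theorem TwoPrimes.of_sup {G : Type*} [Group G] [Finite G] {p q : ℕ} [Fact p.Prime] [Fact q.Prime]
    {A B : Subgroup G} (hA : IsPGroup p A) (hB : IsPGroup q B) (hn : A ≤ normalizer (B : Set G)) :
    TwoPrimes (A ⊔ B) := by
  obtain ⟨i, hi⟩ := IsPGroup.iff_card.1 hA
  obtain ⟨j, hj⟩ := IsPGroup.iff_card.1 hB
  refine ⟨p, q, Fact.out, Fact.out, fun r hr hd => ?_⟩
  have hle : A ⊔ B ≤ normalizer (B : Set G) := sup_le hn le_normalizer
  have hB' : (B.subgroupOf (normalizer (B : Set G))).Normal := normal_in_normalizer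
  have hrel : B.relIndex (A ⊔ B) = B.relIndex A := by
    rw [← relIndex_subgroupOf hle, subgroupOf_sup hn le_normalizer, relIndex_sup_right,
      relIndex_subgroupOf hn]
  have hdvd : Nat.card ↥(A ⊔ B) ∣ Nat.card A * Nat.card B := by
    have e : Nat.card B * B.relIndex (A ⊔ B) = Nat.card ↥(A ⊔ B) := by
      rw [← relIndex_bot_left, ← relIndex_bot_left,
        relIndex_mul_relIndex _ _ _ bot_le le_sup_right]
    rw [← e, hrel, mul_comm]
    exact mul_dvd_mul_right (relIndex_dvd_card _ _) _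
  have h := hr.dvd_mul.1 (hd.trans hdvd)
  rcases h with h | h
  · exact Or.inl ((Nat.prime_dvd_prime_iff_eq hr Fact.out).1 (hr.dvd_of_dvd_pow (hi ▸ h)))
  · exact Or.inr ((Nat.prime_dvd_prime_iff_eq hr Fact.out).1 (hr.dvd_of_dvd_pow (hj ▸ h)))

/-! ## Statements -/

/-- `Radical.lean` -/
def RadicalStmt : Prop :=
  ∀ (G : Type u) [Group G] [Finite G], ¬ Group.IsSolvable G → Hyp G →
    ∃ (R : Subgroup G) (_ : R.Normal), Group.IsSolvable ↥R ∧
      ∃ T : Subgroup (G ⧸ R), Ctx T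

/-- `Centralisers.lean`: abelian Sylow 2-subgroups, solvable involution centralisers, none a
2-group. -/
def CentStmt : Prop :=
  ∀ (Q : Type u) [Group Q] [Finite Q] (T : Subgroup Q), Ctx T →
    (∀ S : Sylow 2 ↥T, IsMulCommutative ↥(S : Subgroup ↥T)) ∧
    (∀ t : ↥T, orderOf t = 2 → Group.IsSolvable ↥(centralizer ({t} : Set ↥T))) ∧
    (∀ t : ↥T, orderOf t = 2 → ¬ IsPGroup 2 ↥(centralizer ({t} : Set ↥T)))

/-- `Field.lean`: only `q = 5, 11, 13` are left. -/
def FieldStmt : Prop :=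
  ∀ (Q : Type u) [Group Q] [Finite Q] (T : Subgroup Q), Ctx T →
    ∀ (F : Type) [Field F] [Fintype F],
      (((Fintype.card F % 8 = 3 ∨ Fintype.card F % 8 = 5) ∧ 5 ≤ Fintype.card F) ∨
        (∃ n : ℕ, 2 ≤ n ∧ Fintype.card F = 2 ^ n)) →
      Nonempty (↥T ≃* Matrix.ProjectiveSpecialLinearGroup (Fin 2) F) →
      Fintype.card F = 5 ∨ Fintype.card F = 11 ∨ Fintype.card F = 13

/-- `Small.lean`: `Q` is `PSL(2, 13)`. -/
def SmallStmt : Prop :=
  ∀ (Q : Type u) [Group Q] [Finite Q] (T : Subgroup Q), Ctx T →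
    (∀ t : ↥T, orderOf t = 2 → ¬ IsPGroup 2 ↥(centralizer ({t} : Set ↥T))) →
    ∀ (F : Type) [Field F] [Fintype F],
      (Fintype.card F = 5 ∨ Fintype.card F = 11 ∨ Fintype.card F = 13) →
      Nonempty (↥T ≃* Matrix.ProjectiveSpecialLinearGroup (Fin 2) F) →
      Nonempty (Q ≃* Matrix.ProjectiveSpecialLinearGroup (Fin 2) (ZMod 13))

/-- `Lift.lean` -/
def LiftStmt : Prop :=
  ∀ (G : Type u) [Group G] [Finite G], Hyp G →
    ∀ (R : Subgroup G) [R.Normal], Group.IsSolvable ↥R →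
      Nonempty (G ⧸ R ≃* Matrix.ProjectiveSpecialLinearGroup (Fin 2) (ZMod 13)) →
      ∃ K S : Subgroup G, K.Normal ∧ S.Normal ∧ K ⊓ S = ⊥ ∧ K ⊔ S = ⊤ ∧
        (Nonempty (K ≃* Matrix.ProjectiveSpecialLinearGroup (Fin 2) (ZMod 13)) ∨
          Nonempty (K ≃* Matrix.SpecialLinearGroup (Fin 2) (ZMod 13))) ∧
        IsMulCommutative S ∧ (Nat.card K).Coprime (Nat.card S)

end Cfsg.Agent.MaxNorm91
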