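import Cfsg.Agent.MaxNorm91.Defs
import Cfsg.Agent.GW66.PSLFacts
import Cfsg.Agent.Classical10.SL2Sylow
import Cfsg.Agent.Lib.GLSemisimple.PSL211
import Cfsg.Agent.Lib.LinearGroup.SmallPSL

/-!
# The three small fields: `Q` is `PSL(2, 13)`
-/

set_option autoImplicit false
set_option linter.unusedSectionVars false
set_option linter.style.haveILetI false

namespace Cfsg.Agent.MaxNorm91

open Subgroup
open scoped Pointwise

universe u

namespace Small

/-- The data of a Sylow four-group of `T ≅ PSL(2, 11)` or `PSL(2, 13)`. -/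
structure Data {Q : Type*} [Group Q] (T V : Subgroup Q) (x : Q) (j : ℕ) : Prop where
  klein : IsKleinFour V
  le : V ≤ T
  xT : x ∈ T
  x3 : orderOf x = 3
  xn : ∀ v ∈ V, x * v * x⁻¹ ∈ V
  move : ∀ v ∈ V, v ≠ 1 → x * v * x⁻¹ ≠ v
  self : ∀ y ∈ T, (∀ v ∈ V, y * v = v * y) → y ∈ V
  syl : ∀ P : Subgroup Q, P ≤ T → V ≤ P → IsPGroup 2 P → P = V
  card : Nat.card T = 12 * j
  hj : j = 55 ∨ j = 91
  tor : ∀ t ∈ V, t ≠ 1 → ∃ K : Subgroup Q, K ≤ T ∧ Nat.card K = 3 ∧
    ∀ y, y ∈ K ↔ y ∈ T ∧ Odd (orderOf y) ∧ y * t = t * y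

variable {Q : Type u} [Group Q] [Finite Q] {T V : Subgroup Q} {x : Q} {j : ℕ}

theorem pgroup_zpowers {p n : ℕ} (hp : p.Prime) {a : Q} (h : a ^ p ^ n = 1) :
    IsPGroup p (zpowers a) := by
  obtain ⟨i, -, hi⟩ := (Nat.dvd_prime_pow hp).mp (orderOf_dvd_of_pow_eq_one h)
  haveI := Fact.mk hp
  exact IsPGroup.of_card (n := i) (by rw [Nat.card_zpowers, hi])

theorem eq_of_coatom {A B : Subgroup Q} (hA : IsCoatom A) (hle : A ≤ B) (hB : B ≠ ⊤) : A = B := by
  rcases eq_or_lt_of_le hle with h | h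
  · exact h
  · exact absurd (hA.2 B h) hB

theorem normalizer_le_inf (hT : T.Normal) (H : Subgroup Q) :
    normalizer (H : Set Q) ≤ normalizer ((H ⊓ T : Subgroup Q) : Set Q) := fun n hn =>
  GW66.PSL.mem_normalizer_of_forall fun v hv =>
    ⟨(mem_normalizer_iff.mp hn v).mp hv.1, hT.conj_mem v hv.2 n⟩

theorem normalizer_ne_top (hC : Ctx T) {X : Subgroup Q} (hle : X ≤ T) (h1 : X ≠ ⊥) (h2 : X ≠ T) :
    normalizer (X : Set Q) ≠ ⊤ := fun h => by
  haveI := hC.simple
  haveI : X.Normal := normalizer_eq_top_iff.mp h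
  have hn : (X.subgroupOf T).Normal := inferInstance
  rcases hn.eq_bot_or_eq_top with e | e
  · rw [subgroupOf_eq_bot] at e
    exact h1 (disjoint_self.mp (e.mono_right hle))
  · exact h2 (le_antisymm hle (subgroupOf_eq_top.mp e))

theorem cycle (h : Data T V x j) {v : Q} (hv : v ∈ V) (v1 : v ≠ 1) :
    x * v * x⁻¹ ∈ V ∧ x * v * x⁻¹ ≠ 1 ∧ GW66.Pair V v (x * v * x⁻¹) ∧
      x * (x * v * x⁻¹) * x⁻¹ = v * (x * v * x⁻¹) ∧
      x * (v * (x * v * x⁻¹)) * x⁻¹ = v := by
  have hx3 : x ^ 3 = 1 := h.x3 ▸ pow_orderOf_eq_one x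
  have hw := h.xn v hv
  have hw1 : x * v * x⁻¹ ≠ 1 := fun e => v1 (by simpa using e)
  have hp : GW66.Pair V v (x * v * x⁻¹) := ⟨hv, hw, v1, hw1, (h.move v hv v1).symm⟩
  have h3 : x * (x * (x * v * x⁻¹) * x⁻¹) * x⁻¹ = v := by
    calc _ = x ^ 3 * v * (x ^ 3)⁻¹ := by
          simp only [pow_succ, pow_zero, one_mul]; group
      _ = v := by rw [hx3]; group
  have hz : x * (x * v * x⁻¹) * x⁻¹ = v * (x * v * x⁻¹) := by
    rcases GW66.klein_cases h.klein hp (h.xn _ hw) with e | e | e | e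
    · exact absurd (by simpa using e) hw1
    · exact absurd (by rw [e] at h3; exact h3) (h.move v hv v1)
    · exact absurd e (h.move _ hw hw1)
    · exact e
  exact ⟨hw, hw1, hp, hz, hz ▸ h3⟩

theorem eq_one_of_comm (h : Data T V x j) {v : Q} (hv : v ∈ V) (hc : x * v = v * x) : v = 1 := by
  by_contra v1
  exact h.move v hv v1 (mul_inv_eq_iff_eq_mul.mpr hc)

theorem centralizes_of_gen (h : Data T V x j) {g t : Q} (ht : t ∈ V) (t1 : t ≠ 1)
    (hgt : g * t = t * g) (hgw : g * (x * t * x⁻¹) = x * t * x⁻¹ * g) :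
    ∀ v ∈ V, g * v = v * g := fun v hv => by
  have c1 : Commute g t := hgt
  have c2 : Commute g (x * t * x⁻¹) := hgw
  rcases GW66.klein_cases h.klein (cycle h ht t1).2.2.1 hv with rfl | rfl | rfl | rfl
  · rw [one_mul, mul_one]
  · exact c1
  · exact c2
  · exact (c1.mul_right c2).eq

theorem odd_fix (h : Data T V x j) {g t : Q} (hg : ∀ v ∈ V, g * v * g⁻¹ ∈ V)
    (ho : Odd (orderOf g)) (ht : t ∈ V) (t1 : t ≠ 1) (hgt : g * t = t * g) :
    ∀ v ∈ V, g * v = v * g := by
  obtain ⟨hw, hw1, hp, -, -⟩ := cycle h ht t1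
  refine centralizes_of_gen h ht t1 hgt ?_
  set w := x * t * x⁻¹
  have e0 : g * t * g⁻¹ = t := mul_inv_eq_iff_eq_mul.mpr hgt
  obtain ⟨m, hm⟩ := exists_pow_eq_self_of_coprime (x := g) (n := 2)
    (Nat.coprime_two_left.mpr ho)
  suffices h2 : Commute (g ^ 2) w by
    have := h2.pow_left m
    rwa [hm] at this
  show g ^ 2 * w = w * g ^ 2
  refine mul_inv_eq_iff_eq_mul.mp ?_
  have e2 : g ^ 2 * w * (g ^ 2)⁻¹ = g * (g * w * g⁻¹) * g⁻¹ := by rw [pow_two]; group
  rw [e2]
  rcases GW66.klein_cases h.klein hp (hg w hw) with e | e | e | e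
  · exact absurd (by simpa using e) hw1
  · exact absurd ((MulAut.conj g).injective
      (show MulAut.conj g w = MulAut.conj g t by simpa using e.trans e0.symm)) hp.ne.symm
  · rw [e, e]
  · rw [e]
    calc g * (t * w) * g⁻¹ = g * t * g⁻¹ * (g * w * g⁻¹) := by group
      _ = w := by rw [e0, e, ← mul_assoc, GW66.klein_sq h.klein ht, one_mul]

/-- A 2-element normalising `V` centralises it. -/
theorem two_cent (hC : Ctx T) (h : Data T V x j) {a : Q} (ha : ∀ v ∈ V, a * v * a⁻¹ ∈ V) {n : ℕ}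
    (h2 : a ^ 2 ^ n = 1) : ∀ v ∈ V, a * v = v * a := by
  haveI : Fact (Nat.Prime 2) := ⟨Nat.prime_two⟩
  set H := zpowers a ⊔ V with hH
  have hV2 : IsPGroup 2 V := IsPGroup.of_card (n := 2) (by rw [h.klein.card_four]; rfl)
  have hH2 : IsPGroup 2 H := (pgroup_zpowers Nat.prime_two h2).to_sup_of_normal_right' hV2
    (zpowers_le.mpr (GW66.PSL.mem_normalizer_of_forall ha))
  have hHT : H ⊓ T = V := h.syl _ inf_le_right (le_inf le_sup_right h.le) (hH2.to_le inf_le_left)
  have V0 : V ≠ ⊥ := fun e => by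
    have := h.klein.card_four
    rw [e, card_bot] at this
    omega
  have H0 : H ≠ ⊥ := fun e => V0 (le_bot_iff.mp (e ▸ le_sup_right))
  have hco := hC.max H H0 (TwoPrimes.of_isPGroup hH2)
  have hle : normalizer (H : Set Q) ≤ normalizer (V : Set Q) := by
    have := normalizer_le_inf hC.normal H
    rwa [hHT] at this
  have hne : normalizer (V : Set Q) ≠ ⊤ := normalizer_ne_top hC h.le V0 (fun e => by
    have hc := h.card
    rw [← e, h.klein.card_four] at hc
    omega)
  have heq := eq_of_coatom hco hle hne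
  have hxH : x ∈ normalizer (H : Set Q) := heq.symm ▸ GW66.PSL.mem_normalizer_of_forall h.xn
  have haH : a ∈ H := mem_sup_left (mem_zpowers a)
  have hc : x * a * x⁻¹ * a⁻¹ ∈ V := by
    rw [← hHT]
    refine Subgroup.mem_inf.mpr ⟨mul_mem ((mem_normalizer_iff.mp hxH a).mp haH) (inv_mem haH), ?_⟩
    rw [show x * a * x⁻¹ * a⁻¹ = x * (a * x⁻¹ * a⁻¹) by group]
    exact mul_mem h.xT (hC.normal.conj_mem _ (inv_mem h.xT) a)
  have key : ∀ s ∈ V, a * (x * s * x⁻¹) * a⁻¹ = x * (a * s * a⁻¹) * x⁻¹ := fun s hs => by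
    set c := x * a * x⁻¹ * a⁻¹
    have hw := h.xn s hs
    have e1 : x * (a * s * a⁻¹) * x⁻¹ = c * (a * (x * s * x⁻¹) * a⁻¹) * c⁻¹ := by
      simp only [c]; group
    rw [e1, GW66.klein_comm h.klein hc (ha _ hw), mul_inv_cancel_right]
  have cube : ∀ t ∈ V, t ≠ 1 → Commute (a ^ 3) t := fun t ht t1 => by
    obtain ⟨hw, hw1, hp, hz, hzt⟩ := cycle h ht t1
    refine mul_inv_eq_iff_eq_mul.mp ?_
    rw [show a ^ 3 * t * (a ^ 3)⁻¹ = a * (a * (a * t * a⁻¹) * a⁻¹) * a⁻¹ by
      simp only [pow_succ, pow_zero, one_mul]; group]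
    rcases GW66.klein_cases h.klein hp (ha t ht) with e | e | e | e
    · exact absurd (by simpa using e) t1
    · simp only [e]
    · have e2 : a * (x * t * x⁻¹) * a⁻¹ = t * (x * t * x⁻¹) := by rw [key t ht, e, hz]
      have e3 : a * (t * (x * t * x⁻¹)) * a⁻¹ = t := by
        rw [← hz, key _ hw, e2, hzt]
      rw [e, e2, e3]
    · have e2 : a * (x * t * x⁻¹) * a⁻¹ = t := by rw [key t ht, e, hzt]
      have e3 : a * (t * (x * t * x⁻¹)) * a⁻¹ = x * t * x⁻¹ := by
        rw [← hz, key _ hw, e2]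
      rw [e, e3, e2]
  intro v hv
  by_cases v1 : v = 1
  · rw [v1, one_mul, mul_one]
  obtain ⟨i, -, hi⟩ := (Nat.dvd_prime_pow Nat.prime_two).mp (orderOf_dvd_of_pow_eq_one h2)
  obtain ⟨m, hm⟩ := exists_pow_eq_self_of_coprime (x := a) (n := 3)
    (hi ▸ Nat.Coprime.pow_right i (by norm_num))
  have := (cube v hv v1).pow_left m
  rw [hm] at this
  exact this

/-- No 2-element outside `T` centralises `V`. -/
theorem no_two (hC : Ctx T) (h : Data T V x j) {a : Q} (haV : ∀ v ∈ V, a * v = v * a) (haT : a ∉ T)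
    {n : ℕ} (h2 : a ^ 2 ^ n = 1) : False := by
  haveI : Fact (Nat.Prime 2) := ⟨Nat.prime_two⟩
  haveI : Fact (Nat.Prime 3) := ⟨Nat.prime_three⟩
  -- arrange that `a` commutes with `x`
  obtain ⟨b, hb2, hbV, hbT, hbx⟩ : ∃ b : Q, b ^ 2 ^ (n + 1) = 1 ∧ (∀ v ∈ V, b * v = v * b) ∧
      b ∉ T ∧ x * b = b * x := by
    have hx' : ∀ v ∈ V, x⁻¹ * v * x ∈ V := fun v hv => by
      have hn := GW66.PSL.mem_normalizer_of_forall h.xn
      exact (mem_normalizer_iff''.mp hn v).mp hv
    set c := x * a * x⁻¹ * a⁻¹ with hc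
    have hcV : c ∈ V := by
      refine h.self c ?_ fun v hv => ?_
      · rw [hc, show x * a * x⁻¹ * a⁻¹ = x * (a * x⁻¹ * a⁻¹) by group]
        exact mul_mem h.xT (hC.normal.conj_mem _ (inv_mem h.xT) a)
      · have c1 : Commute a⁻¹ v := Commute.inv_left (haV v hv)
        have c2 : Commute (x * a * x⁻¹) v := by
          show x * a * x⁻¹ * v = v * (x * a * x⁻¹)
          calc x * a * x⁻¹ * v = x * (a * (x⁻¹ * v * x)) * x⁻¹ := by group
            _ = x * ((x⁻¹ * v * x) * a) * x⁻¹ := by rw [haV _ (hx' v hv)]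
            _ = v * (x * a * x⁻¹) := by group
        exact (c2.mul_left c1).eq
    have hmk : ∀ w ∈ V, x * (a * w) = a * w * x → ∃ b : Q, b ^ 2 ^ (n + 1) = 1 ∧
        (∀ v ∈ V, b * v = v * b) ∧ b ∉ T ∧ x * b = b * x := fun w hw hx => by
      refine ⟨a * w, ?_, fun v hv => ?_, fun hh => haT ?_, hx⟩
      · rw [(show Commute a w from haV w hw).mul_pow, pow_succ, pow_mul, h2, one_pow, one_mul,
          mul_comm, pow_mul, pow_two, GW66.klein_sq h.klein hw, one_pow]
      · exact (Commute.mul_left (haV v hv) (GW66.klein_comm h.klein hw hv)).eq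
      · have := mul_mem hh (inv_mem (h.le hw))
        rwa [mul_inv_cancel_right] at this
    have hxa : x * a = c * a * x := by rw [hc]; group
    by_cases c1 : c = 1
    · exact hmk 1 (one_mem _) (by rw [mul_one, hxa, c1, one_mul])
    · obtain ⟨hw, -, -, hz, -⟩ := cycle h hcV c1
      refine hmk _ hw ?_
      set w := x * c * x⁻¹
      have hxw : x * w = c * w * x := mul_inv_eq_iff_eq_mul.mp hz
      calc x * (a * w) = c * a * (x * w) := by rw [← mul_assoc, hxa]; group
        _ = c * (a * c) * w * x := by rw [hxw]; group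
        _ = c * (c * a) * w * x := by rw [haV c hcV]
        _ = a * w * x := by rw [← mul_assoc c c a, GW66.klein_sq h.klein hcV, one_mul]
  set X := zpowers x
  set A := zpowers b with hA
  set H := X ⊔ A
  have hX3 : IsPGroup 3 X := IsPGroup.of_card (n := 1) (by rw [Nat.card_zpowers, h.x3, pow_one])
  have hA2 : IsPGroup 2 A := pgroup_zpowers Nat.prime_two hb2
  have hcomm : ∀ i : ℤ, Commute x (b ^ i) := fun i => (show Commute x b from hbx).zpow_right i
  have hXA : X ≤ normalizer (A : Set Q) := zpowers_le.mpr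
    (GW66.PSL.mem_normalizer_of_forall fun y hy => by
      obtain ⟨i, rfl⟩ := mem_zpowers_iff.mp hy
      rw [(hcomm i).eq, mul_inv_cancel_right]
      exact hy)
  have hmem : ∀ y ∈ H, ∃ i k : ℤ, y = x ^ i * b ^ k := fun y hy => by
    have := coe_mul_of_left_le_normalizer_right X A hXA
    obtain ⟨y1, h1, y2, hy2, rfl⟩ := (this ▸ hy : y ∈ (X : Set Q) * (A : Set Q))
    obtain ⟨i, rfl⟩ := mem_zpowers_iff.mp h1
    obtain ⟨k, rfl⟩ := mem_zpowers_iff.mp hy2
    exact ⟨i, k, rfl⟩
  have hAT : ∀ i : ℤ, b ^ i ∈ T → b ^ i = 1 := fun i hi =>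
    eq_one_of_comm h (h.self _ hi fun v hv => ((show Commute b v from hbV v hv).zpow_left i).eq)
      (hcomm i).eq
  have hHT : H ⊓ T = X := by
    refine le_antisymm ?_ (le_inf le_sup_left (zpowers_le.mpr h.xT))
    rintro y ⟨hy, hyT⟩
    obtain ⟨i, k, rfl⟩ := hmem y hy
    have hk := hAT k ((Subgroup.mul_mem_cancel_left T (zpow_mem h.xT i)).mp hyT)
    rw [hk, mul_one]
    exact zpow_mem (mem_zpowers x) i
  have hX0 : X ≠ ⊥ := fun e => by
    have := h.x3
    rw [zpowers_eq_bot.mp e, orderOf_one] at this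
    omega
  have hco := hC.max H (fun e => hX0 (le_bot_iff.mp (e ▸ le_sup_left)))
    (TwoPrimes.of_sup hX3 hA2 hXA)
  have eX : normalizer (H : Set Q) = normalizer (X : Set Q) := by
    refine eq_of_coatom hco ?_ (normalizer_ne_top hC (zpowers_le.mpr h.xT) hX0 fun e => ?_)
    · have := normalizer_le_inf hC.normal H
      rwa [hHT] at this
    · have hc := h.card
      rw [← e, Nat.card_zpowers, h.x3] at hc
      omega
  have eA : normalizer (H : Set Q) = normalizer (A : Set Q) := by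
    refine eq_of_coatom hco (fun g hg => GW66.PSL.mem_normalizer_of_forall fun y hy => ?_) fun e => ?_
    · obtain ⟨i, k, he⟩ := hmem _ ((mem_normalizer_iff.mp hg y).mp (mem_sup_right hy))
      obtain ⟨l, rfl⟩ := mem_zpowers_iff.mp hy
      rw [he]
      suffices hi : x ^ i = 1 by
        rw [hi, one_mul]
        exact zpow_mem (mem_zpowers b) k
      have hb : ∀ r : ℤ, (b ^ r) ^ 2 ^ (n + 1) = 1 := fun r => by
        rw [← zpow_natCast, ← zpow_mul, mul_comm, zpow_mul, zpow_natCast, hb2, one_zpow]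
      have hy1 : (g * b ^ l * g⁻¹) ^ 2 ^ (n + 1) = 1 := by
        rw [conj_pow, hb, mul_one, mul_inv_cancel]
      rw [he, ((hcomm k).zpow_left i).mul_pow, hb, mul_one] at hy1
      have d2 := orderOf_dvd_of_pow_eq_one hy1
      have d3 : orderOf (x ^ i) ∣ 3 := h.x3 ▸ orderOf_dvd_of_pow_eq_one (by
        rw [← zpow_natCast, ← zpow_mul, mul_comm, zpow_mul, zpow_natCast, pow_orderOf_eq_one, one_zpow])
      have := Nat.dvd_gcd d3 d2
      rw [Nat.Coprime.gcd_eq_one (Nat.Coprime.pow_right _ (by norm_num))] at this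
      exact orderOf_eq_one_iff.mp (Nat.dvd_one.mp this)
    · -- otherwise `b` centralises `T`
      haveI hn : A.Normal := normalizer_eq_top_iff.mp e
      have hb : b ∈ centralizer (T : Set Q) := mem_centralizer_iff.mpr fun s hs => by
        have hsA : s * b * s⁻¹ * b⁻¹ ∈ A :=
          mul_mem (hn.conj_mem b (mem_zpowers b) s) (inv_mem (mem_zpowers b))
        obtain ⟨i, hi⟩ := mem_zpowers_iff.mp hsA
        have hsT : b ^ i ∈ T := by
          rw [hi, show s * b * s⁻¹ * b⁻¹ = s * (b * s⁻¹ * b⁻¹) by group]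
          exact mul_mem hs (hC.normal.conj_mem _ (inv_mem hs) b)
        rw [hAT i hsT] at hi
        exact mul_inv_eq_iff_eq_mul.mp (mul_inv_eq_one.mp hi.symm)
      rw [hC.cent, mem_bot] at hb
      exact hbT (hb ▸ one_mem T)
  -- `V` normalises `X`
  obtain ⟨v, hv, v1⟩ : ∃ v ∈ V, v ≠ 1 := by
    by_contra hcon
    push Not at hcon
    have := h.klein.card_four
    rw [(eq_bot_iff_forall V).mpr hcon, card_bot] at this
    omega
  have hvA : v ∈ normalizer (A : Set Q) := GW66.PSL.mem_normalizer_of_forall fun y hy => by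
    obtain ⟨i, rfl⟩ := mem_zpowers_iff.mp hy
    rw [← ((show Commute b v from hbV v hv).zpow_left i).eq, mul_inv_cancel_right]
    exact hy
  rw [← eA, eX] at hvA
  have h1 : x * v * x⁻¹ * v⁻¹ ∈ X := by
    rw [show x * v * x⁻¹ * v⁻¹ = x * (v * x⁻¹ * v⁻¹) by group]
    exact mul_mem (mem_zpowers x) ((mem_normalizer_iff.mp hvA _).mp (inv_mem (mem_zpowers x)))
  have h1V : x * v * x⁻¹ * v⁻¹ ∈ V := mul_mem (h.xn v hv) (inv_mem hv)
  have d1 : orderOf (x * v * x⁻¹ * v⁻¹) ∣ 3 :=
    h.x3 ▸ (Nat.card_zpowers x) ▸ Subgroup.orderOf_dvd_natCard X h1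
  have d2 : orderOf (x * v * x⁻¹ * v⁻¹) ∣ 4 :=
    h.klein.card_four ▸ Subgroup.orderOf_dvd_natCard V h1V
  have := Nat.dvd_gcd d1 d2
  exact h.move v hv v1 (mul_inv_eq_one.mp (orderOf_eq_one_iff.mp (Nat.dvd_one.mp this)))

/-- An element of odd order centralising `V` is trivial. -/
theorem odd_triv (hC : Ctx T) (h : Data T V x j) {a : Q} (haV : ∀ v ∈ V, a * v = v * a)
    (ho : Odd (orderOf a)) : a = 1 := by
  obtain ⟨m, hm⟩ := exists_pow_eq_self_of_coprime (x := a) (n := 2) (Nat.coprime_two_left.mpr ho)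
  have hsq : ∀ y, Commute (a ^ 2) y → Commute a y := fun y hy => by
    have := hy.pow_left m
    rwa [hm] at this
  have hax : Commute a x := hsq x (by
    set c := a * x * a⁻¹ * x⁻¹ with hc
    have hcV : c ∈ V := by
      refine h.self c (mul_mem (hC.normal.conj_mem x h.xT a) (inv_mem h.xT)) fun v hv => ?_
      have hx' : x⁻¹ * v * x ∈ V :=
        (mem_normalizer_iff''.mp (GW66.PSL.mem_normalizer_of_forall h.xn) v).mp hv
      calc c * v = a * x * (a⁻¹ * (x⁻¹ * v * x)) * x⁻¹ := by rw [hc]; group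
        _ = a * x * ((x⁻¹ * v * x) * a⁻¹) * x⁻¹ := by
          rw [(show Commute a _ from haV _ hx').inv_left.eq]
        _ = a * v * (x * a⁻¹ * x⁻¹) := by group
        _ = v * a * (x * a⁻¹ * x⁻¹) := by rw [haV v hv]
        _ = v * c := by rw [hc]; group
    have e : a * x = c * x * a := by rw [hc]; group
    show a ^ 2 * x = x * a ^ 2
    calc a ^ 2 * x = a * (a * x) := by rw [pow_two]; group
      _ = (a * c) * x * a := by rw [e]; group
      _ = c * (a * x) * a := by rw [haV c hcV]; group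
      _ = (c * c) * x * a * a := by rw [e]; group
      _ = x * a ^ 2 := by rw [GW66.klein_sq h.klein hcV, pow_two]; group)
  -- a four-group element and its torus
  obtain ⟨t, ht, t1⟩ : ∃ t ∈ V, t ≠ 1 := by
    by_contra hcon
    push Not at hcon
    have := h.klein.card_four
    rw [(eq_bot_iff_forall V).mpr hcon, card_bot] at this
    omega
  obtain ⟨K, hKT, hK3, hK⟩ := h.tor t ht t1
  haveI : Fact (Nat.Prime 3) := ⟨Nat.prime_three⟩
  haveI : Fact (Nat.Prime 2) := ⟨Nat.prime_two⟩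
  have hKa : ∀ y ∈ K, a * y = y * a := fun y hy => by
    by_cases y1 : y = 1
    · rw [y1, mul_one, one_mul]
    have hyo : orderOf y = 3 := by
      rcases (Nat.dvd_prime Nat.prime_three).mp (hK3 ▸ Subgroup.orderOf_dvd_natCard K hy) with e | e
      · exact absurd (orderOf_eq_one_iff.mp e) y1
      · exact e
    have hzK : zpowers y = K := eq_of_le_of_card_ge (zpowers_le.mpr hy)
      (by rw [Nat.card_zpowers, hyo, hK3])
    have hat : Commute a t := haV t ht
    have hy' : a * y * a⁻¹ ∈ K := by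
      obtain ⟨hyT, hyodd, hyt⟩ := (hK y).mp hy
      refine (hK _).mpr ⟨hC.normal.conj_mem y hyT a, ?_, ?_⟩
      · rw [show a * y * a⁻¹ = MulAut.conj a y from rfl, MulEquiv.orderOf_eq]; exact hyodd
      · exact ((hat.mul_left (show Commute y t from hyt)).mul_left hat.inv_left).eq
    have hy3 : y ^ 3 = 1 := hyo ▸ pow_orderOf_eq_one y
    rw [← hzK] at hy'
    classical
    obtain ⟨i, hi, hi'⟩ : ∃ i : ℕ, i < 3 ∧ y ^ i = a * y * a⁻¹ := by
      rw [mem_zpowers_iff_mem_range_orderOf, hyo, Finset.mem_image] at hy'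
      obtain ⟨i, hi, hi'⟩ := hy'
      exact ⟨i, Finset.mem_range.mp hi, hi'⟩
    interval_cases i
    · exact absurd (by simpa using hi'.symm) y1
    · rw [pow_one] at hi'
      exact mul_inv_eq_iff_eq_mul.mp hi'.symm
    · refine (hsq y (mul_inv_eq_iff_eq_mul.mp ?_)).eq
      calc a ^ 2 * y * (a ^ 2)⁻¹ = a * (a * y * a⁻¹) * a⁻¹ := by rw [pow_two]; group
        _ = a * y ^ 2 * a⁻¹ := by rw [hi']
        _ = (a * y * a⁻¹) ^ 2 := conj_pow.symm
        _ = y ^ 3 * y := by rw [← hi', ← pow_mul, ← pow_succ]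
        _ = y := by rw [hy3, one_mul]
  -- the centraliser of `a` in `T`
  set L := centralizer ({a} : Set Q) ⊓ T with hL
  have hVL : V ≤ L := le_inf (fun v hv => mem_centralizer_singleton_iff.mpr (haV v hv).symm) h.le
  have hKL : K ≤ L := le_inf (fun y hy => mem_centralizer_singleton_iff.mpr (hKa y hy).symm) hKT
  have hxL : x ∈ L := ⟨mem_centralizer_singleton_iff.mpr hax.eq.symm, h.xT⟩
  have h12 : 12 ∣ Nat.card L := by
    have h4 := card_dvd_of_le hVL
    have h3 := card_dvd_of_le hKL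
    rw [h.klein.card_four] at h4
    rw [hK3] at h3
    exact Nat.Coprime.mul_dvd_of_dvd_of_dvd (by norm_num : Nat.Coprime 4 3) h4 h3
  obtain ⟨k, hk⟩ := h12
  have hkj : k ∣ j := Nat.dvd_of_mul_dvd_mul_left (by norm_num : 0 < 12)
    (hk ▸ h.card ▸ card_dvd_of_le (inf_le_right : L ≤ T))
  suffices hkj' : k = j by
    have hLT : L = T := eq_of_le_of_card_ge inf_le_right (by rw [h.card, hk, hkj'])
    have : a ∈ centralizer (T : Set Q) := mem_centralizer_iff.mpr fun s hs => by
      have : s ∈ L := hLT.symm ▸ hs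
      exact mem_centralizer_singleton_iff.mp this.1
    rwa [hC.cent, mem_bot] at this
  have hj3 : ¬ 3 ∣ j := by rcases h.hj with rfl | rfl <;> norm_num
  have hk3 : ¬ 3 ∣ k := fun hh => hj3 (hh.trans hkj)
  -- Sylow 3-subgroups of `L`
  set K' := K.subgroupOf L with hK'
  have hK'c : Nat.card K' = 3 := by rw [Nat.card_congr (subgroupOfEquivOfLe hKL).toEquiv, hK3]
  have hK'i : K'.index = 4 * k := by
    have := K'.card_mul_index
    rw [hK'c, hk] at this
    omega
  have hK'p : IsPGroup 3 K' := IsPGroup.of_card (n := 1) (by rw [hK'c, pow_one])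
  have hK'2 : ¬ 3 ∣ K'.index := by
    rw [hK'i]
    exact fun hh => hk3 ((Nat.Coprime.dvd_mul_left (by norm_num : Nat.Coprime 3 4)).mp hh)
  let P : Sylow 3 L := hK'p.toSylow hK'2
  have hcoe : (P : Subgroup L) = K' := IsPGroup.toSylow_coe hK'p hK'2
  have hn3 : Nat.card (Sylow 3 L) ∣ k := by
    rw [P.card_eq_index_normalizer]
    show (normalizer ((P : Subgroup L) : Set L)).index ∣ k
    rw [hcoe]
    set N := normalizer (K' : Set L) with hN
    have hVN : V.subgroupOf L ≤ N := fun v hv =>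
      GW66.PSL.mem_normalizer_of_forall fun y hy => by
        rw [hK', mem_subgroupOf] at hy ⊢
        rw [mem_subgroupOf] at hv
        obtain ⟨hyT, hyodd, hyt⟩ := (hK _).mp hy
        push_cast
        refine (hK _).mpr ⟨mul_mem (mul_mem (h.le hv) hyT) (inv_mem (h.le hv)), ?_, ?_⟩
        · rw [show (v : Q) * y * (v : Q)⁻¹ = MulAut.conj (v : Q) y from rfl, MulEquiv.orderOf_eq]
          exact hyodd
        · have hvt : Commute (v : Q) t := GW66.klein_comm h.klein hv ht
          exact ((hvt.mul_left (show Commute (y : Q) t from hyt)).mul_left hvt.inv_left).eq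
    have h4 := card_dvd_of_le hVN
    rw [Nat.card_congr (subgroupOfEquivOfLe hVL).toEquiv, h.klein.card_four] at h4
    have h3 := card_dvd_of_le (le_normalizer : K' ≤ N)
    rw [hK'c] at h3
    obtain ⟨l, hl⟩ := Nat.Coprime.mul_dvd_of_dvd_of_dvd (by norm_num : Nat.Coprime 4 3) h4 h3
    refine ⟨l, ?_⟩
    have := N.card_mul_index
    rw [hl, hk, mul_assoc] at this
    rw [mul_comm]
    exact (Nat.eq_of_mul_eq_mul_left (by norm_num) this).symm
  have hmod : Nat.card (Sylow 3 L) ≡ 1 [MOD 3] := card_sylow_modEq_one 3 L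
  have hne1 : Nat.card (Sylow 3 L) ≠ 1 := fun h1 => by
    haveI : Subsingleton (Sylow 3 L) := (Nat.card_eq_one_iff_unique.mp h1).1
    have hXp : IsPGroup 3 (zpowers (⟨x, hxL⟩ : L)) :=
      IsPGroup.of_card (n := 1) (by rw [Nat.card_zpowers, Subgroup.orderOf_mk, h.x3, pow_one])
    obtain ⟨P', hP'⟩ := hXp.exists_le_sylow
    rw [Subsingleton.elim P' P, hcoe] at hP'
    have hxK : x ∈ K := mem_subgroupOf.mp (hP' (mem_zpowers (⟨x, hxL⟩ : L)))
    exact t1 (eq_one_of_comm h ht ((hK x).mp hxK).2.2)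
  have hprime : ∀ p : ℕ, p.Prime → k = p → 5 ≤ p → ¬ p ∣ 12 →
      (∀ n ∈ Nat.divisors 12, n % p = 1 → n = 1) → False := by
    intro p hp hkp hp5 hp12 hdiv
    haveI := Fact.mk hp
    obtain ⟨y, hy⟩ := exists_prime_orderOf_dvd_card' (G := L) p (hk ▸ hkp ▸ dvd_mul_left k 12)
    set Y := zpowers y with hY
    have hYc : Nat.card Y = p := by rw [hY, Nat.card_zpowers, hy]
    have hYi : Y.index = 12 := by
      have := Y.card_mul_index
      rw [hYc, hk, hkp, mul_comm 12 p] at this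
      exact Nat.eq_of_mul_eq_mul_left hp.pos this
    have hYp : IsPGroup p Y := IsPGroup.of_card (n := 1) (by rw [hYc, pow_one])
    let S : Sylow p L := hYp.toSylow (hYi ▸ hp12)
    have hS : (S : Subgroup L) = Y := IsPGroup.toSylow_coe hYp _
    have hd : Nat.card (Sylow p L) ∣ 12 := by
      have := S.card_dvd_index
      rwa [hS, hYi] at this
    have h1 : Nat.card (Sylow p L) = 1 := hdiv _ (Nat.mem_divisors.mpr ⟨hd, by norm_num⟩) (by
      have := card_sylow_modEq_one p L
      rwa [Nat.ModEq, Nat.mod_eq_of_lt hp.one_lt] at this)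
    rw [S.card_eq_index_normalizer] at h1
    change (normalizer ((S : Subgroup L) : Set L)).index = 1 at h1
    rw [hS, index_eq_one] at h1
    haveI : Y.Normal := normalizer_eq_top_iff.mp h1
    haveI : IsCyclic Y := inferInstance
    set φ : L →* MulAut Y := MulAut.conjNormal
    have hcomm : ∀ g g' : MulAut Y, g * g' = g' * g := fun g g' =>
      (IsCyclic.mulAutMulEquiv Y).injective (by rw [map_mul, map_mul, mul_comm])
    have hyV : (y : Q) ∈ V := by
      refine h.self _ y.2.2 fun v hv => ?_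
      by_cases v1 : v = 1
      · rw [v1, one_mul, mul_one]
      obtain ⟨hw, -, -, hz, -⟩ := cycle h hv v1
      set W : L := ⟨x * v * x⁻¹, hVL hw⟩ with hW
      set X : L := ⟨x, hxL⟩
      have hv' : (⟨v, hVL hv⟩ : L) = W * (X * W * X⁻¹) := by
        ext
        show v = x * v * x⁻¹ * (x * (x * v * x⁻¹) * x⁻¹)
        rw [hz, GW66.klein_comm h.klein hv hw, ← mul_assoc, GW66.klein_sq h.klein hw, one_mul]
      have hWW : W * W = 1 := Subtype.ext (GW66.klein_sq h.klein hw)
      have hφ : φ ⟨v, hVL hv⟩ = 1 := by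
        rw [hv', map_mul, map_mul, map_mul, map_inv, hcomm (φ X) (φ W), mul_inv_cancel_right,
          ← map_mul, hWW, map_one]
      have := congrArg (fun f : MulAut Y => ((f ⟨y, mem_zpowers y⟩ : Y) : L)) hφ
      simp only [φ, MulAut.conjNormal_apply, MulAut.one_apply] at this
      have e := congrArg Subtype.val (mul_inv_eq_iff_eq_mul.mp this)
      exact e.symm
    have := Subgroup.orderOf_dvd_natCard V hyV
    rw [Subgroup.orderOf_coe, hy, h.klein.card_four] at this
    exact absurd (Nat.le_of_dvd (by norm_num) this) (by omega)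
  have hkd : k ∈ Nat.divisors j := Nat.mem_divisors.mpr ⟨hkj, by rcases h.hj with rfl | rfl <;> norm_num⟩
  set N := Nat.card (Sylow 3 L)
  have hNd : N ∈ Nat.divisors k := Nat.mem_divisors.mpr ⟨hn3, fun e => hk3 (e ▸ dvd_zero 3)⟩
  rw [Nat.ModEq] at hmod
  rcases h.hj with rfl | rfl
  · rw [show Nat.divisors 55 = {1, 5, 11, 55} by decide] at hkd
    simp only [Finset.mem_insert, Finset.mem_singleton] at hkd
    rcases hkd with rfl | rfl | rfl | rfl
    · simp_all
    · rw [show Nat.divisors 5 = {1, 5} by decide] at hNd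
      simp only [Finset.mem_insert, Finset.mem_singleton] at hNd
      omega
    · rw [show Nat.divisors 11 = {1, 11} by decide] at hNd
      simp only [Finset.mem_insert, Finset.mem_singleton] at hNd
      omega
    · rfl
  · rw [show Nat.divisors 91 = {1, 7, 13, 91} by decide] at hkd
    simp only [Finset.mem_insert, Finset.mem_singleton] at hkd
    rcases hkd with rfl | rfl | rfl | rfl
    · simp_all
    · exact (hprime 7 (by norm_num) rfl (by norm_num) (by norm_num) (by decide)).elim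
    · exact (hprime 13 (by norm_num) rfl (by norm_num) (by norm_num) (by decide)).elim
    · rfl

/-- Nothing lies outside `T`. -/
theorem eq_top (hC : Ctx T) (h : Data T V x j) (P : Sylow 2 T)
    (hP : (P : Subgroup T).map T.subtype = V) : T = ⊤ := by
  haveI : Fact (Nat.Prime 2) := ⟨Nat.prime_two⟩
  haveI := hC.normal
  by_contra hT
  obtain ⟨g, hg, hgT⟩ : ∃ g ∈ normalizer (V : Set Q), g ∉ T := by
    by_contra hcon
    push Not at hcon
    have := Sylow.normalizer_sup_eq_top P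
    rw [hP, sup_eq_right.mpr hcon] at this
    exact hT this
  obtain ⟨t, ht, t1⟩ : ∃ t ∈ V, t ≠ 1 := by
    by_contra hcon
    push Not at hcon
    have := h.klein.card_four
    rw [(eq_bot_iff_forall V).mpr hcon, card_bot] at this
    omega
  obtain ⟨hw, -, hp, hz, hzt⟩ := cycle h ht t1
  have hxn : x ∈ normalizer (V : Set Q) := GW66.PSL.mem_normalizer_of_forall h.xn
  obtain ⟨f, hf, hfT, hft⟩ : ∃ f ∈ normalizer (V : Set Q), f ∈ T ∧ f * t * f⁻¹ = g * t * g⁻¹ := by
    rcases GW66.klein_cases h.klein hp ((mem_normalizer_iff.mp hg t).mp ht) with e | e | e | e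
    · exact absurd (by simpa using e) t1
    · exact ⟨1, one_mem _, one_mem _, by rw [e]; group⟩
    · exact ⟨x, hxn, h.xT, e.symm⟩
    · exact ⟨x * x, mul_mem hxn hxn, mul_mem h.xT h.xT, by rw [e, ← hz]; group⟩
  set u := f⁻¹ * g with hu
  have hun : u ∈ normalizer (V : Set Q) := mul_mem (inv_mem hf) hg
  have huT : u ∉ T := fun hh => hgT (by
    have := mul_mem hfT hh
    rwa [hu, mul_inv_cancel_left] at this)
  have hut : Commute u t := by
    refine mul_inv_eq_iff_eq_mul.mp ?_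
    calc u * t * u⁻¹ = f⁻¹ * (g * t * g⁻¹) * f := by rw [hu]; group
      _ = t := by rw [← hft]; group
  obtain ⟨k, m, hm, hord⟩ := Nat.exists_eq_two_pow_mul_odd (orderOf_pos u).ne'
  have hconj : ∀ i : ℕ, ∀ v ∈ V, u ^ i * v * (u ^ i)⁻¹ ∈ V := fun i v hv =>
    (mem_normalizer_iff.mp (pow_mem hun i) v).mp hv
  have h1 : u ^ m ∈ T := by
    by_contra hh
    have h2 : (u ^ m) ^ 2 ^ k = 1 := by rw [← pow_mul, mul_comm, ← hord, pow_orderOf_eq_one]
    exact no_two hC h (two_cent hC h (hconj m) h2) hh h2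
  have h2 : u ^ 2 ^ k ∈ T := by
    have ho : Odd (orderOf (u ^ 2 ^ k)) := by
      rw [orderOf_pow, hord, Nat.gcd_mul_right_left, Nat.mul_div_cancel_left _ (pow_pos two_pos k)]
      exact hm
    rw [odd_triv hC h (odd_fix h (hconj _) ho ht t1 (hut.pow_left _).eq) ho]
    exact one_mem _
  refine huT ?_
  have hco : Nat.Coprime m (2 ^ k) := Nat.Coprime.pow_right k hm.coprime_two_right
  have e := Nat.gcd_eq_gcd_ab m (2 ^ k)
  rw [hco.gcd_eq_one] at e
  have : u = (u ^ m) ^ Nat.gcdA m (2 ^ k) * (u ^ 2 ^ k) ^ Nat.gcdB m (2 ^ k) := by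
    rw [← zpow_natCast u m, ← zpow_natCast u (2 ^ k), ← zpow_mul, ← zpow_mul, ← zpow_add, ← e]
    simp
  rw [this]
  exact mul_mem (zpow_mem h1 _) (zpow_mem h2 _)

theorem klein_map {A B : Type*} [Group A] [Group B] (f : A →* B) (hf : Function.Injective f)
    {W : Subgroup A} (hW : IsKleinFour W) : IsKleinFour (W.map f) :=
  let e := W.equivMapOfInjective f hf
  ⟨(Nat.card_congr e.toEquiv).symm.trans hW.card_four,
    (Monoid.exponent_eq_of_mulEquiv e).symm.trans hW.exponent_two⟩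

theorem data_of_psl {F : Type} [Field F] [Fintype F] (hq : Fintype.card F = 11 ∨ Fintype.card F = 13)
    (e : T ≃* Matrix.ProjectiveSpecialLinearGroup (Fin 2) F) :
    ∃ (P : Sylow 2 T) (V : Subgroup Q) (x : Q) (j : ℕ),
      (P : Subgroup T).map T.subtype = V ∧ Data T V x j := by
  haveI : Fact (Nat.Prime 2) := ⟨Nat.prime_two⟩
  have hF : Fintype.card F % 8 = 3 ∨ Fintype.card F % 8 = 5 := by omega
  have hhalf : GW66.PSL.half (Fintype.card F) = 3 := by
    rcases hq with h | h <;> rw [h] <;> rfl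
  let P : Sylow 2 T := default
  have hVF : IsKleinFour ((P : Subgroup T).map e.toMonoidHom) := by
    exact Classical10.isKleinFour_sylow_PSL rfl hF (P.mapSurjective (f := e.toMonoidHom) e.surjective)
  have hV0 : IsKleinFour (P : Subgroup T) := by
    have := klein_map e.symm.toMonoidHom e.symm.injective hVF
    rwa [Subgroup.map_map, show e.symm.toMonoidHom.comp e.toMonoidHom = MonoidHom.id T from
      MonoidHom.ext e.symm_apply_apply, Subgroup.map_id] at this
  have kf := GW66.pslFacts T F hF ⟨e⟩ _ hV0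
  -- an element of order three
  obtain ⟨r, hr, hrc⟩ := kf.rot
  obtain ⟨k, m, hm, hord⟩ := Nat.exists_eq_two_pow_mul_odd (orderOf_pos r).ne'
  set y := r ^ 2 ^ k with hy
  have hyn : y ∈ normalizer ((P : Subgroup T) : Set T) := pow_mem hr _
  have hyo : Odd (orderOf y) := by
    rw [hy, orderOf_pow, hord, Nat.gcd_mul_right_left, Nat.mul_div_cancel_left _ (pow_pos two_pos k)]
    exact hm
  have hyc : y ∉ centralizer ((P : Subgroup T) : Set T) := fun hc => hrc (by
    have h1 : r ^ m ∈ centralizer ((P : Subgroup T) : Set T) :=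
      GW66.le_centralizer_self hV0 (GW66.mem_of_two_elem hV0 kf.sylow (pow_mem hr m) (k := k)
        (orderOf_dvd_of_pow_eq_one (by rw [← pow_mul, mul_comm, ← hord, pow_orderOf_eq_one])))
    have hco : Nat.Coprime m (2 ^ k) := Nat.Coprime.pow_right k hm.coprime_two_right
    have e := Nat.gcd_eq_gcd_ab m (2 ^ k)
    rw [hco.gcd_eq_one] at e
    have : r = (r ^ m) ^ Nat.gcdA m (2 ^ k) * (r ^ 2 ^ k) ^ Nat.gcdB m (2 ^ k) := by
      rw [← zpow_natCast r m, ← zpow_natCast r (2 ^ k), ← zpow_mul, ← zpow_mul, ← zpow_add, ← e]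
      simp
    rw [this]
    exact mul_mem (zpow_mem h1 _) (zpow_mem hc _))
  have hymove : ∀ v ∈ (P : Subgroup T), v ≠ 1 → y * v * y⁻¹ ≠ v := fun v hv v1 e =>
    hyc (GW66.centralizes_of_fix hV0 kf.sylow hyn hv v1 (mul_inv_eq_iff_eq_mul.mp e))
  have hy3 : orderOf y = 3 := by
    haveI : Fact (Nat.Prime 3) := ⟨Nat.prime_three⟩
    refine orderOf_eq_prime ?_ fun h1 => hyc (h1 ▸ one_mem _)
    have h3 : y ^ 3 ∈ (P : Subgroup T) := by
      rw [← kf.self]
      refine mem_centralizer_iff.mpr fun v hv => ?_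
      by_cases v1 : v = 1
      · rw [v1, one_mul, mul_one]
      have hw := (mem_normalizer_iff.mp hyn v).mp hv
      have hw1 : y * v * y⁻¹ ≠ 1 := fun e => v1 (by simpa using e)
      have hp : GW66.Pair (P : Subgroup T) v (y * v * y⁻¹) :=
        ⟨hv, hw, v1, hw1, (hymove v hv v1).symm⟩
      refine (mul_inv_eq_iff_eq_mul.mp ?_).symm
      rw [show y ^ 3 * v * (y ^ 3)⁻¹ = y * (y * (y * v * y⁻¹) * y⁻¹) * y⁻¹ by
        simp only [pow_succ, pow_zero, one_mul]; group]
      set w := y * v * y⁻¹ with hwdef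
      rcases GW66.klein_cases hV0 hp ((mem_normalizer_iff.mp hyn w).mp hw) with e | e | e | e
      · exact absurd (by simpa using e) hw1
      · obtain ⟨i, hi⟩ := exists_pow_eq_self_of_coprime (x := y) (n := 2)
          (Nat.coprime_two_left.mpr hyo)
        have hc : Commute (y ^ 2) v := mul_inv_eq_iff_eq_mul.mp (by
          rw [show y ^ 2 * v * (y ^ 2)⁻¹ = y * w * y⁻¹ by rw [hwdef, pow_two]; group, e])
        have := hc.pow_left i
        rw [hi] at this
        exact absurd (mul_inv_eq_iff_eq_mul.mpr this) (hymove v hv v1)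
      · exact absurd e (hymove w hw hw1)
      · rw [e]
        calc y * (v * w) * y⁻¹ = y * v * y⁻¹ * (y * w * y⁻¹) := by group
          _ = v := by
            rw [← hwdef, e, GW66.klein_comm hV0 hv hw, ← mul_assoc, GW66.klein_sq hV0 hw, one_mul]
    have d2 : orderOf (y ^ 3) ∣ 4 := hV0.card_four ▸ Subgroup.orderOf_dvd_natCard _ h3
    have ho : Odd (orderOf (y ^ 3)) := hyo.of_dvd_nat (orderOf_pow_dvd 3)
    have hco : Nat.Coprime (orderOf (y ^ 3)) 4 :=
      Nat.Coprime.pow_right 2 ho.coprime_two_right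
    exact orderOf_eq_one_iff.mp (Nat.eq_one_of_dvd_coprimes hco dvd_rfl d2)
  obtain ⟨j, hj, hcard⟩ : ∃ j, (j = 55 ∨ j = 91) ∧ Nat.card T = 12 * j := by
    obtain ⟨j, -, hG, e1, e2⟩ := GW66.PSL.card_psl hF
    rw [hhalf] at hG e1 e2
    rw [← Nat.card_congr e.toEquiv] at hG
    rcases hq with h | h <;> rw [h] at e1 e2
    · exact ⟨j, Or.inl (e1 rfl), hG⟩
    · exact ⟨j, Or.inr (e2 rfl), hG⟩
  refine ⟨P, (P : Subgroup T).map T.subtype, (y : Q), j, rfl, ?_⟩
  refine ⟨klein_map _ T.subtype_injective hV0, ?_, y.2, by rw [Subgroup.orderOf_coe]; exact hy3,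
    ?_, ?_, ?_, ?_, hcard, hj, ?_⟩
  · rintro _ ⟨v, -, rfl⟩; exact v.2
  · rintro _ ⟨v, hv, rfl⟩
    exact ⟨y * v * y⁻¹, (mem_normalizer_iff.mp hyn v).mp hv, rfl⟩
  · rintro _ ⟨v, hv, rfl⟩ v1 he
    exact hymove v hv (fun h0 => v1 (by rw [h0]; rfl)) (Subtype.ext he)
  · intro z hz hc
    refine ⟨⟨z, hz⟩, ?_, rfl⟩
    rw [SetLike.mem_coe, ← kf.self]
    exact mem_centralizer_iff.mpr fun v hv => Subtype.ext (hc v ⟨v, hv, rfl⟩).symm
  · intro R hRT hVR hR
    have h1 : (P : Subgroup T) ≤ R.subgroupOf T := fun v hv => mem_subgroupOf.mpr (hVR ⟨v, hv, rfl⟩)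
    have h2 : R.subgroupOf T = P :=
      P.is_maximal' (hR.of_equiv (subgroupOfEquivOfLe hRT).symm) h1
    rw [← h2, map_subgroupOf_eq_of_le hRT]
  · rintro _ ⟨v, hv, rfl⟩ v1
    have hv1 : v ≠ 1 := fun h0 => v1 (by rw [h0]; rfl)
    obtain ⟨T', -, hc', -, hm'⟩ := GW66.PSL.torus hF hVF (a := e v)
      (by rw [MulEquiv.orderOf_eq]; exact GW66.klein_orderOf hV0 hv hv1)
    refine ⟨T'.map (T.subtype.comp e.symm.toMonoidHom), ?_, ?_, fun z => ⟨?_, ?_⟩⟩
    · rintro _ ⟨z, -, rfl⟩; exact (e.symm z).2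
    · rw [card_map_of_injective (f := T.subtype.comp e.symm.toMonoidHom) fun _ _ he => e.symm.injective (T.subtype_injective he), hc', hhalf]
    · rintro ⟨z, hz, rfl⟩
      obtain ⟨ho, hc⟩ := (hm' z).mp hz
      refine ⟨(e.symm z).2, ?_, ?_⟩
      · show Odd (orderOf ((e.symm z : T) : Q))
        rw [Subgroup.orderOf_coe, MulEquiv.orderOf_eq]; exact ho
      · show ((e.symm z : T) : Q) * (v : Q) = (v : Q) * ((e.symm z : T) : Q)
        rw [← Subgroup.coe_mul, ← Subgroup.coe_mul]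
        refine congrArg Subtype.val (e.injective ?_)
        rw [map_mul, map_mul, e.apply_symm_apply, hc]
    · rintro ⟨hz, ho, hc⟩
      refine ⟨e ⟨z, hz⟩, (hm' _).mpr ⟨?_, ?_⟩, by simp⟩
      · rw [MulEquiv.orderOf_eq, Subgroup.orderOf_mk]; exact ho
      · rw [← map_mul, ← map_mul]
        exact congrArg e (Subtype.ext hc)

theorem five_two_group {F : Type} [Field F] [Fintype F] (hq : Fintype.card F = 5)
    (e : T ≃* Matrix.ProjectiveSpecialLinearGroup (Fin 2) F) :
    ∃ t : T, orderOf t = 2 ∧ IsPGroup 2 (centralizer ({t} : Set T)) := by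
  haveI : Fact (Nat.Prime 2) := ⟨Nat.prime_two⟩
  have hF : Fintype.card F % 8 = 3 ∨ Fintype.card F % 8 = 5 := by omega
  let P : Sylow 2 (Matrix.ProjectiveSpecialLinearGroup (Fin 2) F) := default
  have hV := Classical10.isKleinFour_sylow_PSL rfl hF P
  obtain ⟨a, ha, a1⟩ : ∃ a ∈ (P : Subgroup _), a ≠ (1 : Matrix.ProjectiveSpecialLinearGroup (Fin 2) F) := by
    by_contra hcon
    push Not at hcon
    have := hV.card_four
    rw [(eq_bot_iff_forall _).mpr hcon, card_bot] at this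
    omega
  have hao := GW66.klein_orderOf hV ha a1
  obtain ⟨T', -, hc', hC, -⟩ := GW66.PSL.torus hF hV hao
  rw [hc', hq, show GW66.PSL.half 5 = 1 from rfl] at hC
  refine ⟨e.symm a, by rw [MulEquiv.orderOf_eq]; exact hao, fun z => ⟨2, ?_⟩⟩
  have hz : e z ∈ centralizer ({a} : Set _) := mem_centralizer_singleton_iff.mpr (by
    have := congrArg e (mem_centralizer_singleton_iff.mp z.2)
    rwa [map_mul, map_mul, e.apply_symm_apply] at this)
  have hd : orderOf (e (z : T)) ∣ 4 := by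
    have := Subgroup.orderOf_dvd_natCard _ hz
    rwa [hC, mul_one] at this
  rw [MulEquiv.orderOf_eq, orderOf_dvd_iff_pow_eq_one] at hd
  exact Subtype.ext (by simpa using hd)

section Eleven

set_option maxRecDepth 10000

/-- `(0 1)(2 3)` -/
def pa : alternatingGroup (Fin 5) := 
  ⟨Equiv.swap 0 1 * Equiv.swap 2 3, Equiv.Perm.mem_alternatingGroup.mpr (by decide)⟩

/-- `(0 2)(1 3)` -/
def pb : alternatingGroup (Fin 5) := 
  ⟨Equiv.swap 0 2 * Equiv.swap 1 3, Equiv.Perm.mem_alternatingGroup.mpr (by decide)⟩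

/-- A `3`-cycle fixing `3` and `4`. -/
def pc : alternatingGroup (Fin 5) := 
  ⟨Equiv.swap 0 1 * Equiv.swap 1 2, Equiv.Perm.mem_alternatingGroup.mpr (by decide)⟩

/-- A permutation not normalising the four-group. -/
def pd : alternatingGroup (Fin 5) := 
  ⟨Equiv.swap 0 4 * Equiv.swap 1 2, Equiv.Perm.mem_alternatingGroup.mpr (by decide)⟩

/-- The four-group on `{0, 1, 2, 3}`. -/
def fours : Subgroup (alternatingGroup (Fin 5)) where
  carrier := {g | g ∈ [1, pa, pb, pa * pb]}
  one_mem' := by decide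
  mul_mem' {g h} hg hh := by
    revert h
    revert g
    decide
  inv_mem' {g} hg := by
    revert g
    decide

theorem fours_klein : IsKleinFour fours := by
  have hc : Nat.card fours = 4 := by
    have : (fours : Set (alternatingGroup (Fin 5))) =
        ↑({1, pa, pb, pa * pb} : Finset (alternatingGroup (Fin 5))) := by
      ext g; simp [fours]
    show Nat.card ((fours : Set (alternatingGroup (Fin 5))) : Type) = 4
    rw [this, Nat.card_coe_set_eq, Set.ncard_coe_finset]
    decide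
  refine ⟨hc, ?_⟩
  haveI : Nontrivial fours := Finite.one_lt_card_iff_nontrivial.mp (by rw [hc]; norm_num)
  haveI : Fact (Nat.Prime 2) := ⟨Nat.prime_two⟩
  refine (Monoid.exponent_eq_prime_iff Nat.prime_two).mpr fun g hg => orderOf_eq_prime ?_ hg
  obtain ⟨g, hg'⟩ := g
  have key : ∀ g ∈ [1, pa, pb, pa * pb], g ^ 2 = 1 := by decide
  exact Subtype.ext (key g hg')

theorem not_eleven {F : Type} [Field F] [Fintype F] (hq : Fintype.card F = 11)
    (hM : MaxNorm Q) (e : Q ≃* Matrix.ProjectiveSpecialLinearGroup (Fin 2) F) : False := by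
  haveI : Fact (Nat.Prime 2) := ⟨Nat.prime_two⟩
  have hF : Fintype.card F % 8 = 3 ∨ Fintype.card F % 8 = 5 := by omega
  obtain ⟨H, hH, ⟨eH⟩⟩ := PSL211.exists_icosahedral hq
  set f : alternatingGroup (Fin 5) →* Q :=
    (e.symm.toMonoidHom.comp H.subtype).comp eH.symm.toMonoidHom with hf
  have hinj : Function.Injective f :=
    (e.symm.injective.comp H.subtype_injective).comp eH.symm.injective
  set V := fours.map f with hVdef
  have hV : IsKleinFour V := klein_map f hinj fours_klein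
  have kf := GW66.pslFacts Q F hF ⟨e⟩ V hV
  have hVR : V ≤ f.range := map_le_range f fours
  have hpa : f pa ∈ V := ⟨pa, show pa ∈ [1, pa, pb, pa * pb] by decide, rfl⟩
  have pa1 : f pa ≠ 1 := fun h0 => absurd (hinj (h0.trans (map_one f).symm)) (by decide)
  have hNR : normalizer (V : Set Q) ≤ f.range := fun g hg => by
    obtain ⟨z, hz, hze⟩ := (mem_normalizer_iff.mp hg _).mp hpa
    have key : ∀ z ∈ [1, pa, pb, pa * pb], z ≠ 1 → ∃ c ∈ [1, pc, pc * pc],
        c * pa * c⁻¹ = z ∧ ∀ w ∈ [1, pa, pb, pa * pb], c * w * c⁻¹ ∈ [1, pa, pb, pa * pb] := by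
      decide
    have z1 : z ≠ 1 := fun h0 => pa1 (by
      rw [h0, map_one] at hze
      simpa using hze.symm)
    obtain ⟨c, -, hc, hcn⟩ := key z hz z1
    have hcN : f c ∈ normalizer (V : Set Q) := GW66.PSL.mem_normalizer_of_forall fun v hv => by
      obtain ⟨w, hw, rfl⟩ := hv
      exact ⟨c * w * c⁻¹, hcn w hw, by simp⟩
    have hfix : (f c)⁻¹ * g * f pa = f pa * ((f c)⁻¹ * g) := by
      have e1 : g * f pa = f z * g := mul_inv_eq_iff_eq_mul.mp hze.symm
      rw [mul_assoc, e1, ← hc, map_mul, map_mul, map_inv]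
      group
    have hin := GW66.centralizes_of_fix hV kf.sylow (mul_mem (inv_mem hcN) hg) hpa pa1 hfix
    rw [kf.self] at hin
    have := mul_mem (show f c ∈ f.range from ⟨c, rfl⟩) (hVR hin)
    rwa [mul_inv_cancel_left] at this
  have hRtop : f.range ≠ ⊤ := fun h => by
    have h1 : Nat.card f.range = Nat.card (alternatingGroup (Fin 5)) :=
      (Nat.card_congr (MonoidHom.ofInjective hinj).toEquiv).symm
    rw [h, card_top, Nat.card_congr e.toEquiv, PSL211.card_psl hq, nat_card_alternatingGroup,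
      Nat.card_fin] at h1
    norm_num [Nat.factorial] at h1
  have hV0 : V ≠ ⊥ := fun h => pa1 (by rw [h] at hpa; exact mem_bot.mp hpa)
  have hco := hM V hV0 (TwoPrimes.of_isPGroup
    (IsPGroup.of_card (p := 2) (n := 2) (by rw [hV.card_four]; rfl)))
  have heq := eq_of_coatom hco hNR hRtop
  have hd : f pd ∈ normalizer (V : Set Q) := heq.symm ▸ (⟨pd, rfl⟩ : f pd ∈ f.range)
  obtain ⟨w, hw, hwe⟩ := (mem_normalizer_iff.mp hd _).mp hpa
  rw [← map_inv, ← map_mul, ← map_mul] at hwe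
  have hnd : pd * pa * pd⁻¹ ∉ [1, pa, pb, pa * pb] := by decide
  exact hnd (hinj hwe ▸ hw)

end Eleven

end Small

theorem small : SmallStmt.{u} := by
  intro Q _ _ T hC h2 F _ _ hq he
  obtain ⟨e⟩ := he
  rcases hq with h5 | hq
  · obtain ⟨t, ht, hp⟩ := Small.five_two_group h5 e
    exact absurd hp (h2 t ht)
  obtain ⟨P, V, x, j, hPV, hD⟩ := Small.data_of_psl hq e
  have hT := Small.eq_top hC hD P hPV
  let eQ : Q ≃* Matrix.ProjectiveSpecialLinearGroup (Fin 2) F :=
    (Subgroup.topEquiv.symm.trans (MulEquiv.subgroupCongr hT.symm)).trans e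
  rcases hq with h11 | h13
  · exact (Small.not_eleven h11 hC.max eQ).elim
  · exact ⟨eQ.trans (LinearGroup.pslCongr (ZMod.ringEquivOfPrime F (by norm_num) h13).symm)⟩

end Cfsg.Agent.MaxNorm91
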